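import Cfsg.Agent.M11ThreeLocal.Cfg

/-!
# Consequences of the configuration
-/

set_option autoImplicit false

namespace Cfsg.Agent.M11ThreeLocal

open Subgroup

set_option linter.unusedSectionVars false

variable {G : Type*} [Group G] [Finite G] {M : Subgroup G} {e h s t z a : G}

omit [Finite G] in
theorem cj_one' (x : G) : cj 1 x = x := by simp [cj]

omit [Finite G] in
theorem cj_inv_cj (g x : G) : cj g⁻¹ (cj g x) = x := by simp only [cj]; group

omit [Finite G] in
theorem cj_cj_inv (g x : G) : cj g (cj g⁻¹ x) = x := by simp only [cj]; group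

omit [Finite G] in
theorem cj_injective (g : G) : Function.Injective (cj g) :=
  Function.LeftInverse.injective (cj_inv_cj g)

omit [Finite G] in
theorem cj_commute {x y : G} (g : G) (hc : Commute x y) : Commute (cj g x) (cj g y) := by
  show cj g x * cj g y = cj g y * cj g x
  rw [← cj_mul, ← cj_mul, hc.eq]

omit [Finite G] in
theorem cj_of_commute {g x : G} (hc : Commute g x) : cj g x = x := cj_eq_self.2 hc.eq

omit [Finite G] in
theorem commute_of_cj {g x : G} (hc : cj g x = x) : Commute g x := cj_eq_self.1 hc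

omit [Finite G] in
theorem eq_one_of_sq_cube {x : G} (h2 : x * x = 1) (h3 : x ^ 3 = 1) : x = 1 := by
  rwa [pow_succ, sq, h2, one_mul] at h3

omit [Finite G] in
/-- An involution is its own inverse. -/
theorem inv_of_sq {x : G} (hx : x * x = 1) : x⁻¹ = x := inv_eq_of_mul_eq_one_right hx

namespace Cfg

variable (H : Cfg M e h s t z a)

include H

theorem a8 : a ^ 8 = 1 := by rw [← H.a_ord, pow_orderOf_eq_one]

theorem zz : z * z = 1 := by rw [H.z_eq, ← pow_add]; exact H.a8

theorem z_ne : z ≠ 1 := fun hz => by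
  have h1 := orderOf_dvd_of_pow_eq_one (H.z_eq ▸ hz : a ^ 4 = 1)
  rw [H.a_ord] at h1
  omega

theorem za : Commute z a := by rw [H.z_eq]; exact (Commute.refl a).pow_left 4

theorem sa : cj s a = a ^ 3 := by rw [cj, inv_of_sq H.s_sq, H.sas]

theorem sz : Commute s z := commute_of_cj <| by
  rw [H.z_eq, ← cj_pow, H.sa, ← pow_mul, show 3 * 4 = 8 + 4 by norm_num, pow_add, H.a8, one_mul]

theorem zN : z ∈ normalizer (M : Set G) := H.z_eq ▸ pow_mem H.aN 4

theorem t_eq' : t = z * s := by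
  have h1 : cj s (a ^ 2)⁻¹ = (a ^ 6)⁻¹ := by rw [cj_inv, ← cj_pow, H.sa, ← pow_mul]
  calc t = a ^ 2 * (cj s (a ^ 2)⁻¹) * s := by
        rw [H.t_eq]; simp only [cj, mul_assoc, inv_mul_cancel, mul_one]
    _ = z * s := by
        have h4 : (a ^ 4)⁻¹ = a ^ 4 := inv_of_sq (H.z_eq ▸ H.zz)
        rw [h1, H.z_eq]
        congr 1
        rw [← h4]
        group

theorem st : s * t = z := by rw [H.t_eq', H.sz.eq.symm, ← mul_assoc, H.s_sq, one_mul]

theorem ts_comm : Commute t s := by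
  rw [H.t_eq']; exact (H.sz.symm).mul_left (Commute.refl s)

theorem ts : t * s = z := by rw [H.ts_comm.eq, H.st]

theorem tt : t * t = 1 := by
  rw [H.t_eq', H.sz.mul_mul_mul_comm, H.zz, H.s_sq, one_mul]

theorem zt : Commute z t := by rw [H.t_eq']; exact (Commute.refl z).mul_right H.sz.symm

theorem s_ne : s ≠ 1 := fun h0 => by
  have h1 := H.sas
  rw [h0, one_mul, mul_one] at h1
  have h2 : a ^ 2 = 1 := by
    have : a * 1 = a * a ^ 2 := by rw [mul_one, ← pow_succ']; exact h1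
    exact (mul_left_cancel this).symm
  have h3 := orderOf_dvd_of_pow_eq_one h2
  rw [H.a_ord] at h3
  omega

theorem s_ne_z : s ≠ z := fun h0 => by
  have h1 := H.sa
  rw [h0, cj_of_commute H.za] at h1
  have h2 : a ^ 2 = 1 := by
    have : a * 1 = a * a ^ 2 := by rw [mul_one, ← pow_succ']; exact h1
    exact (mul_left_cancel this).symm
  have h3 := orderOf_dvd_of_pow_eq_one h2
  rw [H.a_ord] at h3
  omega

theorem t_ne : t ≠ 1 := fun h0 => H.s_ne_z <| by
  rw [H.t_eq'] at h0
  rw [← inv_of_sq H.zz]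
  exact eq_inv_of_mul_eq_one_right h0

theorem t_ne_s : t ≠ s := fun h0 => H.z_ne <| by rw [← H.ts, h0, H.s_sq]

theorem a2_s : cj (a ^ 2) s = t := H.t_eq.symm

theorem a2_z : cj (a ^ 2) z = z := cj_of_commute (H.za.pow_right 2).symm

theorem a2_t : cj (a ^ 2) t = s := by
  rw [H.t_eq', cj_mul, H.a2_z, H.a2_s, H.t_eq', ← mul_assoc, H.zz, one_mul]

theorem a2_e : cj (a ^ 2) e = h := H.h_eq.symm

theorem hM : h ∈ M := H.h_eq ▸ (mem_normalizer_iff.1 (pow_mem H.aN 2) e).1 H.eM

theorem h_ne : h ≠ 1 := fun h0 => H.e_ne (by rw [H.h_eq] at h0; exact conj_eq_one_iff.1 h0)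

theorem e3 : e ^ 3 = 1 := H.cube e H.eM

theorem h3 : h ^ 3 = 1 := H.cube h H.hM

theorem eh : Commute e h := H.comm e H.eM h H.hM

theorem a2_h : cj (a ^ 2) h = e⁻¹ := by
  rw [H.h_eq, cj_cj, ← pow_add, ← H.z_eq, H.z_inv e H.eM]

theorem se : Commute s e := (H.fix e H.eM).2 (mem_zpowers e)

theorem te : cj t e = e⁻¹ := by
  rw [H.t_eq', ← cj_cj, cj_of_commute H.se, H.z_inv e H.eM]

theorem th : Commute t h := by
  have h1 := cj_commute (a ^ 2) H.se
  rwa [H.a2_s, H.a2_e] at h1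

theorem sh : cj s h = h⁻¹ := by
  rw [show s = z * t by rw [H.t_eq', ← mul_assoc, H.zz, one_mul], ← cj_cj, cj_of_commute H.th,
    H.z_inv h H.hM]

theorem h_notMem : h ∉ zpowers e := fun h0 => by
  have h1 := cj_of_commute ((H.fix h H.hM).2 h0 : Commute s h)
  rw [H.sh] at h1
  have h2 : h * h = 1 := by nth_rewrite 1 [← h1]; exact inv_mul_cancel h
  exact H.h_ne (eq_one_of_sq_cube h2 H.h3)

theorem cjM {g : G} (hg : g ∈ normalizer (M : Set G)) {m : G} (hm : m ∈ M) : cj g m ∈ M :=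
  (mem_normalizer_iff.1 hg m).1 hm

/-- The nine-group is generated by `e` and `h`. -/
theorem M_cases {m : G} (hm : m ∈ M) : ∃ i j : Fin 3, m = e ^ (i : ℕ) * h ^ (j : ℕ) := by
  set P := closure ({e, h} : Set G) with hP
  have hle : P ≤ M := (closure_le _).2 (by rintro x (rfl | rfl); exacts [H.eM, H.hM])
  have heP : e ∈ P := subset_closure (by simp)
  have hhP : h ∈ P := subset_closure (by simp)
  have hPM : P = M := by
    by_contra hne
    rcases line_cases H.card H.cube P hle (fun e' => H.e_ne (by rw [e'] at heP; exact heP)) hne heP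
      H.e_ne h hhP with e' | e' | e'
    · exact H.h_ne e'
    · exact H.h_notMem (e'.symm ▸ mem_zpowers e)
    · exact H.h_notMem (e'.symm ▸ inv_mem (mem_zpowers e))
  rw [← hPM, hP] at hm
  obtain ⟨i, j, rfl⟩ : ∃ i j : ℕ, m = e ^ i * h ^ j := by
    clear hPM hle heP hhP
    induction hm using closure_induction with
    | mem x hx =>
      rcases hx with rfl | rfl
      · exact ⟨1, 0, by simp⟩
      · exact ⟨0, 1, by simp⟩
    | one => exact ⟨0, 0, by simp⟩
    | mul x y _ _ hx hy =>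
      obtain ⟨i, j, rfl⟩ := hx
      obtain ⟨i', j', rfl⟩ := hy
      exact ⟨i + i', j + j', by
        rw [(H.eh.pow_pow i' j).symm.mul_mul_mul_comm, ← pow_add, ← pow_add]⟩
    | inv x _ hx =>
      obtain ⟨i, j, rfl⟩ := hx
      refine ⟨2 * i, 2 * j, inv_eq_of_mul_eq_one_right ?_⟩
      rw [(H.eh.pow_pow (2 * i) j).symm.mul_mul_mul_comm, ← pow_add, ← pow_add,
        show i + 2 * i = 3 * i by omega, show j + 2 * j = 3 * j by omega, pow_mul, pow_mul, H.e3, H.h3,
        one_pow, one_pow, one_mul]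
  refine ⟨⟨i % 3, Nat.mod_lt _ (by norm_num)⟩, ⟨j % 3, Nat.mod_lt _ (by norm_num)⟩, ?_⟩
  rw [pow_eq_pow_mod i H.e3, pow_eq_pow_mod j H.h3]

/-- The powers of `a` move `e` freely. -/
theorem a_free {i : ℕ} (hi : i < 8) (hc : cj (a ^ i) e = e) : i = 0 := by
  by_contra h0
  have h4 : cj (a ^ 4) e = e := by
    have key : ∀ k : ℕ, cj (a ^ (i * k)) e = e := fun k => by
      induction k with
      | zero => simp [cj]
      | succ k ih => rw [Nat.mul_succ, pow_add, ← cj_cj, hc, ih]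
    have hred : ∀ k : ℕ, a ^ (i * k) = a ^ ((i * k) % 8) := fun k => pow_eq_pow_mod _ H.a8
    interval_cases i <;> first
      | omega
      | (have := key 4; rw [hred 4] at this; exact this)
      | (have := key 2; rw [hred 2] at this; exact this)
      | (have := key 1; rw [hred 1] at this; exact this)
  rw [← H.z_eq, H.z_inv e H.eM] at h4
  have h2 : e * e = 1 := by nth_rewrite 1 [← h4]; exact inv_mul_cancel e
  exact H.e_ne (eq_one_of_sq_cube h2 H.e3)

/-- Normal form in the normalizer. -/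
theorem N_cases {g : G} (hg : g ∈ normalizer (M : Set G)) :
    ∃ i : Fin 8, ∃ m ∈ M, g = a ^ (i : ℕ) * m ∨ g = a ^ (i : ℕ) * s * m := by
  let f : Fin 8 × Bool × M → normalizer (M : Set G) := fun p =>
    ⟨a ^ (p.1 : ℕ) * (if p.2.1 then s else 1) * p.2.2,
      mul_mem (mul_mem (pow_mem H.aN _) (by split <;> [exact H.sN; exact one_mem _]))
        (le_normalizer p.2.2.2)⟩
  have hfix : ∀ p : Fin 8 × Bool × M, cj ((f p : G)) e = cj (a ^ (p.1 : ℕ)) e := fun p => by
    show cj (a ^ (p.1 : ℕ) * (if p.2.1 then s else 1) * p.2.2) e = _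
    rw [← cj_cj, cj_of_commute (H.comm _ p.2.2.2 _ H.eM : Commute (p.2.2 : G) e), ← cj_cj]
    split
    · rw [cj_of_commute H.se]
    · rw [cj_one']
  have hinj : Function.Injective f := by
    rintro ⟨i, b, m⟩ ⟨j, c, m'⟩ hf
    have h1 := (hfix (i, b, m)).symm.trans ((congrArg (fun x : normalizer (M : Set G) => cj (x : G) e) hf).trans
      (hfix (j, c, m')))
    have hij : i = j := by
      rcases le_total (i : ℕ) j with hle | hle
      · refine Fin.ext ?_
        have h2 : cj (a ^ ((j : ℕ) - i)) e = e := cj_injective (a ^ (i : ℕ)) (by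
          rw [cj_cj, ← pow_add, Nat.add_sub_cancel' hle]; exact h1.symm)
        have := H.a_free (by omega) h2
        omega
      · refine Fin.ext ?_
        have h2 : cj (a ^ ((i : ℕ) - j)) e = e := cj_injective (a ^ (j : ℕ)) (by
          rw [cj_cj, ← pow_add, Nat.add_sub_cancel' hle]; exact h1)
        have := H.a_free (by omega) h2
        omega
    subst hij
    have h2 := congrArg Subtype.val hf
    simp only [f, mul_assoc, mul_right_inj] at h2
    have hs : s ∉ M := fun hs => H.s_ne (eq_one_of_sq_cube H.s_sq (H.cube s hs))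
    rcases b <;> rcases c <;> simp at h2
    · rw [h2]
    · exact absurd ((mul_mem_cancel_right m'.2).1 (h2 ▸ m.2)) hs
    · exact absurd ((mul_mem_cancel_right m.2).1 (h2.symm ▸ m'.2)) hs
    · rw [h2]
  have hcard : Nat.card (Fin 8 × Bool × M) = Nat.card (normalizer (M : Set G)) := by
    rw [H.cardN]; simp [H.card]
  obtain ⟨⟨i, b, m⟩, hp⟩ := (hinj.bijective_of_nat_card_le hcard.ge).2 ⟨g, hg⟩
  have h2 := congrArg Subtype.val hp
  refine ⟨i, m, m.2, ?_⟩
  rcases b
  · left; simpa [f] using h2.symm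
  · right; simpa [f] using h2.symm

/-- The centraliser of `e`. -/
theorem cent_e {g : G} (hg : Commute g e) : ∃ m ∈ M, g = m ∨ g = s * m := by
  obtain ⟨i, m, hm, hc⟩ := H.N_cases
    (H.centN e H.eM H.e_ne (mem_centralizer_singleton_iff.2 hg.eq))
  have hme : Commute m e := H.comm m hm e H.eM
  refine ⟨m, hm, ?_⟩
  have h0 : (i : ℕ) = 0 := by
    refine H.a_free i.2 ?_
    have h1 := cj_of_commute hg
    rcases hc with rfl | rfl
    · rwa [← cj_cj, cj_of_commute hme] at h1
    · rwa [← cj_cj, cj_of_commute hme, ← cj_cj, cj_of_commute H.se] at h1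
  rcases hc with rfl | rfl <;> simp [h0]

/-- All non-trivial elements of the nine-group are conjugate. -/
theorem conjM {m : G} (hm : m ∈ M) (h1 : m ≠ 1) : ∃ i : ℕ, cj (a ^ i) e = m := by
  classical
  let f : Fin 8 → {x : M // x ≠ 1} := fun i =>
    ⟨⟨cj (a ^ (i : ℕ)) e, H.cjM (pow_mem H.aN _) H.eM⟩, fun h0 =>
      H.e_ne (cj_eq_one.1 (congrArg Subtype.val h0))⟩
  have hinj : Function.Injective f := by
    intro i j hf
    have h2 : cj (a ^ (i : ℕ)) e = cj (a ^ (j : ℕ)) e := congrArg (fun x => ((x.1 : M) : G)) hf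
    rcases le_total (i : ℕ) j with hle | hle
    · refine Fin.ext ?_
      have h3 : cj (a ^ ((j : ℕ) - i)) e = e := cj_injective (a ^ (i : ℕ)) (by
        rw [cj_cj, ← pow_add, Nat.add_sub_cancel' hle]; exact h2.symm)
      have := H.a_free (by omega) h3
      omega
    · refine Fin.ext ?_
      have h3 : cj (a ^ ((i : ℕ) - j)) e = e := cj_injective (a ^ (j : ℕ)) (by
        rw [cj_cj, ← pow_add, Nat.add_sub_cancel' hle]; exact h2)
      have := H.a_free (by omega) h3
      omega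
  have hc : Nat.card {x : M // x ≠ 1} ≤ Nat.card (Fin 8) := by
    letI := Fintype.ofFinite M
    have h9 := H.card
    rw [Nat.card_eq_fintype_card] at h9
    rw [Nat.card_eq_fintype_card, Fintype.card_subtype_compl, Fintype.card_subtype_eq, h9]
    simp
  obtain ⟨i, hi⟩ := (hinj.bijective_of_nat_card_le hc).2 ⟨⟨m, hm⟩, fun h0 => h1 (congrArg Subtype.val h0)⟩
  exact ⟨i, congrArg (fun x => ((x.1 : M) : G)) hi⟩

/-- All elements of order three are conjugate. -/
theorem three {d : G} (hd : d ^ 3 = 1) (h1 : d ≠ 1) : ∃ g : G, cj g e = d := by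
  obtain ⟨k, hk⟩ := H.sylow d hd
  obtain ⟨i, hi⟩ := H.conjM hk fun h0 => h1 (cj_eq_one.1 h0)
  exact ⟨k⁻¹ * a ^ i, by rw [← cj_cj, hi, cj_inv_cj]⟩

/-- An involution centralising `e` is conjugate to `s` within the nine-group. -/
theorem invol_e {v : G} (hv : v * v = 1) (h1 : v ≠ 1) (hc : Commute v e) :
    ∃ m ∈ M, cj s m = m⁻¹ ∧ v = s * m := by
  obtain ⟨m, hm, rfl | rfl⟩ := H.cent_e hc
  · exact absurd (eq_one_of_sq_cube hv (H.cube v hm)) h1
  · refine ⟨m, hm, eq_inv_of_mul_eq_one_left ?_, rfl⟩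
    rw [cj, inv_of_sq H.s_sq, ← hv]
    group

/-- An involution centralising an element of order three is conjugate to `s`. -/
theorem invol_conj {d v : G} (hd : d ^ 3 = 1) (hd1 : d ≠ 1) (hv : v * v = 1) (h1 : v ≠ 1)
    (hc : Commute v d) : IsConj s v := by
  obtain ⟨g, rfl⟩ := H.three hd hd1
  have hc' : Commute (cj g⁻¹ v) e := by
    have := cj_commute g⁻¹ hc
    rwa [cj_inv_cj] at this
  obtain ⟨m, hm, hinv, hv'⟩ := H.invol_e (by rw [← cj_mul, hv, cj_one])
    (fun h0 => h1 (cj_eq_one.1 h0)) hc'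
  refine isConj_iff.2 ⟨g * m, ?_⟩
  have h2 : cj m s = s * m := by
    calc cj m s = s * cj s m * m⁻¹ := by
          simp only [cj, ← mul_assoc, inv_of_sq H.s_sq, H.s_sq, one_mul]
      _ = s * (m⁻¹ * m⁻¹) := by rw [hinv, mul_assoc]
      _ = s * m := by
          congr 1
          calc m⁻¹ * m⁻¹ = (m ^ 3)⁻¹ * m := by group
            _ = m := by rw [H.cube m hm, inv_one, one_mul]
  show cj (g * m) s = v
  rw [← cj_cj, h2, ← hv', cj_cj_inv]

/-- Commuting involutions centralising an element of order three are equal. -/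
theorem invol_unique {d u v : G} (hd : d ^ 3 = 1) (hd1 : d ≠ 1) (hu : u * u = 1) (hu1 : u ≠ 1)
    (hv : v * v = 1) (hv1 : v ≠ 1) (huv : Commute u v) (huc : Commute u d) (hvc : Commute v d) :
    u = v := by
  obtain ⟨g, rfl⟩ := H.three hd hd1
  have key : ∀ w : G, w * w = 1 → w ≠ 1 → Commute w (cj g e) →
      ∃ m ∈ M, cj g⁻¹ w = s * m := fun w hw hw1 hwc => by
    have hc' := cj_commute g⁻¹ hwc
    rw [cj_inv_cj] at hc'
    obtain ⟨m, hm, -, hv'⟩ := H.invol_e (by rw [← cj_mul, hw, cj_one])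
      (fun h0 => hw1 (cj_eq_one.1 h0)) hc'
    exact ⟨m, hm, hv'⟩
  obtain ⟨m, hm, hm'⟩ := key u hu hu1 huc
  obtain ⟨n, hn, hn'⟩ := key v hv hv1 hvc
  have hM' : cj g⁻¹ (u * v) ∈ M := by
    rw [cj_mul, hm', hn', show s * m * (s * n) = (s * m * s⁻¹) * (s * s) * n by group, H.s_sq, mul_one]
    exact mul_mem (H.cjM H.sN hm) hn
  have h2 : cj g⁻¹ (u * v) * cj g⁻¹ (u * v) = 1 := by
    rw [← cj_mul, huv.symm.mul_mul_mul_comm, hu, hv, one_mul, cj_one]
  have h3 : u * v = 1 := conj_eq_one_iff.1 (show cj g⁻¹ (u * v) = 1 from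
    eq_one_of_sq_cube h2 (H.cube _ hM'))
  rw [eq_inv_of_mul_eq_one_left h3, inv_of_sq hv]

theorem card_cent {d : G} (hd : d ^ 3 = 1) (hd1 : d ≠ 1) :
    Nat.card (centralizer ({d} : Set G)) = 18 := by
  obtain ⟨g, rfl⟩ := H.three hd hd1
  let f : Bool × M → centralizer ({cj g e} : Set G) := fun p =>
    ⟨cj g ((if p.1 then s else 1) * p.2), mem_centralizer_singleton_iff.2 (cj_commute g (by
      rcases p with ⟨_ | _, m⟩
      · simpa [commute_iff_eq] using H.comm m m.2 e H.eM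
      · simpa using H.se.mul_left (H.comm m m.2 e H.eM : Commute (m : G) e))).eq⟩
  have hbij : Function.Bijective f := by
    constructor
    · rintro ⟨b, m⟩ ⟨c, n⟩ hf
      have h2 := cj_injective g (congrArg Subtype.val hf)
      have hs : s ∉ M := fun hs => H.s_ne (eq_one_of_sq_cube H.s_sq (H.cube s hs))
      rcases b <;> rcases c <;> simp at h2
      · rw [h2]
      · exact absurd ((mul_mem_cancel_right n.2).1 (h2 ▸ m.2)) hs
      · exact absurd ((mul_mem_cancel_right m.2).1 (h2.symm ▸ n.2)) hs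
      · rw [h2]
    · rintro ⟨x, hx⟩
      have hc : Commute (cj g⁻¹ x) e := by
        have h2 := cj_commute g⁻¹ (mem_centralizer_singleton_iff.1 hx : Commute x (cj g e))
        rwa [cj_inv_cj] at h2
      obtain ⟨m, hm, hx' | hx'⟩ := H.cent_e hc
      · exact ⟨(false, ⟨m, hm⟩), Subtype.ext (by simp [f, ← hx', cj_cj_inv])⟩
      · exact ⟨(true, ⟨m, hm⟩), Subtype.ext (by simp [f, ← hx', cj_cj_inv])⟩
  rw [← Nat.card_congr (Equiv.ofBijective f hbij)]
  simp [H.card]

/-- Elements of the normalizer centralising `s` and `t`. -/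
theorem four {g : G} (hg : g ∈ normalizer (M : Set G)) (hs : Commute g s) (ht : Commute g t) :
    g = 1 ∨ g = s ∨ g = t ∨ g = z := by
  have pm : ∀ {u x : G}, x ∈ M → x ≠ 1 → Commute g u → (∀ m ∈ M, u * m = m * u ↔ m ∈ zpowers x) →
      cj g x = x ∨ cj g x = x⁻¹ := fun {u x} hx hx1 hc hfix => by
    have h1 : cj g x ∈ zpowers x := (hfix _ (H.cjM hg hx)).1 <| by
      have h2 := cj_commute g ((hfix x hx).2 (mem_zpowers x) : Commute u x)
      rw [cj_of_commute hc] at h2
      exact h2.eq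
    have hne : zpowers x ≠ M := fun h0 => by
      have h9 := H.card
      rw [← h0, Nat.card_zpowers] at h9
      have := orderOf_dvd_of_pow_eq_one (H.cube x hx)
      rw [h9] at this
      omega
    rcases line_cases H.card H.cube (zpowers x) (zpowers_le.2 hx)
      (fun h0 => hx1 (zpowers_eq_bot.1 h0)) hne (mem_zpowers x) hx1 _ h1 with e' | e' | e'
    · exact absurd (cj_eq_one.1 e') hx1
    · exact Or.inl e'
    · exact Or.inr e'
  have hfix_h : ∀ m ∈ M, t * m = m * t ↔ m ∈ zpowers h := fun m hm => by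
    refine ⟨fun hc => ?_, fun hc => ?_⟩
    · have hm' : cj (a ^ 2)⁻¹ m ∈ M := H.cjM (inv_mem (pow_mem H.aN 2)) hm
      have h2 := cj_commute (a ^ 2)⁻¹ (hc : Commute t m)
      rw [← H.a2_s, cj_inv_cj] at h2
      obtain ⟨i, hi⟩ := mem_zpowers_iff.1 ((H.fix _ hm').1 h2.eq)
      refine mem_zpowers_iff.2 ⟨i, ?_⟩
      rw [← cj_cj_inv (a ^ 2) m, ← hi, H.h_eq, cj, cj, conj_zpow]
    · obtain ⟨i, rfl⟩ := mem_zpowers_iff.1 hc
      exact (H.th.zpow_right i).eq
  have he := pm H.eM H.e_ne hs H.fix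
  have hh := pm H.hM H.h_ne ht hfix_h
  have hfin : ∀ v : G, v * v = 1 → Commute v s → Commute v t → v ∈ normalizer (M : Set G) →
      cj (g * v) e = e → cj (g * v) h = h → g = v := fun v hv hvs hvt hvN h1 h2 => by
    have hmem : g * v ∈ M := H.self _ fun m hm => by
      obtain ⟨i, j, rfl⟩ := H.M_cases hm
      exact (((commute_of_cj h1).pow_right _).mul_right ((commute_of_cj h2).pow_right _)).eq
    have hzc : Commute z (g * v) := by
      rw [← H.st]; exact ((hs.mul_left hvs).symm).mul_left ((ht.mul_left hvt).symm)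
    have h3 := H.z_inv _ hmem
    rw [cj_of_commute hzc] at h3
    have h4 : (g * v) * (g * v) = 1 := by nth_rewrite 1 [h3]; exact inv_mul_cancel _
    have h5 : g * v = 1 := eq_one_of_sq_cube h4 (H.cube _ hmem)
    rw [eq_inv_of_mul_eq_one_left h5, inv_of_sq hv]
  rcases he with he | he <;> rcases hh with hh | hh
  · refine Or.inl (hfin 1 (one_mul 1) (Commute.one_left _) (Commute.one_left _) (one_mem _) ?_ ?_) <;>
      simpa
  · refine Or.inr (Or.inl (hfin s H.s_sq (Commute.refl s) H.ts_comm.symm H.sN ?_ ?_))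
    · rw [← cj_cj, cj_of_commute H.se, he]
    · rw [← cj_cj, H.sh, cj_inv, hh, inv_inv]
  · refine Or.inr (Or.inr (Or.inl (hfin t H.tt H.ts_comm (Commute.refl t)
      (H.t_eq' ▸ mul_mem H.zN H.sN) ?_ ?_)))
    · rw [← cj_cj, H.te, cj_inv, he, inv_inv]
    · rw [← cj_cj, cj_of_commute H.th, hh]
  · refine Or.inr (Or.inr (Or.inr (hfin z H.zz H.sz.symm H.zt H.zN ?_ ?_)))
    · rw [← cj_cj, H.z_inv e H.eM, cj_inv, he, inv_inv]
    · rw [← cj_cj, H.z_inv h H.hM, cj_inv, hh, inv_inv]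

/-- No abelian subgroup of order prime to three is normalised by the nine-group. -/
theorem eq_bot {S : Subgroup G} (hS : IsMulCommutative S) (h3 : ¬ 3 ∣ Nat.card S)
    (hne : ∀ y ∈ S, cj e y ∈ S) (hnh : ∀ y ∈ S, cj h y ∈ S) : S = ⊥ := by
  refine eq_bot_of_four_lines hS h3 H.e3 H.h3 H.eh.eq hne hnh ?_
  intro m hm y hy hmy
  have hmM : m ∈ M ∧ m ≠ 1 := by
    simp only [List.mem_cons, List.not_mem_nil, or_false] at hm
    rcases hm with rfl | rfl | rfl | rfl
    · exact ⟨H.eM, H.e_ne⟩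
    · exact ⟨H.hM, H.h_ne⟩
    · exact ⟨mul_mem H.eM H.hM, fun h0 =>
        H.h_notMem (eq_inv_of_mul_eq_one_right h0 ▸ inv_mem (mem_zpowers e))⟩
    · exact ⟨mul_mem H.eM (inv_mem H.hM), fun h0 =>
        H.h_notMem (by rw [← eq_of_mul_inv_eq_one h0]; exact mem_zpowers e)⟩
  have hyN : y ∈ normalizer (M : Set G) :=
    H.centN m hmM.1 hmM.2 (mem_centralizer_singleton_iff.2 hmy.symm)
  have hyc : ∀ k ∈ [e, h], Commute y k := fun k hk => by
    have hkM : k ∈ M ∧ ∀ x ∈ S, cj k x ∈ S := by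
      simp only [List.mem_cons, List.not_mem_nil, or_false] at hk
      rcases hk with rfl | rfl
      exacts [⟨H.eM, hne⟩, ⟨H.hM, hnh⟩]
    have h1 : k * y * k⁻¹ * y⁻¹ ∈ S := mul_mem (hkM.2 y hy) (inv_mem hy)
    have h2 : k * y * k⁻¹ * y⁻¹ ∈ M := by
      rw [show k * y * k⁻¹ * y⁻¹ = k * cj y k⁻¹ by simp only [cj, mul_assoc]]
      exact mul_mem hkM.1 (H.cjM hyN (inv_mem hkM.1))
    have h4 := eq_one_of_cube h3 h1 (H.cube _ h2)
    exact (commute_of_cj (mul_inv_eq_one.1 h4)).symm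
  have hyM : y ∈ M := H.self y fun x hx => by
    obtain ⟨i, j, rfl⟩ := H.M_cases hx
    exact (((hyc e (by simp)).pow_right _).mul_right ((hyc h (by simp)).pow_right _)).eq
  exact eq_one_of_cube h3 hy (H.cube y hyM)

end Cfg

end Cfsg.Agent.M11ThreeLocal
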