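import Cfsg.Agent.M11ThreeLocal.Fpf
import Cfsg.Agent.ThreeWreath.AutNine
import Mathlib.GroupTheory.Sylow

/-!
# The configuration: the normalizer of the Sylow 3-subgroup
-/

set_option autoImplicit false

namespace Cfsg.Agent.M11ThreeLocal

open Subgroup

variable {G : Type*} [Group G]

/-- `g` raised in conjugation: `g x g⁻¹`. -/
def cj (g x : G) : G := g * x * g⁻¹

theorem cj_cj (g k x : G) : cj g (cj k x) = cj (g * k) x := by simp only [cj]; group

theorem cj_mul (g x y : G) : cj g (x * y) = cj g x * cj g y := by simp only [cj]; group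

theorem cj_inv (g x : G) : cj g x⁻¹ = (cj g x)⁻¹ := by simp only [cj]; group

theorem cj_pow (g x : G) (n : ℕ) : cj g x ^ n = cj g (x ^ n) := conj_pow

theorem cj_one (g : G) : cj g (1 : G) = 1 := by simp [cj]

theorem cj_eq_one {g x : G} : cj g x = 1 ↔ x = 1 := conj_eq_one_iff

theorem cj_eq_self {g x : G} : cj g x = x ↔ g * x = x * g := mul_inv_eq_iff_eq_mul

/-- The data extracted from the hypotheses. -/
structure Cfg (M : Subgroup G) (e h s t z a : G) : Prop where
  card : Nat.card M = 9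
  comm : ∀ x ∈ M, ∀ y ∈ M, x * y = y * x
  cube : ∀ x ∈ M, x ^ 3 = 1
  sylow : ∀ x : G, x ^ 3 = 1 → ∃ g : G, cj g x ∈ M
  h27 : ¬ 27 ∣ Nat.card G
  self : ∀ g : G, (∀ m ∈ M, g * m = m * g) → g ∈ M
  centN : ∀ m ∈ M, m ≠ 1 → centralizer ({m} : Set G) ≤ normalizer (M : Set G)
  cardN : Nat.card (normalizer (M : Set G)) = 144
  eM : e ∈ M
  e_ne : e ≠ 1
  s_sq : s * s = 1
  a_ord : orderOf a = 8
  sas : s * a * s = a ^ 3
  sN : s ∈ normalizer (M : Set G)
  aN : a ∈ normalizer (M : Set G)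
  fix : ∀ m ∈ M, s * m = m * s ↔ m ∈ zpowers e
  z_inv : ∀ m ∈ M, cj z m = m⁻¹
  z_eq : z = a ^ 4
  t_eq : t = cj (a ^ 2) s
  h_eq : h = cj (a ^ 2) e

section
variable [Finite G]

/-- A subgroup of order three of the nine-group. -/
theorem line_cases {M : Subgroup G} (hM : Nat.card M = 9) (hcube : ∀ x ∈ M, x ^ 3 = 1) (P : Subgroup G)
    (hP : P ≤ M) (hne : P ≠ ⊥) (htop : P ≠ M) {n : G} (hn : n ∈ P) (hn1 : n ≠ 1) :
    ∀ x ∈ P, x = 1 ∨ x = n ∨ x = n⁻¹ := by
  have hd := card_dvd_of_le hP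
  rw [hM] at hd
  have h3 : Nat.card P = 3 := by
    obtain ⟨i, hi, he⟩ := (Nat.dvd_prime_pow Nat.prime_three).1 (show Nat.card P ∣ 3 ^ 2 from hd)
    interval_cases i
    · exact absurd (eq_bot_of_card_eq P (by simpa using he)) hne
    · simpa using he
    · exact absurd (eq_of_le_of_card_ge hP (by rw [hM, he]; norm_num)) htop
  have : Fact (Nat.Prime 3) := ⟨Nat.prime_three⟩
  have ho : orderOf n = 3 := orderOf_eq_prime (hcube n (hP hn)) hn1
  have heq : zpowers n = P := eq_of_le_of_card_ge (zpowers_le.2 hn) (by rw [h3, Nat.card_zpowers, ho])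
  intro x hx
  rw [← heq] at hx
  obtain ⟨i, rfl⟩ := mem_zpowers_iff.1 hx
  have hmod := zpow_mod_orderOf n i
  rw [ho] at hmod
  rcases (show i % 3 = 0 ∨ i % 3 = 1 ∨ i % 3 = 2 by omega) with e | e | e <;>
    rw [show ((3 : ℕ) : ℤ) = 3 from rfl, e] at hmod
  · left; rw [← hmod, zpow_zero]
  · right; left; rw [← hmod, zpow_one]
  · right; right
    rw [← hmod, show (2 : ℤ) = (2 : ℕ) from rfl, zpow_natCast, eq_inv_iff_mul_eq_one, ← pow_succ]
    exact hcube n (hP hn)

/-- The configuration exists. -/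
theorem exists_cfg (M : Sylow 3 G) (hM9 : Nat.card (M : Subgroup G) = 9)
    (hMel : ∀ m ∈ (M : Subgroup G), m ^ 3 = 1)
    (hCM : centralizer ((M : Subgroup G) : Set G) = (M : Subgroup G))
    (hCg : ∀ g ∈ (M : Subgroup G), g ≠ 1 →
      centralizer ({g} : Set G) ≤ normalizer ((M : Subgroup G) : Set G))
    (hS : ∀ S : Sylow 2 ↥(normalizer ((M : Subgroup G) : Set G)),
      Nat.card ↥(S : Subgroup ↥(normalizer ((M : Subgroup G) : Set G))) = 16 ∧
      ∃ a ∈ (S : Subgroup ↥(normalizer ((M : Subgroup G) : Set G))),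
        ∃ b ∈ (S : Subgroup ↥(normalizer ((M : Subgroup G) : Set G))),
          orderOf a = 8 ∧ orderOf b = 2 ∧ b * a * b⁻¹ = a ^ 3) :
    ∃ e h s t z a : G, Cfg (M : Subgroup G) e h s t z a := by
  classical
  haveI : Fact (Nat.Prime 3) := ⟨Nat.prime_three⟩
  haveI : Fact (Nat.Prime 2) := ⟨Nat.prime_two⟩
  set M0 : Subgroup G := (M : Subgroup G)
  set N := normalizer (M0 : Set G) with hN
  have hab : IsMulCommutative M0 :=
    IsPGroup.isMulCommutative_of_card_eq_prime_sq (p := 3) (by rw [hM9]; norm_num)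
  have hcomm : ∀ x ∈ M0, ∀ y ∈ M0, x * y = y * x :=
    fun x hx y hy => congrArg Subtype.val (hab.is_comm.comm ⟨x, hx⟩ ⟨y, hy⟩)
  obtain ⟨S⟩ : Nonempty (Sylow 2 ↥N) := inferInstance
  obtain ⟨hS16, a', haS, b', hbS, hoa', hob', hrel'⟩ := hS S
  set a : G := (a' : G) with ha
  set b : G := (b' : G) with hb
  have hoa : orderOf a = 8 := by rw [ha, Subgroup.orderOf_coe, hoa']
  have hob : orderOf b = 2 := by rw [hb, Subgroup.orderOf_coe, hob']
  have hbb : b * b = 1 := by rw [← sq, ← hob, pow_orderOf_eq_one]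
  have hbi : b⁻¹ = b := inv_eq_of_mul_eq_one_right hbb
  have hrel : b * a * b = a ^ 3 := by
    nth_rewrite 2 [← hbi]
    exact congrArg Subtype.val hrel'
  have hN144 : Nat.card N = 144 := by
    have hd : Nat.card N ∣ 9 * 48 := by
      have h1 : M0.relIndex N ∣ 48 := by
        let g : ↥N →* MulAut M0 := M0.normalizerMonoidHom
        have hk : g.ker = M0.subgroupOf N := by rw [normalizerMonoidHom_ker, hCM]
        rw [relIndex, ← hk, index_ker]
        exact (card_subgroup_dvd_card g.range).trans (ThreeWreath.card_mulAut_nine M0 hM9 hMel)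
      rw [← relIndex_bot_left N, ← relIndex_mul_relIndex ⊥ M0 N bot_le le_normalizer, relIndex_bot_left,
        hM9]
      exact Nat.mul_dvd_mul_left 9 h1
    have h16 : 16 ∣ Nat.card N := hS16 ▸ card_subgroup_dvd_card (S : Subgroup ↥N)
    have h9 : 9 ∣ Nat.card N := hM9 ▸ card_dvd_of_le le_normalizer
    have h27 : ¬ 27 ∣ Nat.card N := fun h => by
      have h1 : ¬ 3 ∣ M0.index := M.not_dvd_index
      have h2 := M0.card_mul_index
      obtain ⟨m, hm⟩ := h.trans (card_subgroup_dvd_card N)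
      rw [hM9] at h2
      exact h1 ⟨m, by omega⟩
    have h32 : ¬ 32 ∣ Nat.card N := fun h => by
      obtain ⟨m, hm⟩ := h
      have h1 := S.not_dvd_index
      have h2 := (S : Subgroup ↥N).card_mul_index
      rw [hS16] at h2
      exact h1 ⟨m, by omega⟩
    obtain ⟨m, hm⟩ : 144 ∣ Nat.card N :=
      Nat.Coprime.mul_dvd_of_dvd_of_dvd (by norm_num : Nat.Coprime 16 9) h16 h9
    rw [hm] at hd h27 h32 ⊢
    have : m ∣ 3 := Nat.dvd_of_mul_dvd_mul_left (by norm_num : 0 < 144) hd
    rcases Nat.prime_three.eq_one_or_self_of_dvd m this with e | e <;> subst e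
    · rfl
    · exact absurd (by norm_num) h27
  -- elements of two-power order centralising M
  have hfaith : ∀ q : G, (∀ m ∈ M0, q * m = m * q) → q ^ 8 = 1 → q = 1 := fun q hq h8 => by
    have hm : q ∈ M0 := by rw [← hCM, mem_centralizer_iff]; exact fun m hm => (hq m hm).symm
    calc q = (q ^ 3) ^ 3 * (q ^ 8)⁻¹ := by group
      _ = 1 := by rw [hMel q hm, h8]; group
  have haN : a ∈ N := a'.2
  have hbN : b ∈ N := b'.2
  have hcjM : ∀ g ∈ N, ∀ m ∈ M0, cj g m ∈ M0 := fun g hg m hm => (mem_normalizer_iff.1 hg m).1 hm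
  have ha8 : a ^ 8 = 1 := by rw [← hoa, pow_orderOf_eq_one]
  set z := a ^ 4 with hz
  have hzz : z * z = 1 := by rw [hz, ← pow_add]; exact ha8
  have hz1 : z ≠ 1 := fun e => by
    have := orderOf_dvd_of_pow_eq_one e; rw [hoa] at this; omega
  have hzN : z ∈ N := pow_mem haN 4
  have hzi : ∀ m ∈ M0, cj z (cj z m) = m := fun m _ => by
    rw [cj_cj, hzz]; simp [cj]
  have hz_inv : ∀ m ∈ M0, cj z m = m⁻¹ := by
    by_contra hcon
    push Not at hcon
    obtain ⟨m, hm, hne⟩ := hcon
    -- a fixed point of z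
    have hfix : cj z (m * cj z m) = m * cj z m := by
      rw [cj_mul, hzi m hm, hcomm _ (hcjM z hzN m hm) _ hm]
    set C : Subgroup G := M0 ⊓ centralizer ({z} : Set G) with hC
    have hCm : ∀ {x : G}, x ∈ C ↔ x ∈ M0 ∧ cj z x = x := fun {x} => by
      rw [hC, mem_inf, mem_centralizer_singleton_iff, cj_eq_self, eq_comm (a := z * x)]
    have hn0C : m * cj z m ∈ C := hCm.2 ⟨mul_mem hm (hcjM z hzN m hm), hfix⟩
    have hn0 : m * cj z m ≠ 1 := fun e => hne (eq_inv_of_mul_eq_one_right e)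
    have hCne : C ≠ M0 := fun e => hz1 (hfaith z (fun x hx => cj_eq_self.1 (hCm.1 (e.symm ▸ hx)).2)
      (by rw [hz, ← pow_mul, show 4 * 8 = 8 * 4 by norm_num, pow_mul, ha8, one_pow]))
    have hCline := line_cases hM9 hMel C inf_le_left (fun e => hn0 (by rw [e] at hn0C; exact hn0C)) hCne
      hn0C hn0
    -- an element which is not fixed gives an inverted one
    obtain ⟨y, hy, hyC⟩ : ∃ y ∈ M0, y ∉ C := by
      by_contra hc
      push Not at hc
      exact hCne (le_antisymm inf_le_left hc)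
    set n := y⁻¹ * cj z y with hn
    have hnM : n ∈ M0 := mul_mem (inv_mem hy) (hcjM z hzN y hy)
    have hn1 : n ≠ 1 := fun e => hyC (hCm.2 ⟨hy, (eq_of_inv_mul_eq_one e).symm⟩)
    have hninv : cj z n = n⁻¹ := by
      rw [hn, cj_mul, cj_inv, hzi y hy]; group
    let I : Subgroup G :=
      { carrier := {x | x ∈ M0 ∧ cj z x = x⁻¹}
        one_mem' := ⟨one_mem _, by simp [cj]⟩
        mul_mem' := fun {x y} hx hy => ⟨mul_mem hx.1 hy.1, by
          rw [cj_mul, hx.2, hy.2, hcomm _ (inv_mem hx.1) _ (inv_mem hy.1), mul_inv_rev]⟩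
        inv_mem' := fun {x} hx => ⟨inv_mem hx.1, by rw [cj_inv, hx.2]⟩ }
    have hno_both : ∀ x ∈ M0, cj z x = x → cj z x = x⁻¹ → x = 1 := fun x hx e1 e2 => by
      have h2 : x * x = 1 := by
        nth_rewrite 2 [← e1]
        rw [e2, mul_inv_cancel]
      calc x = x ^ 3 * (x * x)⁻¹ := by group
        _ = 1 := by rw [hMel x hx, h2, inv_one, one_mul]
    have hIne : I ≠ M0 := fun e => by
      have hx : m * cj z m ∈ I := e.symm ▸ mul_mem hm (hcjM z hzN m hm)
      exact hn0 (hno_both _ hx.1 hfix hx.2)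
    have hIline := line_cases hM9 hMel I (fun x hx => hx.1) (fun e => hn1 (by
      have hx : n ∈ I := ⟨hnM, hninv⟩
      rw [e] at hx; exact hx)) hIne (show n ∈ I from ⟨hnM, hninv⟩) hn1
    have hanI : cj a n ∈ I := ⟨hcjM a haN n hnM, by
      rw [cj_cj, show z * a = a * z by rw [hz]; group, ← cj_cj, hninv, cj_inv]⟩
    have h2n : cj a (cj a n) = n := by
      rcases hIline _ hanI with e | e | e
      · exact absurd (conj_eq_one_iff.1 e) hn1
      · rw [e, e]
      · rw [e, cj_inv, e, inv_inv]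
    refine hn1 (hno_both n hnM ?_ hninv)
    calc cj z n = cj a (cj a (cj a (cj a n))) := by simp only [cj_cj]; rw [hz]; congr 1; simp only [pow_succ, pow_zero, one_mul, mul_assoc]
      _ = n := by rw [h2n, h2n]
  -- a fixed point of b
  have hb1 : b ≠ 1 := fun e => by rw [e, orderOf_one] at hob; omega
  have hbz : b ≠ z := fun e => by
    have h1 : z * a * z = a := by
      rw [show z * a * z = a * (z * z) by rw [hz]; group, hzz, mul_one]
    rw [e, h1] at hrel
    have : a ^ 2 = 1 := by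
      have h2 : a * 1 = a * a ^ 2 := by rw [mul_one]; nth_rewrite 1 [hrel]; group
      exact (mul_left_cancel h2).symm
    have := orderOf_dvd_of_pow_eq_one this; rw [hoa] at this; omega
  have hbz' : b * z = z * b := by
    have : b * z * b = z := by
      conv_lhs => rw [hz, show b * a ^ 4 * b = b * a ^ 4 * b⁻¹ by rw [hbi], ← conj_pow, hbi, hrel]
      rw [← pow_mul, hz, show 3 * 4 = 8 + 4 by norm_num, pow_add, ha8, one_mul]
    calc b * z = b * z * b * b := by rw [mul_assoc (b * z), hbb, mul_one]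
      _ = z * b := by rw [this]
  obtain ⟨m, hm, hmne⟩ : ∃ m ∈ M0, cj b m ≠ m⁻¹ := by
    by_contra hc
    push Not at hc
    refine hbz ?_
    have h1 := hfaith (b * z) (fun m hm => cj_eq_self.1 (by
      rw [← cj_cj, hz_inv m hm, cj_inv, hc m hm, inv_inv]))
      (by rw [show (8 : ℕ) = 2 * 4 by norm_num, pow_mul, sq,
            show b * z * (b * z) = b * (z * b) * z by group, ← hbz',
            show b * (b * z) * z = (b * b) * (z * z) by group, hbb, hzz, one_mul, one_pow])
    calc b = b * z * z := by rw [mul_assoc, hzz, mul_one]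
      _ = z := by rw [h1, one_mul]
  set e := m * cj b m with he
  have hbb' : ∀ x, cj b (cj b x) = x := fun x => by rw [cj_cj, hbb]; simp [cj]
  have heM : e ∈ M0 := mul_mem hm (hcjM b hbN m hm)
  have he1 : e ≠ 1 := fun e1 => hmne (eq_inv_of_mul_eq_one_right e1)
  have hebe : cj b e = e := by rw [he, cj_mul, hbb', hcomm _ (hcjM b hbN m hm) _ hm]
  have hfix : ∀ m ∈ M0, b * m = m * b ↔ m ∈ zpowers e := by
    let C : Subgroup G := M0 ⊓ centralizer ({b} : Set G)
    have hCm : ∀ {x : G}, x ∈ C ↔ x ∈ M0 ∧ b * x = x * b := fun {x} => by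
      show x ∈ M0 ⊓ centralizer ({b} : Set G) ↔ _
      rw [mem_inf, mem_centralizer_singleton_iff, eq_comm (a := x * b)]
    have hCne : C ≠ M0 := fun e' => hb1 (hfaith b (fun x hx => (hCm.1 (e'.symm ▸ hx)).2)
      (by rw [show (8 : ℕ) = 2 * 4 by norm_num, pow_mul, sq, hbb, one_pow]))
    have heC : e ∈ C := hCm.2 ⟨heM, cj_eq_self.1 hebe⟩
    have hl := line_cases hM9 hMel C inf_le_left (fun e' => he1 (by rw [e'] at heC; exact heC)) hCne heC he1
    intro x hx
    refine ⟨fun h1 => ?_, fun h1 => (hCm.1 (zpowers_le.2 heC h1)).2⟩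
    rcases hl x (hCm.2 ⟨hx, h1⟩) with e' | e' | e' <;> rw [e']
    · exact one_mem _
    · exact mem_zpowers _
    · exact inv_mem (mem_zpowers _)
  refine ⟨e, cj (a ^ 2) e, b, cj (a ^ 2) b, z, a, ?_⟩
  exact
    { card := hM9, comm := hcomm, cube := hMel
      sylow := fun x hx => by
        have h3 : IsPGroup 3 (zpowers x) := fun ⟨y, hy⟩ => by
          obtain ⟨i, rfl⟩ := mem_zpowers_iff.1 hy
          refine ⟨1, Subtype.ext ?_⟩
          show (x ^ i) ^ (3 ^ 1) = 1
          rw [pow_one, ← zpow_natCast, ← zpow_mul, mul_comm, zpow_mul, zpow_natCast, hx, one_zpow]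
        obtain ⟨P, hP⟩ := h3.exists_le_sylow
        obtain ⟨k, hk⟩ := MulAction.exists_smul_eq G P M
        refine ⟨k, ?_⟩
        show cj k x ∈ (M : Subgroup G)
        rw [← hk, Sylow.coe_subgroup_smul]
        exact ⟨x, hP (mem_zpowers x), rfl⟩
      h27 := fun h => by
        have h1 : ¬ 3 ∣ M0.index := M.not_dvd_index
        have h2 := M0.card_mul_index
        obtain ⟨i, hi⟩ := h
        rw [hM9] at h2
        exact h1 ⟨i, by omega⟩
      self := fun g hg => by rw [← hCM, mem_centralizer_iff]; exact fun m hm => (hg m hm).symm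
      centN := hCg, cardN := hN144, eM := heM, e_ne := he1, s_sq := hbb, a_ord := hoa, sas := hrel
      sN := hbN, aN := haN, fix := hfix, z_inv := hz_inv, z_eq := rfl, t_eq := rfl, h_eq := rfl }

end

end Cfsg.Agent.M11ThreeLocal
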