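import Mathlib.GroupTheory.Nilpotent
import Mathlib.GroupTheory.SchurZassenhaus

/-!
# Two-elements and the splitting of nilpotent subgroups
-/

set_option autoImplicit false
set_option linter.unusedSectionVars false

namespace Cfsg.Agent.M11ThreeLocal

open Subgroup

variable {G : Type*} [Group G]

/-- An element of two-power order. -/
def Two (x : G) : Prop := ∃ n : ℕ, x ^ 2 ^ n = 1

theorem Two.of_sq {x : G} (hx : x * x = 1) : Two x := ⟨1, by rw [pow_one, sq, hx]⟩

theorem Two.inv {x : G} (hx : Two x) : Two x⁻¹ := by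
  obtain ⟨n, hn⟩ := hx
  exact ⟨n, by rw [inv_pow, hn, inv_one]⟩

theorem Two.mul {x y : G} (hc : Commute x y) (hx : Two x) (hy : Two y) : Two (x * y) := by
  obtain ⟨n, hn⟩ := hx
  obtain ⟨m, hm⟩ := hy
  refine ⟨n + m, ?_⟩
  rw [hc.mul_pow, pow_add, pow_mul, hn, one_pow, mul_comm, pow_mul, hm, one_pow, one_mul]

theorem Two.map {H : Type*} [Group H] (f : G →* H) {x : G} (hx : Two x) : Two (f x) := by
  obtain ⟨n, hn⟩ := hx
  exact ⟨n, by rw [← map_pow, hn, map_one]⟩

theorem Two.conj {x : G} (g : G) (hx : Two x) : Two (g * x * g⁻¹) := by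
  obtain ⟨n, hn⟩ := hx
  exact ⟨n, by rw [conj_pow, hn, mul_one, mul_inv_cancel]⟩

theorem Two.of_isPGroup {P : Subgroup G} (hP : IsPGroup 2 P) {x : G} (hx : x ∈ P) : Two x := by
  obtain ⟨n, hn⟩ := hP ⟨x, hx⟩
  exact ⟨n, congrArg Subtype.val hn⟩

/-- An element which is both of two-power and of odd order is trivial. -/
theorem Two.eq_one_of_odd {x : G} (hx : Two x) {n : ℕ} (hn : ¬ 2 ∣ n) (h : x ^ n = 1) : x = 1 := by
  obtain ⟨k, hk⟩ := hx
  have hc : (2 ^ k).Coprime n := Nat.Coprime.pow_left k (Nat.prime_two.coprime_iff_not_dvd.2 hn)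
  have h1 := Nat.dvd_gcd (orderOf_dvd_of_pow_eq_one hk) (orderOf_dvd_of_pow_eq_one h)
  rw [hc.gcd_eq_one, Nat.dvd_one, orderOf_eq_one_iff] at h1
  exact h1

variable [Finite G]

/-- A two-element which is an element of a subgroup of odd order is trivial. -/
theorem Two.eq_one_of_mem {x : G} (hx : Two x) {O : Subgroup G} (hO : ¬ 2 ∣ Nat.card O) (h : x ∈ O) :
    x = 1 := by
  refine hx.eq_one_of_odd hO ?_
  have := pow_card_eq_one' (x := (⟨x, h⟩ : O))
  exact congrArg Subtype.val this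

/-- The data of the splitting of a nilpotent subgroup. -/
structure Split (K R O : Subgroup G) : Prop where
  leR : R ≤ K
  leO : O ≤ K
  two : IsPGroup 2 R
  odd : ¬ 2 ∣ Nat.card O
  comm : ∀ r ∈ R, ∀ w ∈ O, r * w = w * r
  memR : ∀ x ∈ K, Two x → x ∈ R
  memO : ∀ x ∈ K, ∀ n : ℕ, ¬ 2 ∣ n → x ^ n = 1 → x ∈ O
  prod : ∀ x ∈ K, ∃ r ∈ R, ∃ w ∈ O, x = r * w
  card : Nat.card K = Nat.card R * Nat.card O

theorem Split.unique {K R O : Subgroup G} (h : Split K R O) {r r' w w' : G} (hr : r ∈ R) (hr' : r' ∈ R)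
    (hw : w ∈ O) (hw' : w' ∈ O) (he : r * w = r' * w') : r = r' ∧ w = w' := by
  have h1 : r'⁻¹ * r = w' * w⁻¹ := by
    rw [eq_mul_inv_iff_mul_eq, mul_assoc, he, inv_mul_cancel_left]
  have h2 : r'⁻¹ * r = 1 := (Two.of_isPGroup h.two (mul_mem (inv_mem hr') hr)).eq_one_of_mem h.odd
    (h1 ▸ mul_mem hw' (inv_mem hw))
  have h3 := (inv_mul_eq_one.1 h2).symm
  subst h3
  exact ⟨rfl, mul_left_cancel he⟩

/-- A finite nilpotent subgroup splits. -/
theorem exists_split (K : Subgroup G) (hK : Group.IsNilpotent K) : ∃ R O : Subgroup G, Split K R O := by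
  classical
  haveI : Fact (Nat.Prime 2) := ⟨Nat.prime_two⟩
  obtain ⟨P⟩ : Nonempty (Sylow 2 K) := inferInstance
  have hPn : (P : Subgroup K).Normal := inferInstance
  obtain ⟨H, hH⟩ := exists_right_complement'_of_coprime (N := (P : Subgroup K)) P.card_coprime_index
  have hHc : Nat.card H = (P : Subgroup K).index := hH.symm.index_eq_card.symm
  have hodd : ¬ 2 ∣ Nat.card H := hHc ▸ P.not_dvd_index
  set C : Subgroup K := centralizer ((P : Subgroup K) : Set K)
  have hCn : C.Normal := inferInstance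
  have hHC : H ≤ C := by
    intro x hx
    have hd : C.index.Coprime (Nat.card H) := by
      refine Nat.coprime_of_dvd' fun q hq h1 h2 => ?_
      exfalso
      have : Fact q.Prime := ⟨hq⟩
      have hq2 : q ≠ 2 := fun e => hodd (e ▸ h2)
      obtain ⟨Q⟩ := (inferInstance : Nonempty (Sylow q K))
      have hQn : (Q : Subgroup K).Normal := inferInstance
      have hQC : (Q : Subgroup K) ≤ C := fun a ha => mem_centralizer_iff.2 fun b hb =>
        (Subgroup.commute_of_normal_of_disjoint _ _ hQn hPn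
          (IsPGroup.disjoint_of_ne q 2 hq2 _ _ Q.2 P.2) a b ha hb).symm.eq
      exact Q.not_dvd_index (h1.trans (index_dvd_of_le hQC))
    rw [← QuotientGroup.eq_one_iff, ← orderOf_eq_one_iff, ← Nat.dvd_one, ← hd.gcd_eq_one]
    refine Nat.dvd_gcd ?_ ((orderOf_map_dvd (QuotientGroup.mk' C) x).trans ?_)
    · rw [index]; exact orderOf_dvd_natCard _
    · rw [← orderOf_mk x hx]; exact orderOf_dvd_natCard _
  have hcomm : ∀ p ∈ (P : Subgroup K), ∀ x ∈ H, p * x = x * p := fun p hp x hx =>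
    mem_centralizer_iff.1 (hHC hx) p hp
  have hdec : ∀ x : K, ∃ p ∈ (P : Subgroup K), ∃ w ∈ H, x = p * w := fun x => by
    obtain ⟨⟨⟨p, hp⟩, ⟨w, hw⟩⟩, he⟩ := hH.2 x
    exact ⟨p, hp, w, hw, he.symm⟩
  have hinj : ∀ S : Subgroup K, Nat.card (S.map K.subtype) = Nat.card S := fun S =>
    card_map_of_injective K.subtype_injective
  refine ⟨(P : Subgroup K).map K.subtype, H.map K.subtype,
    { leR := map_subtype_le _, leO := map_subtype_le _, two := P.2.map _, odd := (hinj H).symm ▸ hodd,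
      comm := ?_, memR := ?_, memO := ?_, prod := ?_, card := ?_ }⟩
  · rintro _ ⟨p, hp, rfl⟩ _ ⟨w, hw, rfl⟩
    exact congrArg Subtype.val (hcomm p hp w hw)
  · intro x hx h2
    obtain ⟨p, hp, w, hw, he⟩ := hdec ⟨x, hx⟩
    have hp2 : Two p := Two.of_isPGroup P.2 hp
    have hx2 : Two (⟨x, hx⟩ : K) := by
      obtain ⟨n, hn⟩ := h2
      exact ⟨n, Subtype.ext hn⟩
    have hw1 : w = 1 := by
      have h3 : Two (p⁻¹ * ⟨x, hx⟩) := by
        refine hp2.inv.mul ?_ hx2
        rw [he]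
        exact (Commute.refl p).inv_left.mul_right (show Commute p w from hcomm p hp w hw).inv_left
      refine Two.eq_one_of_mem ?_ hodd hw
      rwa [he, inv_mul_cancel_left] at h3
    exact ⟨p, hp, by rw [hw1, mul_one] at he; rw [← he]; rfl⟩
  · intro x hx n hn hxn
    obtain ⟨p, hp, w, hw, he⟩ := hdec ⟨x, hx⟩
    have hp1 : p = 1 := by
      refine (Two.of_isPGroup P.2 hp).eq_one_of_odd (n := n * Nat.card H)
        (fun h => (Nat.prime_two.dvd_mul.1 h).elim hn hodd) ?_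
      have hw0 : w ^ (n * Nat.card H) = 1 := by
        rw [mul_comm, pow_mul, show w ^ Nat.card H = 1 from
          congrArg Subtype.val (pow_card_eq_one' (x := (⟨w, hw⟩ : H))), one_pow]
      have h1 : (⟨x, hx⟩ : K) ^ (n * Nat.card H) = 1 := Subtype.ext (by
        show x ^ (n * Nat.card H) = 1
        rw [pow_mul, hxn, one_pow])
      rwa [he, (show Commute p w from hcomm p hp w hw).mul_pow, hw0, mul_one] at h1
    exact ⟨w, hw, by rw [hp1, one_mul] at he; rw [← he]; rfl⟩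
  · intro x hx
    obtain ⟨p, hp, w, hw, he⟩ := hdec ⟨x, hx⟩
    exact ⟨p, ⟨p, hp, rfl⟩, w, ⟨w, hw, rfl⟩, congrArg Subtype.val he⟩
  · rw [hinj, hinj, hH.card_mul_card]

end Cfsg.Agent.M11ThreeLocal
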