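import Cfsg.Agent.M11ThreeLocal.Psi
import Cfsg.Agent.M11ThreeLocal.Split
import Cfsg.Agent.SelfCentThree.Basics

/-!
# The two-radical of the centraliser of an involution
-/

set_option autoImplicit false
set_option linter.unusedSectionVars false

namespace Cfsg.Agent.M11ThreeLocal

open Subgroup

variable {G : Type*} [Group G]

theorem mem_zpowers_invol {v x : G} (hv : v * v = 1) : x ∈ zpowers v ↔ x = 1 ∨ x = v := by
  refine ⟨fun hx => ?_, fun hx => ?_⟩
  · obtain ⟨i, rfl⟩ := mem_zpowers_iff.1 hx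
    rcases Int.even_or_odd' i with ⟨j, rfl | rfl⟩
    · left; rw [zpow_mul, zpow_two, hv, one_zpow]
    · right; rw [zpow_add, zpow_mul, zpow_two, hv, one_zpow, one_mul, zpow_one]
  · rcases hx with rfl | rfl
    exacts [one_mem _, mem_zpowers _]

theorem mem_L {v g : G} : g ∈ centralizer ({v} : Set G) ↔ Commute v g := by
  rw [mem_centralizer_singleton_iff]
  exact ⟨fun h => h.symm, fun h => h.symm⟩

/-- The preimage of a central involution. -/
abbrev Zc (v : G) : Subgroup (centralizer ({v} : Set G)) := (zpowers v).subgroupOf _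

instance Zc_normal (v : G) : (Zc v).Normal := ⟨fun n hn g => by
  rw [mem_subgroupOf] at hn ⊢
  obtain ⟨i, hi⟩ := mem_zpowers_iff.1 hn
  have hg : Commute v g := mem_L.1 g.2
  simp only [coe_mul, InvMemClass.coe_inv]
  rw [← hi, ((hg.zpow_left i).symm).eq, mul_inv_cancel_right]
  exact ⟨i, rfl⟩⟩

/-- The subgroup of elements fixed by `τ` modulo the centre. -/
def Wfix (v : G) (R : Subgroup G) (τ : G) : Subgroup G :=
  closure {r | r ∈ R ∧ (cj τ r = r ∨ cj τ r = r * v)}

/-- The properties of the two-radical `R` of the centraliser of the involution `v`. -/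
structure Core (v : G) (R : Subgroup G) : Prop where
  sq : v * v = 1
  ne : v ≠ 1
  mem : v ∈ R
  le : ∀ r ∈ R, Commute v r
  two : IsPGroup 2 R
  norm : ∀ g, Commute v g → ∀ r ∈ R, cj g r ∈ R

theorem Core.map {v : G} {R : Subgroup G} (hc : Core v R) (c : G) :
    Core (cj c v) (R.map (MulAut.conj c).toMonoidHom) where
  sq := by rw [← cj_mul, hc.sq, cj_one]
  ne := fun h0 => hc.ne (cj_eq_one.1 h0)
  mem := ⟨v, hc.mem, rfl⟩
  le := by
    rintro _ ⟨r, hr, rfl⟩
    exact cj_commute c (hc.le r hr)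
  two := hc.two.map _
  norm := by
    rintro g hg _ ⟨r, hr, rfl⟩
    have h1 := cj_commute c⁻¹ hg
    rw [cj_inv_cj] at h1
    refine ⟨_, hc.norm _ h1 r hr, ?_⟩
    show cj c (cj (cj c⁻¹ g) r) = cj g (cj c r)
    rw [cj_cj, cj_cj]
    congr 1
    simp only [cj]; group

theorem Core.mem_W {v τ r : G} {R : Subgroup G} (hc : Core v R) (hτ : Commute v τ) :
    r ∈ Wfix v R τ ↔ r ∈ R ∧ (cj τ r = r ∨ cj τ r = r * v) := by
  refine ⟨fun hr => ?_, fun hr => subset_closure hr⟩
  have hv : cj τ v = v := cj_of_commute hτ.symm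
  induction hr using closure_induction with
  | mem x hx => exact hx
  | one => exact ⟨one_mem R, Or.inl (cj_one τ)⟩
  | mul x y _ _ hx hy =>
    refine ⟨mul_mem hx.1 hy.1, ?_⟩
    have hyv := (hc.le y hy.1).eq
    rcases hx.2 with e1 | e1 <;> rcases hy.2 with e2 | e2 <;> rw [cj_mul, e1, e2]
    · left; rfl
    · right; rw [mul_assoc]
    · right; rw [mul_assoc, hyv, mul_assoc]
    · left; rw [mul_assoc x v, ← mul_assoc v, hyv, mul_assoc y, hc.sq, mul_one]
  | inv x _ hx =>
    refine ⟨inv_mem hx.1, ?_⟩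
    rcases hx.2 with e1 | e1 <;> rw [cj_inv, e1]
    · left; rfl
    · right; rw [mul_inv_rev, inv_of_sq hc.sq, ((hc.le x hx.1).inv_right).eq]

variable [Finite G] {M : Subgroup G} {e h s t z a : G}

namespace Cfg

variable (H : Cfg M e h s t z a)

include H

/-- An element centralising both `d` and the involution `v`. -/
theorem cent_dv {d v g : G} (hd : d ^ 3 = 1) (hd1 : d ≠ 1) (hv : v * v = 1) (hv1 : v ≠ 1)
    (hvd : Commute v d) (hgd : Commute g d) (hgv : Commute g v) :
    g ∈ zpowers d ∨ v * g ∈ zpowers d := by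
  obtain ⟨k, rfl⟩ := H.three hd hd1
  obtain ⟨v', rfl⟩ : ∃ v', cj k v' = v := ⟨_, cj_cj_inv k v⟩
  obtain ⟨g', rfl⟩ : ∃ g', cj k g' = g := ⟨_, cj_cj_inv k g⟩
  have red : ∀ {x y : G}, Commute (cj k x) (cj k y) → Commute x y := fun hxy => by
    have := cj_commute k⁻¹ hxy
    rwa [cj_inv_cj, cj_inv_cj] at this
  have hv' : v' * v' = 1 := cj_injective k (by rw [cj_mul, hv, cj_one])
  have hv1' : v' ≠ 1 := fun h0 => hv1 (by rw [h0, cj_one])
  obtain ⟨m0, hm0, hm0i, rfl⟩ := H.invol_e hv' hv1' (red hvd)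
  have key : ∀ m ∈ M, Commute m (s * m0) → m ∈ zpowers e := fun m hm hmc => (H.fix m hm).1 (by
    have h1 : Commute m (s * m0 * m0⁻¹) :=
      hmc.mul_right (show Commute m m0 from H.comm m hm m0 hm0).inv_right
    rw [mul_inv_cancel_right] at h1
    exact h1.symm.eq)
  have push : ∀ {x : G}, x ∈ zpowers e → cj k x ∈ zpowers (cj k e) := fun {x} hx => by
    obtain ⟨i, rfl⟩ := mem_zpowers_iff.1 hx
    exact ⟨i, conj_zpow⟩
  obtain ⟨m, hm, rfl | rfl⟩ := H.cent_e (red hgd)
  · exact Or.inl (push (key _ hm (red hgv)))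
  · right
    rw [← cj_mul]
    refine push (key _ ?_ ((Commute.refl (s * m0)).mul_left (red hgv)))
    rw [show s * m0 * (s * m) = cj s m0 * (s * s) * m by simp only [cj]; group, H.s_sq, mul_one]
    exact mul_mem (H.cjM H.sN hm0) hm

variable {v : G} {R : Subgroup G}

/-- An element of `R` centralised by an element of order three is central. -/
theorem fixR (hc : Core v R) {d r : G} (hd : d ^ 3 = 1) (hd1 : d ≠ 1) (hvd : Commute v d) (hr : r ∈ R)
    (hdr : cj d r = r ∨ cj d r = r * v) : r = 1 ∨ r = v := by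
  have hcj : cj d r = r := by
    refine hdr.resolve_right fun h0 => hc.ne ?_
    have h2 : cj d (r * v) = r := by
      rw [cj_mul, h0, cj_of_commute hvd.symm, mul_assoc, hc.sq, mul_one]
    have h3 := cj_e_cube hd r
    rw [h0, h2, h0] at h3
    exact mul_left_cancel (h3.trans (mul_one r).symm)
  have hrd : Commute r d := (commute_of_cj hcj).symm
  have h1 : r ^ 2 = 1 := by
    refine orderOf_dvd_iff_pow_eq_one.1 ?_
    obtain ⟨n, hn⟩ := Two.of_isPGroup hc.two hr
    have h18 : orderOf r ∣ 18 := by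
      rw [← H.card_cent hd hd1, ← orderOf_mk r (mem_centralizer_singleton_iff.2 hrd.eq)]
      exact orderOf_dvd_natCard _
    obtain ⟨i, -, hi⟩ := (Nat.dvd_prime_pow Nat.prime_two).1 (orderOf_dvd_of_pow_eq_one hn)
    rw [hi] at h18 ⊢
    rcases Nat.lt_or_ge i 2 with h2 | h2
    · exact pow_dvd_pow 2 (show i ≤ 1 by omega)
    · exact absurd ((pow_dvd_pow 2 h2).trans h18) (by norm_num)
  by_cases hr1 : r = 1
  · exact Or.inl hr1
  · exact Or.inr (H.invol_unique hd hd1 (by rw [← sq, h1]) hr1 hc.sq hc.ne (hc.le r hr).symm hrd hvd)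

/-- The image of an element of order three is self-centralising in the quotient. -/
theorem sc_bar {d : G} (hv : v * v = 1) (hv1 : v ≠ 1) (hd : d ^ 3 = 1) (hd1 : d ≠ 1)
    (hdL : d ∈ centralizer ({v} : Set G)) :
    SelfCentThree.Sc (QuotientGroup.mk' (Zc v) ⟨d, hdL⟩) := by
  have hvd : Commute v d := mem_L.1 hdL
  refine ⟨?_, fun h0 => ?_, ?_⟩
  · rw [← map_pow, show (⟨d, hdL⟩ : centralizer ({v} : Set G)) ^ 3 = 1 from Subtype.ext hd, map_one]
  · rw [QuotientGroup.mk'_apply, QuotientGroup.eq_one_iff, mem_subgroupOf] at h0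
    rcases (mem_zpowers_invol hv).1 h0 with e' | e'
    · exact hd1 e'
    · exact hv1 (eq_one_of_sq_cube hv (by rw [← e']; exact hd))
  · refine le_antisymm (fun q hq => ?_) (zpowers_le.2 (mem_centralizer_singleton_iff.2 rfl))
    obtain ⟨⟨g, hg⟩, rfl⟩ := QuotientGroup.mk'_surjective _ q
    rw [mem_centralizer_singleton_iff, ← map_mul, ← map_mul, QuotientGroup.mk'_apply,
      QuotientGroup.mk'_apply, QuotientGroup.eq, mem_subgroupOf] at hq
    have hcom : Commute g d := by
      rcases (mem_zpowers_invol hv).1 hq with e' | e'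
      · simp only [coe_mul, InvMemClass.coe_inv] at e'
        exact inv_mul_eq_one.1 e'
      · exfalso
        simp only [coe_mul, InvMemClass.coe_inv] at e'
        have h2 : cj g⁻¹ d = d * v := by
          rw [cj, inv_inv, ← e']; group
        have h3 : (d * v) ^ 3 = 1 := by rw [← h2, cj_pow, hd, cj_one]
        rw [hvd.symm.mul_pow, hd, one_mul] at h3
        exact hv1 (eq_one_of_sq_cube hv h3)
    rcases H.cent_dv hd hd1 hv hv1 hvd hcom (mem_L.1 hg).symm with h1 | h1
    · obtain ⟨i, hi⟩ := mem_zpowers_iff.1 h1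
      exact mem_zpowers_iff.2 ⟨i, by rw [← map_zpow]; congr 1; exact Subtype.ext (by simpa using hi)⟩
    · obtain ⟨i, hi⟩ := mem_zpowers_iff.1 h1
      refine mem_zpowers_iff.2 ⟨i, ?_⟩
      rw [← map_zpow, QuotientGroup.mk'_apply, QuotientGroup.mk'_apply, QuotientGroup.eq, mem_subgroupOf]
      simp only [coe_mul, InvMemClass.coe_inv, SubgroupClass.coe_zpow]
      rw [hi, mul_inv_rev, inv_of_sq hv,
        show g⁻¹ * v * g = v by rw [mul_assoc, (mem_L.1 hg).eq, inv_mul_cancel_left]]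
      exact mem_zpowers v

omit H in
theorem card_map_mul_ker {A B : Type*} [Group A] [Group B] (f : A →* B) (S : Subgroup A) (hS : f.ker ≤ S) :
    Nat.card (S.map f) * Nat.card f.ker = Nat.card S := by
  have h1 := card_eq_card_quotient_mul_card_subgroup (f.domRestrict S).ker
  rw [Nat.card_congr (QuotientGroup.quotientKerEquivRange (f.domRestrict S)).toEquiv,
    MonoidHom.domRestrict_range, MonoidHom.ker_domRestrict,
    Nat.card_congr (subgroupOfEquivOfLe hS).toEquiv] at h1
  exact h1.symm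

/-- The behaviour of an element of order three on `R`. -/
theorem bundle (hc : Core v R) {d : G} (hd : d ^ 3 = 1) (hd1 : d ≠ 1) (hvd : Commute v d) :
    (∀ r ∈ R, r * cj d r * cj d (cj d r) ∈ zpowers v ∧ r * cj d r * (cj d r * r)⁻¹ ∈ zpowers v) ∧
    ∀ τ : G, τ * τ = 1 → Commute v τ → cj τ d = d⁻¹ →
      Nat.card (Wfix v R τ) ^ 2 = 2 * Nat.card R := by
  classical
  have hdL := mem_L.2 hvd
  have hSc := H.sc_bar hc.sq hc.ne hd hd1 hdL
  set π := QuotientGroup.mk' (Zc v) with hπ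
  set d' : centralizer ({v} : Set G) := ⟨d, hdL⟩ with hd'
  have hRL : R ≤ centralizer ({v} : Set G) := fun r hr => mem_L.2 (hc.le r hr)
  set K := (R.subgroupOf (centralizer ({v} : Set G))).map π with hK
  have hker : π.ker = Zc v := QuotientGroup.ker_mk' _
  have hzR : zpowers v ≤ R := zpowers_le.2 hc.mem
  have hmemK : ∀ {r : G} (hr : r ∈ R), π ⟨r, hRL hr⟩ ∈ K := fun hr => ⟨_, mem_subgroupOf.2 hr, rfl⟩
  have hK2 : IsPGroup 2 K := (hc.two.comap_subtype).map _
  have hK3 : ¬ 3 ∣ Nat.card K := fun h3 => by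
    have : Fact (Nat.Prime 2) := ⟨Nat.prime_two⟩
    obtain ⟨n, hn⟩ := hK2.exists_card_eq
    rw [hn] at h3
    exact absurd (Nat.prime_three.dvd_of_dvd_pow h3) (by norm_num)
  have hKn : ∀ g : centralizer ({v} : Set G), ∀ k ∈ K, π g * k * (π g)⁻¹ ∈ K := by
    rintro g _ ⟨r, hr, rfl⟩
    rw [← map_inv, ← map_mul, ← map_mul]
    exact ⟨_, mem_subgroupOf.2 (hc.norm g (mem_L.1 g.2) r (mem_subgroupOf.1 hr)), rfl⟩
  have hInv : SelfCentThree.Inv (π d') K := by
    refine ⟨mem_normalizer_iff.2 fun k => ⟨hKn d' k, fun hk => ?_⟩, hK3⟩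
    have := hKn d'⁻¹ _ hk
    rw [map_inv, inv_inv] at this
    rwa [show (π d')⁻¹ * (π d' * k * (π d')⁻¹) * π d' = k by group] at this
  have htri : Tri (π d') K := by
    refine ⟨hSc.cube, fun k hk => hKn d' k hk, fun k hk => ?_, fun k hk => hInv.norm_eq_one hSc hk⟩
    have hk' : (π d')⁻¹ * k * π d' ∈ K := by
      have := hKn d'⁻¹ k hk
      rwa [map_inv, inv_inv] at this
    have h1 := hInv.coset_cube hSc hk'
    have h2 : ((π d')⁻¹ * k * π d' * (π d')⁻¹) ^ 3 = 1 :=
      SelfCentThree.Inv.coset_cube hSc.inv ⟨inv_mem hInv.norm, hInv.cop⟩ hk'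
    have h3 := SelfCentThree.commute_of_cubes hSc.cube h1 h2
    have hxx : π d' * π d' = (π d')⁻¹ := hSc.inv_eq.symm
    rwa [show π d' * ((π d')⁻¹ * k * π d') * (π d')⁻¹ = k by group,
      show (π d')⁻¹ * ((π d')⁻¹ * k * π d') * π d' = (π d' * π d')⁻¹ * k * (π d' * π d') by group,
      hxx, inv_inv] at h3
  constructor
  · intro r hr
    have hd2 : π d' * π d' = (π d')⁻¹ := hSc.inv_eq.symm
    have h1 := htri.prod _ (hmemK hr)
    have h2 := (htri.comm _ (hmemK hr)).eq
    have h0 : (π d')⁻¹ * π ⟨r, hRL hr⟩ * π d' =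
        π d' * (π d' * π ⟨r, hRL hr⟩ * (π d')⁻¹) * (π d')⁻¹ := by
      rw [show π d' * (π d' * π ⟨r, hRL hr⟩ * (π d')⁻¹) * (π d')⁻¹ =
        (π d' * π d') * π ⟨r, hRL hr⟩ * (π d' * π d')⁻¹ by group, hd2, inv_inv]
    rw [h0] at h1
    simp only [← map_inv, ← map_mul] at h1 h2
    rw [hπ, QuotientGroup.mk'_apply, QuotientGroup.eq_one_iff, mem_subgroupOf] at h1
    rw [hπ, QuotientGroup.mk'_apply, QuotientGroup.mk'_apply, eq_comm, ← mul_inv_eq_one] at h2
    refine ⟨h1, ?_⟩
    rw [← QuotientGroup.mk_inv, ← QuotientGroup.mk_mul, QuotientGroup.eq_one_iff, mem_subgroupOf] at h2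
    have h3 := inv_mem h2
    simpa [d', cj, mul_inv_rev, mul_assoc] using h3
  · intro τ hτ hvτ hτd
    have hτL := mem_L.2 hvτ
    set τ' : centralizer ({v} : Set G) := ⟨τ, hτL⟩ with hτ'
    have h1 : Nat.card K = Nat.card (K ⊓ centralizer ({π τ'} : Set _) : Subgroup _) ^ 2 := by
      refine htri.card_eq_sq hK3 ?_ ?_ fun k hk => hKn τ' k hk
      · rw [← map_mul, show τ' * τ' = 1 from Subtype.ext hτ, map_one]
      · rw [← map_inv, ← map_inv, ← map_mul, ← map_mul]
        exact congrArg π (Subtype.ext hτd)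
    have hW : (Wfix v R τ).subgroupOf (centralizer ({v} : Set G)) =
        R.subgroupOf _ ⊓ (centralizer ({π τ'} : Set _)).comap π := by
      ext ⟨r, hr⟩
      have hπeq : ∀ x y : centralizer ({v} : Set G), π x = π y ↔ (x : G) = y ∨ (x : G) = y * v := fun x y => by
        rw [hπ, QuotientGroup.mk'_apply, QuotientGroup.mk'_apply, QuotientGroup.eq, mem_subgroupOf,
          mem_zpowers_invol hc.sq]
        simp only [coe_mul, InvMemClass.coe_inv, inv_mul_eq_iff_eq_mul, mul_one]
        refine or_congr eq_comm ⟨fun hh => ?_, fun hh => ?_⟩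
        · rw [hh, mul_assoc, hc.sq, mul_one]
        · rw [hh, mul_assoc, hc.sq, mul_one]
      rw [mem_subgroupOf, hc.mem_W hvτ, mem_inf, mem_subgroupOf, mem_comap,
        mem_centralizer_singleton_iff, ← map_mul, ← map_mul, eq_comm (a := π _), hπeq]
      refine and_congr_right fun _ => ?_
      simp only [τ', coe_mul]
      refine or_congr mul_inv_eq_iff_eq_mul ?_
      rw [cj, mul_inv_eq_iff_eq_mul, mul_assoc r v, hvτ.eq, ← mul_assoc]
    have hkR : π.ker ≤ R.subgroupOf (centralizer ({v} : Set G)) := by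
      rw [hker]; exact fun x hx => mem_subgroupOf.2 (hzR (mem_subgroupOf.1 hx))
    have hkW : π.ker ≤ (Wfix v R τ).subgroupOf (centralizer ({v} : Set G)) := by
      rw [hW]
      exact le_inf hkR (fun x hx => by
        rw [mem_comap, MonoidHom.mem_ker.1 hx]; exact one_mem _)
    have hWR : Wfix v R τ ≤ R := fun r hr => ((hc.mem_W hvτ).1 hr).1
    have hkc : Nat.card π.ker = 2 := by
      have : Fact (Nat.Prime 2) := ⟨Nat.prime_two⟩
      rw [hker, Nat.card_congr (subgroupOfEquivOfLe (hzR.trans hRL)).toEquiv, Nat.card_zpowers]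
      exact orderOf_eq_prime (by rw [sq, hc.sq]) hc.ne
    have e1 := card_map_mul_ker π _ hkR
    have e2 := card_map_mul_ker π _ hkW
    rw [hkc, Nat.card_congr (subgroupOfEquivOfLe hRL).toEquiv] at e1
    rw [hkc, Nat.card_congr (subgroupOfEquivOfLe (hWR.trans hRL)).toEquiv, hW,
      show (R.subgroupOf _ ⊓ (centralizer ({π τ'} : Set _)).comap π).map π =
          K ⊓ centralizer ({π τ'} : Set _) from ?_] at e2
    · rw [← e1, ← e2, ← hK, h1]
      ring
    · ext q
      constructor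
      · rintro ⟨x, hx, rfl⟩
        exact ⟨⟨x, hx.1, rfl⟩, hx.2⟩
      · rintro ⟨⟨x, hx, rfl⟩, h2⟩
        exact ⟨x, ⟨hx, h2⟩, rfl⟩

end Cfg

end Cfsg.Agent.M11ThreeLocal
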