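import Mathlib.GroupTheory.Perm.Cycle.Type
import Mathlib.GroupTheory.Index
import Mathlib.GroupTheory.GroupAction.Quotient
import Mathlib.GroupTheory.Subgroup.Simple
import Mathlib.GroupTheory.Subgroup.Centralizer

/-!
# Involutions of a simple group act as even permutations on every coset space
-/

set_option autoImplicit false

namespace Cfsg.Agent.M11ThreeLocal

open Subgroup

/-- The sign of an involutory permutation through its fixed points. -/
theorem four_dvd_moved {α : Type*} [Fintype α] [DecidableEq α] (σ : Equiv.Perm α) (h2 : σ * σ = 1)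
    (hs : Equiv.Perm.sign σ = 1) : 4 ∣ σ.support.card := by
  have hall : ∀ l ∈ σ.cycleType, l = 2 := fun l hl => by
    have h1 := Equiv.Perm.two_le_of_mem_cycleType hl
    have h3 : l ∣ 2 := (Equiv.Perm.dvd_of_mem_cycleType hl).trans
      (orderOf_dvd_of_pow_eq_one (by rw [sq, h2]))
    exact le_antisymm (Nat.le_of_dvd two_pos h3) h1
  have hrep := Multiset.eq_replicate_card.2 hall
  have hsum := σ.sum_cycleType
  rw [hrep, Multiset.sum_replicate, smul_eq_mul] at hsum
  rw [Equiv.Perm.sign_of_cycleType, hrep, Multiset.sum_replicate, Multiset.card_replicate,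
    smul_eq_mul] at hs
  obtain ⟨k, hk⟩ : Even σ.cycleType.card := by
    by_contra hne
    rw [Odd.neg_one_pow ((Nat.even_iff.2 (by omega) : Even (σ.cycleType.card * 2)).add_odd
      (Nat.not_even_iff_odd.1 hne))] at hs
    exact absurd hs (by decide)
  exact ⟨k, by omega⟩

variable {G : Type*} [Group G] [Finite G]

/-- For an involution `v` and a subgroup `H` of a non-abelian simple group, the number `f` of cosets fixed
by `v` is congruent to the index modulo four; and `f` is computed from the conjugates of `v` in `H`. -/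
theorem exists_fixed [IsSimpleGroup G] (hG : ¬ IsMulCommutative G) {v : G} (hv : v * v = 1)
    (H : Subgroup G) :
    ∃ f : ℕ, f * Nat.card H =
        Nat.card (centralizer ({v} : Set G)) * Nat.card {x : H // IsConj v (x : G)} ∧
      H.index % 4 = f % 4 := by
  classical
  letI := Fintype.ofFinite G
  let A := {g : G // g⁻¹ * v * g ∈ H}
  let Fix := {q : G ⧸ H // v • q = q}
  have hfix : ∀ g : G, v • (g : G ⧸ H) = g ↔ g⁻¹ * v * g ∈ H := fun g => by
    rw [MulAction.Quotient.smul_coe, smul_eq_mul, QuotientGroup.eq, ← inv_mem_iff]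
    simp [mul_assoc]
  have hA1 : Nat.card A = Nat.card Fix * Nat.card H := by
    rw [← Nat.card_prod]
    refine Nat.card_congr
      { toFun := fun g => (⟨(g.1 : G ⧸ H), (hfix g.1).2 g.2⟩,
          ⟨((g.1 : G ⧸ H)).out⁻¹ * g.1, QuotientGroup.eq.1 (QuotientGroup.out_eq' (g.1 : G ⧸ H))⟩)
        invFun := fun p => ⟨p.1.1.out * p.2, (hfix _).1 ?_⟩
        left_inv := fun g => Subtype.ext (by simp)
        right_inv := fun p => ?_ }
    · rw [QuotientGroup.mk_mul_of_mem _ p.2.2, QuotientGroup.out_eq']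
      exact p.1.2
    · obtain ⟨⟨q, hq⟩, ⟨k, hk⟩⟩ := p
      have : ((q.out * k : G) : G ⧸ H) = q := by
        rw [QuotientGroup.mk_mul_of_mem _ hk, QuotientGroup.out_eq']
      simp [this]
  have hA2 : Nat.card A =
      Nat.card (centralizer ({v} : Set G)) * Nat.card {x : H // IsConj v (x : G)} := by
    rw [← Nat.card_prod]
    have hch : ∀ x : {x : H // IsConj v (x : G)}, ∃ g : G, g⁻¹ * v * g = x.1 := fun x => by
      obtain ⟨c, hc⟩ := isConj_iff.1 x.2
      exact ⟨c⁻¹, by rw [inv_inv]; exact hc⟩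
    choose r hr using hch
    let cl : A → {x : H // IsConj v (x : G)} := fun g =>
      ⟨⟨g.1⁻¹ * v * g.1, g.2⟩, isConj_iff.2 ⟨g.1⁻¹, by rw [inv_inv]⟩⟩
    refine Nat.card_congr
      { toFun := fun g => (⟨g.1 * (r (cl g))⁻¹, ?_⟩, cl g)
        invFun := fun p => ⟨p.1 * r p.2, ?_⟩
        left_inv := fun g => Subtype.ext (by simp)
        right_inv := fun p => ?_ }
    · rw [mem_centralizer_singleton_iff]
      have := hr (cl g)
      change (r (cl g))⁻¹ * v * r (cl g) = g.1⁻¹ * v * g.1 at this
      calc g.1 * (r (cl g))⁻¹ * v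
          = g.1 * ((r (cl g))⁻¹ * v * r (cl g)) * (r (cl g))⁻¹ := by group
        _ = v * (g.1 * (r (cl g))⁻¹) := by rw [this]; group
    · have h1 := mem_centralizer_singleton_iff.1 p.1.2
      rw [show ((p.1 : G) * r p.2)⁻¹ * v * ((p.1 : G) * r p.2)
        = (r p.2)⁻¹ * ((p.1 : G)⁻¹ * (v * p.1)) * r p.2 by group, ← h1, inv_mul_cancel_left, hr p.2]
      exact p.2.1.2
    · obtain ⟨⟨c, hc⟩, x⟩ := p
      have h1 := mem_centralizer_singleton_iff.1 hc
      have hxe : cl ⟨c * r x, by
          rw [show (c * r x)⁻¹ * v * (c * r x) = (r x)⁻¹ * (c⁻¹ * (v * c)) * r x by group, ← h1,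
            inv_mul_cancel_left, hr x]
          exact x.1.2⟩ = x := by
        refine Subtype.ext (Subtype.ext ?_)
        show (c * r x)⁻¹ * v * (c * r x) = _
        rw [show (c * r x)⁻¹ * v * (c * r x) = (r x)⁻¹ * (c⁻¹ * (v * c)) * r x by group, ← h1,
            inv_mul_cancel_left, hr x]
      refine Prod.ext (Subtype.ext ?_) hxe
      simp [hxe]
  refine ⟨Nat.card Fix, hA1.symm.trans hA2, ?_⟩
  let ρ : G →* Equiv.Perm (G ⧸ H) := MulAction.toPermHom G (G ⧸ H)
  have hsign : Equiv.Perm.sign (ρ v) = 1 := by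
    rcases IsSimpleGroup.eq_bot_or_eq_top_of_normal (Equiv.Perm.sign.comp ρ).ker inferInstance with
      hk | hk
    · exfalso
      have hinj := (MonoidHom.ker_eq_bot_iff _).1 hk
      exact hG ⟨⟨fun a b => hinj (by simp only [map_mul]; exact mul_comm _ _)⟩⟩
    · exact (MonoidHom.mem_ker).1 (hk ▸ Subgroup.mem_top v :
        v ∈ (Equiv.Perm.sign.comp ρ).ker)
  have h4 := four_dvd_moved (ρ v) (by rw [← map_mul, hv, map_one]) hsign
  have hsplit : H.index = (ρ v).support.card + Nat.card Fix := by
    rw [Subgroup.index, Nat.card_eq_fintype_card, Nat.card_eq_fintype_card, Fintype.card_subtype,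
      ← Finset.card_univ, ← Finset.card_filter_add_card_filter_not (p := fun q => v • q = q), add_comm]
    congr 1
  obtain ⟨k, hk⟩ := h4
  omega

end Cfsg.Agent.M11ThreeLocal
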