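import Cfsg.Agent.M11ThreeLocal.Side
import Cfsg.Agent.M11ThreeLocal.Sign

/-!
# Counting the conjugates of `s` in the normalizer of the nine-group
-/

set_option autoImplicit false
set_option linter.unusedSectionVars false

namespace Cfsg.Agent.M11ThreeLocal

open Subgroup

variable {G : Type*} [Group G] [Finite G]

/-- The number of conjugates under a subgroup. -/
theorem card_orbit_mul (K : Subgroup G) (s : G) :
    Nat.card {x : G // ∃ k ∈ K, cj k s = x} * Nat.card (K ⊓ centralizer ({s} : Set G) : Subgroup G) =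
      Nat.card K := by
  classical
  let Orb := {x : G // ∃ k ∈ K, cj k s = x}
  have hch : ∀ x : Orb, ∃ k : K, cj (k : G) s = x.1 := fun x => by
    obtain ⟨k, hk, he⟩ := x.2
    exact ⟨⟨k, hk⟩, he⟩
  choose r hr using hch
  let F : K → Orb := fun k => ⟨cj (k : G) s, k, k.2, rfl⟩
  have hmem : ∀ k : K, ((r (F k) : K) : G)⁻¹ * k ∈ (K ⊓ centralizer ({s} : Set G) : Subgroup G) := fun k => by
    refine ⟨K.mul_mem (K.inv_mem (r (F k)).2) k.2, mem_centralizer_singleton_iff.2 (cj_eq_self.1 ?_)⟩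
    rw [← cj_cj]
    have h1 : cj (r (F k) : G) s = cj (k : G) s := hr (F k)
    rw [← h1, cj_inv_cj]
  rw [← Nat.card_prod]
  refine (Nat.card_congr
    { toFun := fun k => (F k, ⟨((r (F k) : K) : G)⁻¹ * k, hmem k⟩)
      invFun := fun p => r p.1 * ⟨p.2.1, p.2.2.1⟩
      left_inv := fun k => Subtype.ext (by simp)
      right_inv := fun p => ?_ }).symm
  obtain ⟨x, ⟨c, hc⟩⟩ := p
  have hc' : Commute c s := mem_centralizer_singleton_iff.1 hc.2
  have hF : F (r x * ⟨c, hc.1⟩) = x := Subtype.ext (by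
    show cj ((r x : G) * c) s = x.1
    rw [← cj_cj, cj_of_commute hc', hr])
  refine Prod.ext hF (Subtype.ext ?_)
  show ((r (F (r x * ⟨c, hc.1⟩)) : K) : G)⁻¹ * ((r x : G) * c) = c
  rw [hF, inv_mul_cancel_left]

variable {M : Subgroup G} {e h s t z a : G}

namespace Cfg

variable (H : Cfg M e h s t z a)

include H

theorem conj_s_t : IsConj s t := isConj_iff.2 ⟨a ^ 2, H.a2_s⟩

theorem not_s_one {x : G} (hx : IsConj s x) : x ≠ 1 := fun h0 => by
  subst h0
  obtain ⟨c, hc⟩ := isConj_iff.1 hx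
  exact H.s_ne (conj_eq_one_iff.1 hc)

theorem sq_of_conj {x : G} (hx : IsConj s x) : x * x = 1 := by
  obtain ⟨c, rfl⟩ := isConj_iff.1 hx
  show cj c s * cj c s = 1
  rw [← cj_mul, H.s_sq, cj_one]

/-- An element of the cyclic group inside the nine-group is trivial. -/
theorem pow_mem_M {j : ℕ} (hj : a ^ j ∈ M) : a ^ j = 1 := by
  have h8 : (a ^ j) ^ 8 = 1 := by rw [← pow_mul, mul_comm, pow_mul, H.a8, one_pow]
  calc a ^ j = ((a ^ j) ^ 3) ^ 3 * ((a ^ j) ^ 8)⁻¹ := by group
    _ = 1 := by rw [H.cube _ hj, h8, one_pow, inv_one, one_mul]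

theorem pow_eq_one_iff' {j : ℕ} : a ^ j = 1 ↔ 8 ∣ j := by
  rw [← orderOf_dvd_iff_pow_eq_one, H.a_ord]

theorem s_pow (i : ℕ) : s * a ^ i = a ^ (3 * i) * s := by
  have h1 : cj s (a ^ i) = a ^ (3 * i) := by rw [← cj_pow, H.sa, pow_mul]
  rw [← h1, cj, inv_mul_cancel_right]

/-- Even powers of `a` times `s` are conjugates of `s` under the normalizer. -/
theorem even_s {j : ℕ} : ∃ k : ℕ, cj (a ^ k) s = a ^ (2 * j) * s := by
  have hk : ∀ k : ℕ, cj (a ^ k) s = a ^ (6 * k) * s := fun k => by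
    have h1 : cj s (a ^ k)⁻¹ = (a ^ (3 * k))⁻¹ := by rw [cj_inv, ← cj_pow, H.sa, pow_mul]
    have h8 : a ^ k * (a ^ (3 * k))⁻¹ = a ^ (6 * k) := by
      rw [mul_inv_eq_iff_eq_mul, ← pow_add, show 6 * k + 3 * k = k + 8 * k by omega, pow_add,
        pow_mul, H.a8, one_pow, mul_one]
    calc cj (a ^ k) s = a ^ k * cj s (a ^ k)⁻¹ * s := by
          simp only [cj, mul_assoc, inv_mul_cancel, mul_one]
      _ = _ := by rw [h1, h8]
  refine ⟨3 * j, ?_⟩
  rw [hk, show 6 * (3 * j) = 2 * j + 8 * (2 * j) by omega, pow_add, pow_mul a 8, H.a8, one_pow, mul_one]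

/-- Conjugates of `s` in the normalizer. -/
theorem N_conj {x : G} (hxN : x ∈ normalizer (M : Set G)) (hzs : ¬ IsConj s z) (hx : IsConj s x) :
    ∃ k ∈ normalizer (M : Set G), cj k s = x := by
  have hxx := H.sq_of_conj hx
  obtain ⟨i, m, hm, hcase⟩ := H.N_cases hxN
  have hM2 : ∀ {u : G}, u ∈ normalizer (M : Set G) → u * m * (u * m) = 1 → u * u ∈ M := fun {u} hu hh => by
    have h1 : cj u m * (u * u) * m = 1 := by
      rw [← hh, cj]; group
    have h2 : u * u = (cj u m)⁻¹ * m⁻¹ := by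
      rw [eq_mul_inv_iff_mul_eq]
      exact eq_inv_of_mul_eq_one_right (by rw [← mul_assoc]; exact h1)
    rw [h2]
    exact mul_mem (inv_mem (H.cjM hu hm)) (inv_mem hm)
  rcases hcase with rfl | rfl
  · exfalso
    have h1 := hM2 (pow_mem H.aN _) hxx
    rw [← pow_add] at h1
    have h2 := H.pow_eq_one_iff'.1 (H.pow_mem_M h1)
    have hi : (i : ℕ) = 0 ∨ (i : ℕ) = 4 := by omega
    rcases hi with hi | hi <;> rw [hi] at hx hxx
    · rw [pow_zero, one_mul] at hx hxx
      exact H.not_s_one hx (eq_one_of_sq_cube hxx (H.cube m hm))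
    · rw [← H.z_eq] at hx
      refine hzs (hx.trans (isConj_iff.2 ⟨m, ?_⟩).symm)
      show cj m z = z * m
      have h3 : cj z m⁻¹ = m := by rw [cj_inv, H.z_inv m hm, inv_inv]
      have hmm : m * m = m⁻¹ := eq_inv_of_mul_eq_one_left (by rw [← pow_three']; exact H.cube m hm)
      calc cj m z = m * cj z m⁻¹ * z := by simp only [cj]; group
        _ = m⁻¹ * z := by rw [h3, hmm]
        _ = z * m := by rw [← H.z_inv m hm, cj, inv_mul_cancel_right]
  · have huu : a ^ (i : ℕ) * s * (a ^ (i : ℕ) * s) = a ^ (4 * (i : ℕ)) := by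
      rw [← mul_assoc, mul_assoc (a ^ (i : ℕ)) s, H.s_pow, mul_assoc, mul_assoc (a ^ (3 * (i : ℕ))),
        H.s_sq, mul_one, ← pow_add]
      congr 1; omega
    have h1 := hM2 (mul_mem (pow_mem H.aN _) H.sN) hxx
    rw [huu] at h1
    have h2 := H.pow_eq_one_iff'.1 (H.pow_mem_M h1)
    obtain ⟨j, hj⟩ : ∃ j, (i : ℕ) = 2 * j := ⟨(i : ℕ) / 2, by omega⟩
    rw [hj] at hxx ⊢
    obtain ⟨k, hk⟩ := H.even_s (j := j)
    rw [← hk] at hxx ⊢
    refine ⟨m * a ^ k, mul_mem (le_normalizer hm) (pow_mem H.aN k), ?_⟩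
    obtain ⟨u, hu⟩ : ∃ u, u = cj (a ^ k) s := ⟨_, rfl⟩
    rw [← cj_cj, ← hu]
    rw [← hu] at hxx
    have hu2 : u * u = 1 := by rw [hu, ← cj_mul, H.s_sq, cj_one]
    have h3 : cj u m⁻¹ = m := by
      have h4 : cj u m * m = 1 := by rw [cj, inv_of_sq hu2]; simpa only [mul_assoc] using hxx
      rw [cj_inv, eq_inv_of_mul_eq_one_left h4, inv_inv]
    have hmm : m * m = m⁻¹ := eq_inv_of_mul_eq_one_left (by rw [← pow_three']; exact H.cube m hm)
    calc cj m u = m * cj u m⁻¹ * u := by simp only [cj]; group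
      _ = m⁻¹ * u := by rw [h3, hmm]
      _ = u * m := by
        nth_rewrite 2 [← h3]
        rw [cj, inv_of_sq hu2, ← mul_assoc, ← mul_assoc, hu2, one_mul]

theorem card_N_cent : Nat.card (normalizer (M : Set G) ⊓ centralizer ({s} : Set G) : Subgroup G) = 12 := by
  classical
  let f : Fin 4 × zpowers e → (normalizer (M : Set G) ⊓ centralizer ({s} : Set G) : Subgroup G) := fun p =>
    ⟨![1, s, t, z] p.1 * p.2, by
      have hn : (p.2 : G) ∈ normalizer (M : Set G) := le_normalizer (zpowers_le.2 H.eM p.2.2)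
      have hc : Commute s (p.2 : G) := (H.fix _ (zpowers_le.2 H.eM p.2.2)).2 p.2.2
      obtain ⟨i, q⟩ := p
      fin_cases i
      exacts [⟨mul_mem (one_mem _) hn, mem_L.2 ((Commute.one_right s).mul_right hc)⟩,
        ⟨mul_mem H.sN hn, mem_L.2 ((Commute.refl s).mul_right hc)⟩,
        ⟨mul_mem (H.t_eq' ▸ mul_mem H.zN H.sN) hn, mem_L.2 (H.ts_comm.symm.mul_right hc)⟩,
        ⟨mul_mem H.zN hn, mem_L.2 (H.sz.mul_right hc)⟩]⟩
  have hb : Function.Bijective f := by
    constructor
    · rintro ⟨i, p⟩ ⟨j, q⟩ hpq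
      have h1 : ![1, s, t, z] i * (p : G) = ![1, s, t, z] j * (q : G) := congrArg Subtype.val hpq
      have hd : (![1, s, t, z] j)⁻¹ * ![1, s, t, z] i ∈ M := by
        rw [show (![1, s, t, z] j)⁻¹ * ![1, s, t, z] i = (q : G) * (p : G)⁻¹ by
          rw [inv_mul_eq_iff_eq_mul, ← mul_assoc, ← h1, mul_inv_cancel_right]]
        exact mul_mem (zpowers_le.2 H.eM q.2) (inv_mem (zpowers_le.2 H.eM p.2))
      have n1 : ∀ {v : G}, v * v = 1 → v ∈ M → v = 1 := fun hv hm => eq_one_of_sq_cube hv (H.cube _ hm)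
      have hij : i = j := by
        have ns : s ∉ M := fun hm => H.s_ne (n1 H.s_sq hm)
        have nt : t ∉ M := fun hm => H.t_ne (n1 H.tt hm)
        have nz : z ∉ M := fun hm => H.z_ne (n1 H.zz hm)
        have e1 : s * t = z := H.st
        have e2 : t * s = z := H.ts
        have e3 : s * z = t := by rw [← H.st, ← mul_assoc, H.s_sq, one_mul]
        have e4 : z * s = t := H.t_eq'.symm
        have e5 : t * z = s := by rw [← H.ts, ← mul_assoc, H.tt, one_mul]
        have e6 : z * t = s := by rw [← H.st, mul_assoc, H.tt, mul_one]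
        have is : s⁻¹ = s := inv_of_sq H.s_sq
        have it : t⁻¹ = t := inv_of_sq H.tt
        have iz : z⁻¹ = z := inv_of_sq H.zz
        fin_cases i <;> fin_cases j <;>
          simp [is, it, iz, e1, e2, e3, e4, e5, e6] at hd ⊢ <;> contradiction
      subst hij
      rw [mul_right_inj] at h1
      rw [Subtype.ext h1]
    · rintro ⟨g, hgN, hgs⟩
      have hgs' : Commute g s := mem_centralizer_singleton_iff.1 hgs
      obtain ⟨i, m, hm, hcase⟩ := H.N_cases hgN
      have red : ∀ {u : G}, Commute (u * m) s → u ∈ normalizer (M : Set G) → cj s u * u⁻¹ ∈ M := fun {u} hc hu => by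
        have h1 := cj_of_commute hc.symm
        rw [cj_mul] at h1
        rw [show cj s u * u⁻¹ = cj u (m * (cj s m)⁻¹) by
          rw [eq_mul_inv_iff_mul_eq.2 h1]; simp only [cj, mul_assoc]]
        exact H.cjM hu (mul_mem hm (inv_mem (H.cjM H.sN hm)))
      have hev : (i : ℕ) = 0 ∨ (i : ℕ) = 4 := by
        have h1 : cj s (a ^ (i : ℕ)) * (a ^ (i : ℕ))⁻¹ ∈ M := by
          rcases hcase with rfl | rfl
          · exact red hgs' (pow_mem H.aN _)
          · have h2 := red hgs' (mul_mem (pow_mem H.aN _) H.sN)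
            rw [cj_mul, cj_of_commute (Commute.refl s), mul_inv_rev, ← mul_assoc,
              mul_inv_cancel_right] at h2
            exact h2
        rw [← cj_pow, H.sa, ← pow_mul, show 3 * (i : ℕ) = 2 * i + i by omega, pow_add,
          mul_inv_cancel_right] at h1
        have h3 := H.pow_eq_one_iff'.1 (H.pow_mem_M h1)
        omega
      have hv : ∃ k : Fin 4, g = ![1, s, t, z] k * m := by
        rcases hev with hi | hi <;> rcases hcase with rfl | rfl <;> rw [hi]
        · exact ⟨0, by simp⟩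
        · exact ⟨1, by simp⟩
        · exact ⟨3, by rw [← H.z_eq]; rfl⟩
        · exact ⟨2, by rw [← H.z_eq, ← H.t_eq']; rfl⟩
      obtain ⟨k, rfl⟩ := hv
      have hcm : Commute s m := by
        have hk : Commute s (![1, s, t, z] k) := by
          fin_cases k
          exacts [Commute.one_right s, Commute.refl s, H.ts_comm.symm, H.sz]
        have := (hk.inv_right).mul_right hgs'.symm
        rwa [inv_mul_cancel_left] at this
      exact ⟨(k, ⟨m, (H.fix m hm).1 hcm.eq⟩), Subtype.ext rfl⟩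
  rw [← Nat.card_congr (Equiv.ofBijective f hb), Nat.card_prod, Nat.card_fin, Nat.card_zpowers,
    orderOf_eq_prime (hp := ⟨Nat.prime_three⟩) H.e3 H.e_ne]

theorem index_N : 144 * (normalizer (M : Set G)).index = Nat.card G := by
  rw [← H.cardN, card_mul_index]

/-- The fixed points of `s` on the conjugates of the nine-group. -/
theorem fixed_N [IsSimpleGroup G] (hG : ¬ IsMulCommutative G) (hzs : ¬ IsConj s z) :
    ∃ f, f * 12 = Nat.card (centralizer ({s} : Set G)) ∧ (normalizer (M : Set G)).index % 4 = f % 4 := by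
  obtain ⟨f, hf, hm⟩ := exists_fixed hG H.s_sq (normalizer (M : Set G))
  refine ⟨f, ?_, hm⟩
  have h1 := card_orbit_mul (normalizer (M : Set G)) s
  have h2 : Nat.card {x : normalizer (M : Set G) // IsConj s (x : G)} =
      Nat.card {x : G // ∃ k ∈ normalizer (M : Set G), cj k s = x} :=
    Nat.card_congr
      { toFun := fun x => ⟨x.1.1, H.N_conj x.1.2 hzs x.2⟩
        invFun := fun x => ⟨⟨x.1, by
            obtain ⟨k, hk, he⟩ := x.2
            rw [← he]
            exact mul_mem (mul_mem hk H.sN) (inv_mem hk)⟩, by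
            obtain ⟨k, hk, he⟩ := x.2
            exact isConj_iff.2 ⟨k, he⟩⟩
        left_inv := fun x => rfl
        right_inv := fun x => rfl }
  rw [H.card_N_cent, H.cardN] at h1
  rw [h2, H.cardN, show Nat.card {x : G // ∃ k ∈ normalizer (M : Set G), cj k s = x} = 12 by omega] at hf
  omega

end Cfg

end Cfsg.Agent.M11ThreeLocal
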