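import Cfsg.Agent.M11ThreeLocal.Split
import Mathlib.GroupTheory.SpecificGroups.Alternating

/-!
# Computations in the symmetric group on three and the alternating group on five letters
-/

set_option autoImplicit false
set_option synthInstance.maxSize 1000

namespace Cfsg.Agent.M11ThreeLocal

open Equiv

theorem s3_crit : ∀ d τ p : Perm (Fin 3), d ^ 3 = 1 → d ≠ 1 → τ * d * τ⁻¹ = d⁻¹ → p * p = 1 →
    τ * p = p * τ → p * (d * p * d⁻¹) = (d * p * d⁻¹) * p → p = 1 := by decide +kernel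

theorem s3_four : ∀ p : Perm (Fin 3), p ^ 4 = 1 → p * p = 1 := by decide +kernel

theorem s3_prod : ∀ p q : Perm (Fin 3), p * p = 1 → q * q = 1 → (p * q) * (p * q) = 1 →
    p ≠ 1 → q ≠ 1 → p = q := by decide +kernel

theorem s3_coprime : ∀ p : Perm (Fin 3), p ^ 6 = 1 := by decide +kernel

/-- The three transpositions are conjugate under an element of order three. -/
theorem s3_conj : ∀ d τ p : Perm (Fin 3), d ^ 3 = 1 → d ≠ 1 → τ * τ = 1 → τ ≠ 1 → p * p = 1 → p ≠ 1 →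
    ∃ i : Fin 3, d ^ (i : ℕ) * p * (d ^ (i : ℕ))⁻¹ = τ := by decide +kernel

theorem s3_conj_unique : ∀ d τ : Perm (Fin 3), d ^ 3 = 1 → d ≠ 1 → τ * τ = 1 → τ ≠ 1 →
    ∀ i j : Fin 3, (d ^ (i : ℕ))⁻¹ * τ * d ^ (i : ℕ) = (d ^ (j : ℕ))⁻¹ * τ * d ^ (j : ℕ) → i = j := by
  decide +kernel

theorem a5_crit : ∀ p : alternatingGroup (Fin 5), p * p = 1 → p ≠ 1 →
    ∀ d : alternatingGroup (Fin 5), d ^ 3 = 1 → d ≠ 1 → p * (d * p * d⁻¹) = (d * p * d⁻¹) * p →
    p * (d * p * d⁻¹) * (d * (d * p * d⁻¹) * d⁻¹) = 1 →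
    ∀ τ : alternatingGroup (Fin 5), τ * p = p * τ → τ * d * τ⁻¹ ≠ d⁻¹ := by decide +kernel

theorem a5_four : ∀ p : alternatingGroup (Fin 5), p ^ 4 = 1 → p * p = 1 := by decide +kernel

/-- Every element of order five is a product of two elements of order three, suitably. -/
theorem a5_five : ∀ p : alternatingGroup (Fin 5), p ^ 5 = 1 → p ≠ 1 →
    ∃ x : alternatingGroup (Fin 5), x ^ 3 = 1 ∧ (x⁻¹ * p) ^ 3 = 1 ∧ (x * (x⁻¹ * p)⁻¹) ^ 5 = 1 := by
  decide +kernel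

theorem a5_conj : ∀ p : alternatingGroup (Fin 5), p * p = 1 → p ≠ 1 → ∀ q : alternatingGroup (Fin 5),
    q * q = 1 → q ≠ 1 → ∃ g : alternatingGroup (Fin 5), g * p * g⁻¹ = q := by decide +kernel

/-- An element of order three normalising a four group. -/
theorem a5_mover : ∀ p : alternatingGroup (Fin 5), p * p = 1 → p ≠ 1 → ∀ q : alternatingGroup (Fin 5),
    q * q = 1 → q ≠ 1 → q ≠ p → p * q = q * p →
    ∃ d : alternatingGroup (Fin 5), d ^ 3 = 1 ∧ d ≠ 1 ∧ d * p * d⁻¹ = q ∧ d * q * d⁻¹ = p * q := by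
  decide +kernel

/-- A two-element of a group whose exponent has two-part at most four. -/
theorem two_pow_four {K : Type*} [Group K] [Finite K] {n : ℕ} (hn : Nat.card K = n) (h8 : ¬ 8 ∣ n) {p : K}
    (hp : Two p) : p ^ 4 = 1 := by
  obtain ⟨k, hk⟩ := hp
  obtain ⟨i, -, hi⟩ := (Nat.dvd_prime_pow Nat.prime_two).1 (orderOf_dvd_of_pow_eq_one hk)
  have hd : 2 ^ i ∣ n := hi ▸ hn ▸ orderOf_dvd_natCard p
  have hi2 : i ≤ 2 := by
    by_contra h3
    exact h8 ((pow_dvd_pow 2 (show 3 ≤ i by omega)).trans hd)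
  refine orderOf_dvd_iff_pow_eq_one.1 ?_
  rw [hi]
  exact pow_dvd_pow 2 hi2

theorem Two.s3_sq {p : Perm (Fin 3)} (hp : Two p) : p * p = 1 :=
  s3_four p (two_pow_four (n := 6) (by rw [Nat.card_eq_fintype_card, Fintype.card_perm]; rfl)
    (by norm_num) hp)

theorem Two.a5_sq {p : alternatingGroup (Fin 5)} (hp : Two p) : p * p = 1 :=
  a5_four p (two_pow_four (n := 60)
    (by rw [nat_card_alternatingGroup, Nat.card_fin]; rfl) (by norm_num) hp)

end Cfsg.Agent.M11ThreeLocal
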