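import Mathlib.GroupTheory.Index
import Mathlib.GroupTheory.OrderOfElement
import Mathlib.Tactic.Group
import Mathlib.Tactic.Abel

/-!
# A fixed-point-free element of order three with an inverting involution
-/

set_option autoImplicit false

namespace Cfsg.Agent.M11ThreeLocal

open Subgroup

variable {G : Type*} [Group G]

theorem eq_one_of_cube {K : Subgroup G} [Finite K] (h3 : ¬ 3 ∣ Nat.card K) {y : G} (hy : y ∈ K)
    (hc : y ^ 3 = 1) : y = 1 := by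
  have h1 : orderOf y ∣ 3 := orderOf_dvd_of_pow_eq_one hc
  rcases Nat.prime_three.eq_one_or_self_of_dvd _ h1 with e | e
  · exact orderOf_eq_one_iff.1 e
  · refine absurd ?_ h3
    rw [← e, ← orderOf_mk y hy]
    exact orderOf_dvd_natCard _

/-- `x` permutes each element with two others, pairwise commuting and with product one. -/
structure Tri (x : G) (K : Subgroup G) : Prop where
  cube : x ^ 3 = 1
  norm : ∀ k ∈ K, x * k * x⁻¹ ∈ K
  comm : ∀ k ∈ K, Commute k (x * k * x⁻¹)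
  prod : ∀ k ∈ K, k * (x * k * x⁻¹) * (x⁻¹ * k * x) = 1

variable {x τ : G} {K : Subgroup G}

theorem Tri.xx (h : Tri x K) : x * x = x⁻¹ :=
  (inv_eq_of_mul_eq_one_right (by rw [← h.cube, pow_succ, sq, mul_assoc])).symm

theorem Tri.norm' (h : Tri x K) {k : G} (hk : k ∈ K) : x⁻¹ * k * x ∈ K := by
  have := h.norm _ (h.norm k hk)
  rwa [show x * (x * k * x⁻¹) * x⁻¹ = (x * x) * k * (x * x)⁻¹ by group, h.xx, inv_inv] at this

theorem Tri.comm' (h : Tri x K) {k : G} (hk : k ∈ K) :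
    Commute k (x⁻¹ * k * x) ∧ Commute (x * k * x⁻¹) (x⁻¹ * k * x) := by
  have h1 := h.comm _ (h.norm' hk)
  rw [show x * (x⁻¹ * k * x) * x⁻¹ = k by group] at h1
  refine ⟨h1.symm, ?_⟩
  have h2 := h.comm _ (h.norm k hk)
  rwa [show x * (x * k * x⁻¹) * x⁻¹ = (x * x) * k * (x * x)⁻¹ by group, h.xx, inv_inv] at h2

/-- The map exchanging fixed and inverted elements. -/
def flip (x k : G) : G := (x * k * x⁻¹)⁻¹ * (x⁻¹ * k * x)

theorem Tri.flip_mem (h : Tri x K) {k : G} (hk : k ∈ K) : flip x k ∈ K :=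
  mul_mem (inv_mem (h.norm k hk)) (h.norm' hk)

theorem Tri.flip_flip (h : Tri x K) {k : G} (hk : k ∈ K) : flip x (flip x k) = (k ^ 3)⁻¹ := by
  obtain ⟨hq, hpq⟩ := h.comm' hk
  have hprod := h.prod k hk
  have e1 : x * (x * k * x⁻¹) * x⁻¹ = x⁻¹ * k * x := by
    rw [show x * (x * k * x⁻¹) * x⁻¹ = (x * x) * k * (x * x)⁻¹ by group, h.xx, inv_inv]
  have e2 : x⁻¹ * (x⁻¹ * k * x) * x = x * k * x⁻¹ := by
    rw [show x⁻¹ * (x⁻¹ * k * x) * x = (x * x)⁻¹ * k * (x * x) by group, h.xx, inv_inv]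
  calc flip x (flip x k)
      = (x * (x⁻¹ * k * x) * x⁻¹)⁻¹ * (x * (x * k * x⁻¹) * x⁻¹) *
          ((x⁻¹ * (x * k * x⁻¹) * x)⁻¹ * (x⁻¹ * (x⁻¹ * k * x) * x)) := by
        simp only [flip, mul_inv_rev, inv_inv, mul_assoc, mul_inv_cancel_left, inv_mul_cancel_left]
    _ = k⁻¹ * (x⁻¹ * k * x) * (k⁻¹ * (x * k * x⁻¹)) := by
        rw [e1, e2]; group
    _ = k⁻¹ * k⁻¹ * ((x⁻¹ * k * x) * (x * k * x⁻¹)) := by
        rw [mul_assoc, ← mul_assoc (x⁻¹ * k * x), (hq.symm.inv_right).eq]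
        simp only [mul_assoc]
    _ = (k ^ 3)⁻¹ := by
        rw [← hpq.eq, show (x * k * x⁻¹) * (x⁻¹ * k * x) = k⁻¹ by
          rw [eq_inv_iff_mul_eq_one]
          rw [mul_assoc] at hprod
          exact mul_eq_one_comm.1 hprod]
        rw [pow_succ, sq]; group

/-- An inverting involution has square-root many fixed points. -/
theorem Tri.card_eq_sq [Finite G] (h : Tri x K) (h3 : ¬ 3 ∣ Nat.card K) (hτ : τ * τ = 1)
    (hx : τ * x * τ⁻¹ = x⁻¹) (hn : ∀ k ∈ K, τ * k * τ⁻¹ ∈ K) :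
    Nat.card K = Nat.card (K ⊓ centralizer ({τ} : Set G) : Subgroup G) ^ 2 := by
  classical
  have hti : τ⁻¹ = τ := inv_eq_of_mul_eq_one_right hτ
  have hτ' : ∀ a, τ * (τ * a * τ⁻¹) * τ⁻¹ = a := fun a => by
    rw [show τ * (τ * a * τ⁻¹) * τ⁻¹ = τ * τ * a * (τ * τ)⁻¹ by group, hτ, inv_one, one_mul, mul_one]
  have hswap : ∀ k, τ * (x * k * x⁻¹) * τ⁻¹ = x⁻¹ * (τ * k * τ⁻¹) * x := fun k => by
    rw [show τ * (x * k * x⁻¹) * τ⁻¹ = (τ * x * τ⁻¹) * (τ * k * τ⁻¹) * (τ * x * τ⁻¹)⁻¹ by group, hx,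
      inv_inv]
  have hswap' : ∀ k, τ * (x⁻¹ * k * x) * τ⁻¹ = x * (τ * k * τ⁻¹) * x⁻¹ := fun k => by
    rw [show τ * (x⁻¹ * k * x) * τ⁻¹ = (τ * x * τ⁻¹)⁻¹ * (τ * k * τ⁻¹) * (τ * x * τ⁻¹) by group, hx,
      inv_inv]
  set C := K ⊓ centralizer ({τ} : Set G) with hC
  have hCmem : ∀ {k}, k ∈ C ↔ k ∈ K ∧ τ * k * τ⁻¹ = k := fun {k} => by
    rw [hC, mem_inf, mem_centralizer_singleton_iff, mul_inv_eq_iff_eq_mul, eq_comm (a := τ * k)]
  let I := {k : G // k ∈ K ∧ τ * k * τ⁻¹ = k⁻¹}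
  have hFC : ∀ k : C, τ * flip x k * τ⁻¹ = (flip x (k : G))⁻¹ := by
    rintro ⟨k, hk⟩
    obtain ⟨hk, hk'⟩ := hCmem.1 hk
    have := (h.comm' hk).2
    simp only [flip]
    rw [show τ * ((x * k * x⁻¹)⁻¹ * (x⁻¹ * k * x)) * τ⁻¹
      = (τ * (x * k * x⁻¹) * τ⁻¹)⁻¹ * (τ * (x⁻¹ * k * x) * τ⁻¹) by group, hswap, hswap', hk',
      mul_inv_rev (x * k * x⁻¹)⁻¹ (x⁻¹ * k * x), inv_inv (x * k * x⁻¹)]
  have hFI : ∀ k : I, τ * flip x k * τ⁻¹ = flip x (k : G) := by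
    rintro ⟨k, hk, hk'⟩
    have := (h.comm' hk).2
    simp only [flip]
    rw [show τ * ((x * k * x⁻¹)⁻¹ * (x⁻¹ * k * x)) * τ⁻¹
      = (τ * (x * k * x⁻¹) * τ⁻¹)⁻¹ * (τ * (x⁻¹ * k * x) * τ⁻¹) by group, hswap, hswap', hk',
      show x⁻¹ * k⁻¹ * x = (x⁻¹ * k * x)⁻¹ by group, show x * k⁻¹ * x⁻¹ = (x * k * x⁻¹)⁻¹ by group,
      inv_inv (x⁻¹ * k * x), this.inv_left.eq]
  have hinj : ∀ a ∈ K, ∀ b ∈ K, flip x a = flip x b → a = b := fun a ha b hb e => by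
    have e3 : a ^ 3 = b ^ 3 := inv_injective (by rw [← h.flip_flip ha, ← h.flip_flip hb, e])
    have h2 : (Nat.card K).Coprime 3 := (Nat.prime_three.coprime_iff_not_dvd.2 h3).symm
    have := (powCoprime h2).injective (a₁ := (⟨a, ha⟩ : K)) (a₂ := ⟨b, hb⟩) (Subtype.ext e3)
    exact congrArg Subtype.val this
  have hCI : Nat.card C ≤ Nat.card I := Nat.card_le_card_of_injective
    (fun k : C => (⟨flip x k, h.flip_mem (hCmem.1 k.2).1, hFC k⟩ : I))
    fun a b e => Subtype.ext (hinj _ (hCmem.1 a.2).1 _ (hCmem.1 b.2).1 (congrArg Subtype.val e))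
  have hIC : Nat.card I ≤ Nat.card C := Nat.card_le_card_of_injective
    (fun k : I => (⟨flip x k, hCmem.2 ⟨h.flip_mem k.2.1, hFI k⟩⟩ : C))
    fun a b e => Subtype.ext (hinj _ a.2.1 _ b.2.1 (congrArg Subtype.val e))
  have hIK : Nat.card I = (C.subgroupOf K).index := by
    let f : K → I := fun k => ⟨(k : G) * (τ * (k : G)⁻¹ * τ⁻¹), mul_mem k.2 (hn _ (inv_mem k.2)), by
      rw [show τ * ((k : G) * (τ * (k : G)⁻¹ * τ⁻¹)) * τ⁻¹
        = (τ * k * τ⁻¹) * (τ * (τ * (k : G)⁻¹ * τ⁻¹) * τ⁻¹) by group, hτ']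
      group⟩
    have hker : ∀ a b : K, f a = f b ↔ a⁻¹ * b ∈ C.subgroupOf K := fun a b => by
      rw [mem_subgroupOf, hCmem]
      rw [Subtype.ext_iff]
      show (a : G) * (τ * (a : G)⁻¹ * τ⁻¹) = (b : G) * (τ * (b : G)⁻¹ * τ⁻¹) ↔
        (a : G)⁻¹ * (b : G) ∈ K ∧ τ * ((a : G)⁻¹ * (b : G)) * τ⁻¹ = (a : G)⁻¹ * (b : G)
      refine ⟨fun e => ⟨mul_mem (inv_mem a.2) b.2, ?_⟩, fun e => ?_⟩
      · calc τ * ((a : G)⁻¹ * b) * τ⁻¹
            = (a : G)⁻¹ * ((a : G) * (τ * (a : G)⁻¹ * τ⁻¹)) * (τ * b * τ⁻¹) := by group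
          _ = _ := by rw [e]; group
      · calc (a : G) * (τ * (a : G)⁻¹ * τ⁻¹)
            = (a : G) * (τ * ((a : G)⁻¹ * b) * τ⁻¹) * (τ * (b : G)⁻¹ * τ⁻¹) := by group
          _ = _ := by rw [e.2]; group
    rw [Subgroup.index]
    refine (Nat.card_congr (Equiv.ofBijective (Quotient.lift f fun a b hab => ?_) ⟨?_, ?_⟩)).symm
    · exact (hker a b).2 (QuotientGroup.leftRel_apply.1 hab)
    · intro p q
      induction p using Quotient.inductionOn with | _ a => ?_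
      induction q using Quotient.inductionOn with | _ b => ?_
      exact fun e => Quotient.sound (QuotientGroup.leftRel_apply.2 ((hker a b).1 e))
    · rintro ⟨k, hk, hk'⟩
      refine ⟨Quotient.mk _ ⟨(x * k * x⁻¹)⁻¹, inv_mem (h.norm k hk)⟩, Subtype.ext ?_⟩
      show (x * k * x⁻¹)⁻¹ * (τ * (x * k * x⁻¹)⁻¹⁻¹ * τ⁻¹) = k
      have hp := h.prod k hk
      rw [inv_inv, hswap, hk', show x⁻¹ * k⁻¹ * x = (x⁻¹ * k * x)⁻¹ by group, ← mul_inv_rev,
        ← (h.comm' hk).2.eq]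
      rw [mul_assoc, mul_eq_one_iff_eq_inv] at hp
      exact hp.symm
  have hle : C ≤ K := inf_le_left
  have h1 := (C.subgroupOf K).index_mul_card
  rw [← hIK, Nat.card_congr (subgroupOfEquivOfLe hle).toEquiv, le_antisymm hIC hCI] at h1
  rw [sq, h1]

/-- No abelian subgroup of order prime to three is normalised by a fixed-point-free nine-group. -/
theorem eq_bot_of_four_lines [Finite G] {S : Subgroup G} (hS : IsMulCommutative S)
    (h3 : ¬ 3 ∣ Nat.card S) {e h : G} (he : e ^ 3 = 1) (hh : h ^ 3 = 1) (hc : e * h = h * e)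
    (hne : ∀ y ∈ S, e * y * e⁻¹ ∈ S) (hnh : ∀ y ∈ S, h * y * h⁻¹ ∈ S)
    (hfix : ∀ m ∈ [e, h, e * h, e * h⁻¹], ∀ y ∈ S, m * y = y * m → y = 1) : S = ⊥ := by
  rw [eq_bot_iff]
  intro y hy
  rw [mem_bot]
  let E : S →* S := MonoidHom.mk' (fun w => ⟨e * w * e⁻¹, hne _ w.2⟩) fun a b => Subtype.ext (by simp)
  let H : S →* S := MonoidHom.mk' (fun w => ⟨h * w * h⁻¹, hnh _ w.2⟩) fun a b => Subtype.ext (by simp)
  letI : CommGroup S := { (inferInstance : Group S) with mul_comm := hS.is_comm.comm }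
  have E3 : ∀ w, E (E (E w)) = w := fun w => Subtype.ext (by
    show e * (e * (e * (w : G) * e⁻¹) * e⁻¹) * e⁻¹ = w
    calc _ = e ^ 3 * w * (e ^ 3)⁻¹ := by rw [pow_succ, sq]; group
      _ = w := by rw [he]; group)
  have H3 : ∀ w, H (H (H w)) = w := fun w => Subtype.ext (by
    show h * (h * (h * (w : G) * h⁻¹) * h⁻¹) * h⁻¹ = w
    calc _ = h ^ 3 * w * (h ^ 3)⁻¹ := by rw [pow_succ, sq]; group
      _ = w := by rw [hh]; group)
  have EH : ∀ w, E (H w) = H (E w) := fun w => Subtype.ext (by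
    show e * (h * (w : G) * h⁻¹) * e⁻¹ = h * (e * (w : G) * e⁻¹) * h⁻¹
    calc _ = (e * h) * w * (e * h)⁻¹ := by group
      _ = (h * e) * w * (h * e)⁻¹ := by rw [hc]
      _ = _ := by group)
  have key : ∀ (m : G) (F : S →* S), m ∈ [e, h, e * h, e * h⁻¹] →
      (∀ w : S, (F w : G) = m * w * m⁻¹) → (∀ w, F (F (F w)) = w) → ∀ w, w * F w * F (F w) = 1 := by
    intro m F hm hF hF3 w
    refine Subtype.ext (hfix m hm _ (SetLike.coe_mem _) ?_)
    have : F (w * F w * F (F w)) = w * F w * F (F w) := by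
      rw [map_mul, map_mul, hF3]; ac_rfl
    have e' := congrArg Subtype.val this
    rw [hF, mul_inv_eq_iff_eq_mul] at e'
    exact e'
  set v : S := ⟨y, hy⟩
  have k1 := key e E (by simp) (fun _ => rfl) E3
  have k2 := key h H (by simp) (fun _ => rfl) H3
  have k3 := key (e * h) (E.comp H) (by simp)
    (fun w => by show e * (h * (w : G) * h⁻¹) * e⁻¹ = _; group)
    (fun w => by simp only [MonoidHom.comp_apply, ← EH]; rw [E3, H3])
  have k4 := key (e * h⁻¹) (E.comp (H.comp H)) (by simp)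
    (fun w => by
      show e * (h * (h * (w : G) * h⁻¹) * h⁻¹) * e⁻¹ = _
      have : h * h = h⁻¹ := (inv_eq_of_mul_eq_one_right (by rw [← hh, pow_succ, sq, mul_assoc])).symm
      calc _ = e * ((h * h) * w * (h * h)⁻¹) * e⁻¹ := by group
        _ = _ := by rw [this]; group)
    (fun w => by simp only [MonoidHom.comp_apply, ← EH]; rw [E3, H3, H3])
  simp only [MonoidHom.comp_apply, ← EH] at k3 k4
  simp only [H3] at k4
  have h1 := k1 (H v)
  have h2 := k1 (H (H v))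
  have ha := k1 v
  have hb := k2 v
  have hc' := k3 v
  have hd := k4 v
  have hv3 : v ^ 3 = 1 := by
    have e1 : v * v * v *
        ((H v * E (H v) * E (E (H v))) * (H (H v) * E (H (H v)) * E (E (H (H v))))) =
        (v * H v * H (H v)) * (v * E (H v) * E (E (H (H v)))) * (v * E (H (H v)) * E (E (H v))) := by
      ac_rfl
    rw [h1, h2, hb, hc', hd, mul_one, mul_one, mul_one] at e1
    rw [pow_succ, sq]; exact e1
  exact eq_one_of_cube h3 hy (congrArg Subtype.val hv3)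

end Cfsg.Agent.M11ThreeLocal
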