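import Cfsg.Agent.M11ThreeLocal.Tools

/-!
# The centre of a large radical
-/

set_option autoImplicit false
set_option linter.unusedSectionVars false
set_option synthInstance.maxSize 1000

namespace Cfsg.Agent.M11ThreeLocal

open Subgroup

theorem s3_prod_three : ∀ d p : Equiv.Perm (Fin 3), d ^ 3 = 1 → d ≠ 1 → p * p = 1 → p ≠ 1 →
    (p * (d * p * d⁻¹)) ^ 3 = 1 ∧ p * (d * p * d⁻¹) ≠ 1 := by decide +kernel

variable {G : Type*} [Group G] [Finite G]

/-- An element of order three is not in the kernel of the map onto the symmetric group. -/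
theorem TI.map_cube_ne {v : G} {R O : Subgroup G} (h : TI v R O)
    {φ : centralizer ({v} : Set G) →* Equiv.Perm (Fin 3)}
    (hk : ∀ x, φ x = 1 ↔ ∃ r ∈ R, ∃ w ∈ O, (x : G) = r * w) {x : centralizer ({v} : Set G)}
    (h3 : (x : G) ^ 3 = 1) (h1 : (x : G) ≠ 1) : φ x ≠ 1 := fun h0 => by
  obtain ⟨r, hr, w, hw, he⟩ := (hk x).1 h0
  rw [he, (h.comm r hr w hw).mul_pow, ← mul_one (1 : G)] at h3
  obtain ⟨h4, h5⟩ := h.unique (pow_mem hr 3) (one_mem R) (pow_mem hw 3) (one_mem O) h3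
  rw [eq_one_of_cube h.O3 hw h5, (Two.of_isPGroup h.core.two hr).eq_one_of_odd (n := 3) (by norm_num) h4,
    one_mul] at he
  exact h1 he

/-- An outer involution inverts an element of order three. -/
theorem TI.exists_inverted {v : G} {R O : Subgroup G} (h : TI v R O) {g x : G} (hg : Commute v g)
    (hg3 : g ^ 3 = 1) (hg1 : g ≠ 1) (hx : Commute v x) (hxx : x * x = 1) (hxR : x ∉ R) :
    ∃ d, d ^ 3 = 1 ∧ d ≠ 1 ∧ Commute v d ∧ cj x d = d⁻¹ := by
  obtain ⟨φ, -, hk⟩ := h.hom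
  have hX1 : φ ⟨x, mem_L.2 hx⟩ ≠ 1 := fun h0 => by
    obtain ⟨r, hr, w, hw, he⟩ := (hk _).1 h0
    have he' : x = r * w := he
    exact hxR (by rw [he', h.memR hr hw (he' ▸ Two.of_sq hxx), mul_one]; exact hr)
  have hd0 : Commute v (x * cj g x) :=
    hx.mul_right ((hg.mul_right hx).mul_right hg.inv_right)
  obtain ⟨h3, hne⟩ := s3_prod_three (φ ⟨g, mem_L.2 hg⟩) (φ ⟨x, mem_L.2 hx⟩)
    (by rw [← map_pow, show (⟨g, mem_L.2 hg⟩ : centralizer ({v} : Set G)) ^ 3 = 1 from Subtype.ext hg3, map_one])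
    (h.map_cube_ne hk hg3 hg1)
    (by rw [← map_mul, show (⟨x, mem_L.2 hx⟩ : centralizer ({v} : Set G)) * ⟨x, mem_L.2 hx⟩ = 1 from
      Subtype.ext hxx, map_one]) hX1
  obtain ⟨D, hD⟩ : ∃ D : centralizer ({v} : Set G),
      D = ⟨x, mem_L.2 hx⟩ * (⟨g, mem_L.2 hg⟩ * ⟨x, mem_L.2 hx⟩ * ⟨g, mem_L.2 hg⟩⁻¹) := ⟨_, rfl⟩
  have hDG : (D : G) = x * cj g x := by rw [hD]; rfl
  have ho : orderOf (φ D) = 3 := by
    haveI : Fact (Nat.Prime 3) := ⟨Nat.prime_three⟩
    rw [hD, map_mul, map_mul, map_mul, map_inv]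
    exact orderOf_eq_prime h3 hne
  obtain ⟨m, hm⟩ : 3 ∣ orderOf (x * cj g x) := by
    rw [← hDG, Subgroup.orderOf_coe, ← ho]
    exact orderOf_map_dvd φ D
  refine ⟨(x * cj g x) ^ m, ?_, ?_, hd0.pow_right m, ?_⟩
  · rw [← pow_mul, mul_comm, ← hm, pow_orderOf_eq_one]
  · intro h0
    have hpos := orderOf_pos (x * cj g x)
    have h5 := Nat.le_of_dvd (by omega) (orderOf_dvd_of_pow_eq_one h0)
    omega
  · have hqx : cj g x * cj g x = 1 := by rw [← cj_mul, hxx, cj_one]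
    rw [← cj_pow, ← inv_pow]
    congr 1
    rw [mul_inv_rev, inv_of_sq hqx, inv_of_sq hxx, cj, inv_of_sq hxx, ← mul_assoc, hxx, one_mul]

variable {M : Subgroup G} {e h s t z a : G} {R O : Subgroup G}

namespace Cfg

variable (H : Cfg M e h s t z a)

include H

/-- Elements fixed by `t` lie in `D` up to the centre. -/
theorem Dt_cases (hT : TI s R O) {x : G} (hx : x ∈ Dt t R) : x ∈ Dg a R ∨ s * x ∈ Dg a R := by
  obtain ⟨hxR, htx⟩ := mem_Dt.1 hx
  have hT' : TI t (R.map (MulAut.conj (a ^ 2)).toMonoidHom) (O.map (MulAut.conj (a ^ 2)).toMonoidHom) := by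
    have h1 := hT.map (a ^ 2)
    rwa [H.a2_s] at h1
  by_cases h1 : x ∈ R.map (MulAut.conj (a ^ 2)).toMonoidHom
  · exact Or.inl ⟨hxR, h1⟩
  · refine Or.inr ⟨mul_mem hT.core.mem hxR, ?_⟩
    exact hT'.mul2 H.ts_comm htx (Two.of_sq H.s_sq) (Two.of_isPGroup hT.core.two hxR) (H.s_notMemT hT.rad) h1
      (Two.of_isPGroup hT.core.two (mul_mem hT.core.mem hxR))

theorem cj_e_inv (x : G) : cj e⁻¹ x = cj e (cj e x) := by
  rw [cj_cj]
  congr 1
  exact (eq_inv_of_mul_eq_one_left (by rw [← pow_three']; exact H.e3)).symm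

theorem cj_t_cj_e (x : G) : cj t (cj e x) = cj e⁻¹ (cj t x) := by
  rw [cj_cj, cj_cj]
  congr 1
  rw [← H.te, cj, inv_mul_cancel_right]

/-- A central element outside `⟨s⟩` gives a central plane. -/
theorem central_plane (hR : Rad s R) {x : G} (hx : x ∈ R) (hc : ∀ r ∈ R, Commute x r) (h1 : x ≠ 1)
    (hs : x ≠ s) : ∃ p, p ∈ R ∧ (∀ r ∈ R, Commute p r) ∧ p ≠ s ∧ Plane s t e p := by
  -- the central subgroup
  let Z : Subgroup G := R ⊓ centralizer (R : Set G)
  have hZ : ∀ {y : G}, y ∈ Z ↔ y ∈ R ∧ ∀ r ∈ R, Commute y r := fun {y} => by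
    rw [mem_inf, mem_centralizer_iff]
    exact and_congr_right fun _ => ⟨fun h r hr => (h r hr).symm, fun h r hr => (h r hr).symm⟩
  have hZn : ∀ g, Commute s g → ∀ y ∈ Z, cj g y ∈ Z := fun g hg y hy => by
    obtain ⟨hyR, hyc⟩ := hZ.1 hy
    refine hZ.2 ⟨hR.core.norm g hg y hyR, fun r hr => ?_⟩
    have h2 := cj_commute g (hyc _ (hR.core.norm g⁻¹ hg.inv_right r hr))
    rwa [cj_cj_inv] at h2
  have hZc : ∀ y ∈ Z, ∀ y' ∈ Z, Commute y y' := fun y hy y' hy' => (hZ.1 hy).2 y' (hZ.1 hy').1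
  have hsZ : s ∈ Z := hZ.2 ⟨hR.core.mem, hR.core.le⟩
  have hnot : ∀ y ∈ Z, y ∉ zpowers s → ∀ σ, (σ = 1 ∨ σ = s) → cj e y ≠ y * σ := by
    intro y hy hyn σ hσ h0
    refine hyn ((mem_zpowers_invol H.s_sq).2 (H.fixR hR.core H.e3 H.e_ne H.se (hZ.1 hy).1 ?_))
    rcases hσ with e' | e' <;> rw [e'] at h0
    exacts [Or.inl (h0.trans (mul_one y)), Or.inr h0]
  -- an element whose square is central
  obtain ⟨y, hyZ, hyn, hyy⟩ : ∃ y ∈ Z, y ∉ zpowers s ∧ y * y ∈ zpowers s := by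
    by_contra hcon
    push Not at hcon
    have hall : ∀ n, x ^ 2 ^ n ∉ zpowers s ∧ x ^ 2 ^ n ∈ Z := fun n => by
      induction n with
      | zero =>
        rw [pow_zero, pow_one, mem_zpowers_invol H.s_sq]
        exact ⟨fun h0 => h0.elim h1 hs, hZ.2 ⟨hx, hc⟩⟩
      | succ n ih =>
        rw [pow_succ, pow_mul, sq]
        exact ⟨hcon _ ih.2 ih.1, mul_mem ih.2 ih.2⟩
    obtain ⟨n, hn⟩ := Two.of_isPGroup hR.core.two hx
    exact (hall n).1 (hn ▸ one_mem _)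
  -- an involution
  obtain ⟨w, hwZ, hwn, hww⟩ : ∃ w ∈ Z, w ∉ zpowers s ∧ w * w = 1 := by
    rcases (mem_zpowers_invol H.s_sq).1 hyy with h2 | h2
    · exact ⟨y, hyZ, hyn, h2⟩
    have hey := hZn e H.se y hyZ
    refine ⟨y * cj e y, mul_mem hyZ hey, fun h0 => ?_, ?_⟩
    · have hyi : y⁻¹ = y * s := inv_eq_of_mul_eq_one_right (by rw [← mul_assoc, h2, H.s_sq])
      rcases (mem_zpowers_invol H.s_sq).1 h0 with e' | e'
      · exact hnot y hyZ hyn s (Or.inr rfl) ((eq_inv_of_mul_eq_one_right e').trans hyi)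
      · refine hnot y hyZ hyn 1 (Or.inl rfl) ?_
        rw [mul_one, eq_inv_mul_iff_mul_eq.2 e', hyi, mul_assoc, H.s_sq, mul_one]
    · rw [(hZc y hyZ _ hey).symm.mul_mul_mul_comm, ← cj_mul, h2, cj_of_commute H.se.symm, H.s_sq]
  -- a fixed involution
  obtain ⟨u, huZ, hun, huu, htu⟩ : ∃ u ∈ Z, u ∉ zpowers s ∧ u * u = 1 ∧ cj t u = u := by
    have mk : ∀ w ∈ Z, w * w = 1 →
        w * cj t w ∈ Z ∧ w * cj t w * (w * cj t w) = 1 ∧ cj t (w * cj t w) = w * cj t w := by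
      intro w hw hww
      have htw := hZn t H.ts_comm.symm w hw
      refine ⟨mul_mem hw htw, ?_, ?_⟩
      · rw [(hZc w hw _ htw).symm.mul_mul_mul_comm, ← cj_mul, hww, cj_one, mul_one]
      · rw [cj_mul, cj_cj t t, H.tt, cj_one', (hZc w hw _ htw).eq]
    obtain ⟨m1, m2, m3⟩ := mk w hwZ hww
    by_cases h2 : w * cj t w ∈ zpowers s
    · rcases (mem_zpowers_invol H.s_sq).1 h2 with e' | e'
      · exact ⟨w, hwZ, hwn, hww, by rw [eq_inv_of_mul_eq_one_right e', inv_of_sq hww]⟩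
      · exfalso
        have hew := hZn e H.se w hwZ
        have htw : cj t w = w * s := by rw [eq_inv_mul_iff_mul_eq.2 e', inv_of_sq hww]
        obtain ⟨m4, m5, m6⟩ := mk _ hew (by rw [← cj_mul, hww, cj_one])
        have hee : cj t (cj e w) = cj e⁻¹ w * s := by
          rw [H.cj_t_cj_e, htw, cj_mul, cj_of_commute H.se.symm.inv_left]
        obtain ⟨σ, hσ, hprod⟩ : ∃ σ, (σ = 1 ∨ σ = s) ∧ w * cj e w * cj e (cj e w) = σ :=
          ⟨_, (mem_zpowers_invol H.s_sq).1 ((H.bundle hR.core H.e3 H.e_ne H.se).1 w (hZ.1 hwZ).1).1, rfl⟩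
        have h3 : cj e w * cj t (cj e w) = w * (σ * s) := by
          rw [hee, H.cj_e_inv, ← hprod]
          simp only [← mul_assoc]
          rw [hww, one_mul]
        rw [h3, cj_mul, htw] at m6
        have hσt : cj t (σ * s) = σ * s := by rw [cj_mul, (H.sig hσ).2.2.1, cj_of_commute H.ts_comm]
        rw [hσt] at m6
        exact H.s_ne (mul_eq_left.1 (mul_right_cancel m6))
    · exact ⟨_, m1, h2, m2, m3⟩
  obtain ⟨huR, huc⟩ := hZ.1 huZ
  rw [mem_zpowers_invol H.s_sq, not_or] at hun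
  rcases H.plane_cases hR huR huu hun.1 hun.2 (commute_of_cj htu) with hp | hp
  · exact ⟨u, huR, huc, hun.2, hp⟩
  · exact ⟨s * u, mul_mem hR.core.mem huR, fun r hr => (hR.core.le r hr).mul_left (huc r hr),
      fun h0 => hun.1 (mul_eq_left.1 h0), hp⟩

/-- The centre of a large radical has order two. -/
theorem center_R (hT : TI s R O) (h32 : 32 ≤ Nat.card R) {x : G} (hx : x ∈ R) (hc : ∀ r ∈ R, Commute x r) :
    x = 1 ∨ x = s := by
  classical
  by_contra hcon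
  rw [not_or] at hcon
  have hR := hT.rad
  obtain ⟨p, hpR, hpc, hps, hp⟩ := H.central_plane hR hx hc hcon.1 hcon.2
  -- the involution of `D` in the centre
  have hpD : p ∈ Dt t R := mem_Dt.2 ⟨hpR, hp.ct⟩
  obtain ⟨q, hqp, hqD⟩ : ∃ q, (q = p ∨ q = s * p) ∧ q ∈ Dg a R :=
    (H.Dt_cases hT hpD).elim (fun h1 => ⟨p, Or.inl rfl, h1⟩) fun h1 => ⟨s * p, Or.inr rfl, h1⟩
  have hqR : q ∈ R := hqD.1
  have hqc : ∀ r ∈ R, Commute q r := fun r hr => by
    rcases hqp with e' | e' <;> rw [e']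
    exacts [hpc r hr, (hR.core.le r hr).mul_left (hpc r hr)]
  have hqq : q * q = 1 := by
    rcases hqp with e' | e' <;> rw [e']
    exacts [hp.sq, by rw [hp.cs.symm.mul_mul_mul_comm, H.s_sq, hp.sq, one_mul]]
  have hq1 : q ≠ 1 := fun h0 => by
    rcases hqp with e' | e' <;> rw [e'] at h0
    exacts [hp.ne h0, hps (by rw [eq_inv_of_mul_eq_one_right h0, inv_of_sq H.s_sq])]
  have hfix : cj (a ^ 2) q = q := by
    obtain ⟨hg, -⟩ := H.D_a2 hR hqD
    refine H.mixed hR hqD hqq (hqc _ hg.1) ?_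
    have hcc : Commute (cj (a ^ 2) q) (cj e q) := by
      have h1 := cj_commute e (hqc _ (hR.core.norm e⁻¹ H.se.inv_right _ hg.1))
      rw [cj_cj_inv] at h1
      exact h1.symm
    rw [hcc.eq, mul_inv_cancel]
    exact one_mem _
  have hiv := H.fixed_iv hR hqD hqq hq1 hfix
  obtain rfl : p = s * q := by
    rcases hqp with e' | e'
    · exfalso
      obtain ⟨hsq, -, -⟩ := H.iv_comm hiv
      have h1 := hiv.1.prod
      rw [e'] at hsq h1
      rw [cj_mul, cj_mul, cj_of_commute H.se.symm, cj_of_commute H.se.symm] at h1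
      have c1 : Commute s (p * cj e p) := hsq.mul_right (hR.core.le _ (hR.core.norm e H.se p hpR))
      rw [hsq.symm.mul_mul_mul_comm, H.s_sq, one_mul, ← mul_assoc, ← c1.eq, mul_assoc, hp.prod,
        mul_one] at h1
      exact H.s_ne h1
    · rw [e', ← mul_assoc, H.s_sq, one_mul]
  have hsq := hR.core.le q hqR
  have hsfq : IsConj s q := H.conj_s_f hR hiv fun y hy => hqc y hy.1
  obtain ⟨c, hc'⟩ := isConj_iff.1 hsfq
  have hTq0 := hT.map c
  rw [show cj c s = q from hc'] at hTq0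
  obtain ⟨Rq, hRq⟩ : ∃ Rq, Rq = R.map (MulAut.conj c).toMonoidHom := ⟨_, rfl⟩
  rw [← hRq] at hTq0
  have hcard : Nat.card Rq = Nat.card R := hRq ▸ card_map_of_injective (MulAut.conj c).injective
  have hge : Commute q (cj c e) := hc' ▸ cj_commute c H.se
  have hge3 : cj c e ^ 3 = 1 := by rw [cj_pow, H.e3, cj_one]
  have hge1 : cj c e ≠ 1 := fun h0 => H.e_ne (cj_eq_one.1 h0)
  obtain ⟨hsRq, htRq⟩ := H.st_mem hiv hTq0.rad
  -- the element moved by `t`
  obtain ⟨y, hy⟩ : ∃ y, y = cj e (s * q) := ⟨_, rfl⟩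
  have hyR : y ∈ R := hy ▸ hR.core.norm e H.se _ (mul_mem hR.core.mem hqR)
  have hyc : ∀ r ∈ R, Commute y r := fun r hr => by
    have h1 := cj_commute e (hpc _ (hR.core.norm e⁻¹ H.se.inv_right r hr))
    rwa [cj_cj_inv, ← hy] at h1
  have hyy : y * y = 1 := by rw [hy, ← cj_mul, hp.sq, cj_one]
  have hqy : Commute q y := hqc y hyR
  have hty : cj t y = s * q * y := by
    rw [hy, H.cj_t_cj_e, cj_of_commute hp.ct, H.cj_e_inv, hp.third]
  by_cases hyq : y ∈ Rq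
  swap
  · -- the outer case
    obtain ⟨d, hd3, hd1, hqd, hxd⟩ := hTq0.exists_inverted hge hge3 hge1 hqy hyy hyq
    have hW := (H.bundle hTq0.core hd3 hd1 hqd).2 y hyy hqy hxd
    have h1 := hTq0.card_two_sub hR.core.two fun r hr => hqc r hr
    have h2 : (R ⊓ Rq : Subgroup G) ≤ Wfix q Rq y := fun r hr =>
      (hTq0.core.mem_W hqy).2 ⟨hr.2, Or.inl (cj_of_commute (hyc r hr.1))⟩
    have h3 := card_le_of_le h2
    rw [hcard] at hW
    have h4 : Nat.card (Wfix q Rq y) ≤ 4 := by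
      by_contra h5
      have := Nat.mul_le_mul_right (Nat.card (Wfix q Rq y)) (show 5 ≤ Nat.card (Wfix q Rq y) by omega)
      rw [sq] at hW
      omega
    omega
  -- the inner case
  have hTc : ∀ w ∈ H.Rt hR, Commute q w := by
    intro w hw
    rcases hw with h1 | h1
    · exact hqc w h1
    · have h2 : Commute q (t * (t * w)) := (H.iv_comm hiv).2.1.symm.mul_right (hqc _ h1)
      rwa [← mul_assoc, H.tt, one_mul] at h2
  have hRqT : Rq ≤ H.Rt hR := by
    obtain ⟨P, hP⟩ : ∃ P, P = Rq ⊔ H.Rt hR := ⟨_, rfl⟩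
    have hnorm : H.Rt hR ≤ normalizer (Rq : Set G) := fun w hw => by
      rw [mem_normalizer_iff]
      refine fun n => ⟨fun hn => hTq0.core.norm w (hTc w hw) n hn, fun hn => ?_⟩
      have h1 := hTq0.core.norm w⁻¹ (hTc w hw).inv_right _ hn
      rwa [show cj w⁻¹ (w * n * w⁻¹) = n from cj_inv_cj w n] at h1
    have hP2 : IsPGroup 2 P := hP ▸ IsPGroup.to_sup_of_normal_left' hTq0.core.two (H.Rt_two hR) hnorm
    have hPc : ∀ w ∈ P, Commute q w := fun w hw => by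
      have h1 : P ≤ centralizer ({q} : Set G) :=
        hP ▸ sup_le (fun w hw => mem_L.2 (hTq0.core.le w hw)) (fun w hw => mem_L.2 (hTc w hw))
      exact mem_L.1 (h1 hw)
    have hcb := hTq0.card_two_le hP2 hPc
    rw [hcard, ← H.card_Rt hR] at hcb
    rw [eq_of_le_of_card_ge (hP ▸ le_sup_right : H.Rt hR ≤ P) hcb, hP]
    exact le_sup_left
  obtain ⟨u, hu⟩ : ∃ u, u = s * q := ⟨_, rfl⟩
  have hcases : ∀ w ∈ Rq, (w ∈ R ∧ cj w y = y) ∨ (w ∉ R ∧ cj w y = u * y) := fun w hw => by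
    rcases hRqT hw with h1 | h1
    · exact Or.inl ⟨h1, cj_of_commute (hyc w h1).symm⟩
    · right
      refine ⟨fun h0 => H.t_notMem hR ((mul_mem_cancel_right h0).1 h1), ?_⟩
      have h2 : cj w y = cj t (cj (t * w) y) := by rw [cj_cj, ← mul_assoc, H.tt, one_mul]
      rw [h2, cj_of_commute (hyc _ h1).symm, hty, hu]
  obtain ⟨d, hd, hd3, hd1⟩ : ∃ d, d = cj c e ∧ d ^ 3 = 1 ∧ d ≠ 1 := ⟨_, rfl, hge3, hge1⟩
  have hqd : Commute q d := hd ▸ hge
  have hdn : ∀ w ∈ Rq, cj d w ∈ Rq := fun w hw => hTq0.core.norm d hqd w hw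
  -- some element of `R ∩ Rq` leaves `R`
  obtain ⟨w, hwR, hwq, hwd⟩ : ∃ w, w ∈ R ∧ w ∈ Rq ∧ cj d w ∉ R := by
    by_contra hall
    push Not at hall
    have h1 : ∀ w ∈ Rq, w ∉ R → cj d w ∉ R := fun w hw hwR h0 => by
      have h2 := hall _ (hall _ h0 (hdn w hw)) (hdn _ (hdn w hw))
      rw [cj_e_cube hd3] at h2
      exact hwR h2
    have h2 := h1 t htRq (H.t_notMem hR)
    have h3 := h1 _ (hdn t htRq) h2
    have hprod : t * cj d t * cj d (cj d t) ∈ R := by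
      rcases (mem_zpowers_invol hqq).1 ((H.bundle hTq0.core hd3 hd1 hqd).1 t htRq).1 with e' | e' <;> rw [e']
      exacts [one_mem R, hqR]
    have h4 : t * cj d t ∈ R := by
      rcases hcases (t * cj d t) (mul_mem htRq (hdn t htRq)) with h5 | h5
      · exact h5.1
      exfalso
      rcases hRqT (mul_mem htRq (hdn t htRq)) with h6 | h6
      · exact h5.1 h6
      · rw [← mul_assoc, H.tt, one_mul] at h6; exact h2 h6
    exact h3 ((mul_mem_cancel_left h4).1 hprod)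
  have hyd : cj d y ∈ Rq := hdn y hyq
  obtain ⟨σ, hσ, hσp⟩ : ∃ σ, (σ = 1 ∨ σ = q) ∧ y * cj d y * cj d (cj d y) = σ :=
    ⟨_, (mem_zpowers_invol hqq).1 ((H.bundle hTq0.core hd3 hd1 hqd).1 y hyq).1, rfl⟩
  have hy2 : cj d (cj d y) = (cj d y)⁻¹ * y⁻¹ * σ := by rw [← hσp]; group
  have huc : ∀ w ∈ Rq, Commute u w := fun w hw => by
    rw [hu]
    rcases hRqT hw with h1 | h1
    · exact hpc w h1
    · have h3 : Commute (s * q) (t * (t * w)) := hp.ct.symm.mul_right (hpc _ h1)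
      rwa [← mul_assoc t t, H.tt, one_mul] at h3
  have huu : u * u = 1 := hu ▸ hp.sq
  have hw' := hdn w hwq
  have e1 : cj (cj d w) y = u * y := ((hcases _ hw').resolve_left fun h0 => hwd h0.1).2
  have e2 : cj (cj d w) (cj d y) = cj d y := by
    rw [show cj (cj d w) (cj d y) = cj d (cj w y) by simp only [cj]; group, cj_of_commute (hyc w hwR).symm]
  have e3 : cj (cj d w) σ = σ := by
    rcases hσ with e' | e' <;> rw [e']
    exacts [cj_one _, cj_of_commute (hTq0.core.le _ hw').symm]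
  have hσu : Commute u σ := by
    rcases hσ with e' | e' <;> rw [e']
    exacts [Commute.one_right u, huc q hTq0.core.mem]
  have e4 : cj (cj d w) (cj d (cj d y)) = cj d (cj d y) * u := by
    rw [hy2, cj_mul, cj_mul, cj_inv, cj_inv, e1, e2, e3, mul_inv_rev, inv_of_sq huu,
      mul_assoc _ σ, ← hσu.eq]
    simp only [mul_assoc]
  have e5 : cj (cj d w) (cj d (cj d y)) = cj d (cj w (cj d y)) := by simp only [cj]; group
  have hd' := hdn _ hw'
  have e6 : cj w (cj d y) = cj d y ∨ cj w (cj d y) = cj d u * cj d y := by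
    have h1 : cj w (cj d y) = cj d (cj (cj d (cj d w)) y) := by
      nth_rewrite 1 [← cj_e_cube hd3 w]
      simp only [cj]; group
    rcases hcases _ hd' with h2 | h2 <;> rw [h1, h2.2]
    · exact Or.inl rfl
    · exact Or.inr (cj_mul d u y)
  rcases e6 with h1 | h1
  · rw [h1] at e5
    refine hp.ne ?_
    rw [← hu, ← mul_eq_left.1 (e4.symm.trans e5)]
  · have huR : u ∈ Rq := hu ▸ mul_mem hsRq hTq0.core.mem
    rw [h1, cj_mul, e4, ← (huc _ (hdn _ hyd)).eq] at e5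
    have h2 : cj d (cj d u) = u := (mul_right_cancel e5).symm
    have h3 : cj d u = u := by
      have h4 := cj_e_cube hd3 u
      rwa [h2] at h4
    rcases H.fixR hTq0.core hd3 hd1 hqd huR (Or.inl h3) with e' | e'
    · exact hp.ne (hu ▸ e')
    · exact H.s_ne (mul_eq_right.1 (hu ▸ e'))

end Cfg

end Cfsg.Agent.M11ThreeLocal
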