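import Cfsg.Agent.M11ThreeLocal.LargeTwo

/-!
# A radical of order 32 does not occur
-/

set_option autoImplicit false
set_option linter.unusedSectionVars false
set_option synthInstance.maxSize 2000

namespace Cfsg.Agent.M11ThreeLocal

open Subgroup

theorem Md.e_cand : ∀ i j : Fin 3, Md.e ^ (i : ℕ) * Md.h ^ (j : ℕ) = 1 ∨
    ¬ (Md.a2 * Md.t * (Md.e ^ (i : ℕ) * Md.h ^ (j : ℕ)) = Md.e ^ (i : ℕ) * Md.h ^ (j : ℕ) * (Md.a2 * Md.t)) ∨
      (i = 1 ∧ j = 2) ∨ (i = 2 ∧ j = 1) := by decide +kernel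

/-- The image of `e` under the outer element, first choice. -/
def Md.e1 : S6 := Md.e * (Md.h * Md.h)
/-- The image of `e` under the outer element, second choice. -/
def Md.e2 : S6 := Md.e * Md.e * Md.h

theorem Md.five_one :
    let h1 := Md.a2 * Md.e1 * Md.a2⁻¹
    let ρ := h1 * Md.f * Md.e1 * Md.f * h1
    ρ ^ 5 = 1 ∧ ρ ≠ 1 ∧ Md.u * Md.s * ρ * (Md.u * Md.s)⁻¹ = Md.h * Md.u * Md.e * Md.u * Md.h := by
  decide +kernel

theorem Md.five_two :
    let h1 := Md.a2 * Md.e2 * Md.a2⁻¹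
    let ρ := Md.e2 * Md.f * h1 * h1 * Md.f * Md.e2
    ρ ^ 5 = 1 ∧ ρ ≠ 1 ∧ Md.u * Md.s * ρ * (Md.u * Md.s)⁻¹ = Md.e * Md.u * Md.h * Md.h * Md.u * Md.e := by
  decide +kernel

theorem s3_order : ∀ p : Equiv.Perm (Fin 3), p * p ≠ 1 → p ^ 3 = 1 ∧ p ≠ 1 := by decide +kernel

variable {G : Type*} [Group G] [Finite G] {M : Subgroup G} {e h s t z a : G} {R O : Subgroup G}

namespace Cfg

variable (H : Cfg M e h s t z a)

include H

/-- An involution commuting with `z` and with an element of order five. -/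
theorem exists_five (hR : Rad s R) {f : G} (hf : Iv s t e h f) (hc : ∀ x ∈ Dg a R, Commute f x) :
    ∃ w ρ : G, w * w = 1 ∧ Commute z w ∧ ρ ^ 5 = 1 ∧ ρ ≠ 1 ∧ Commute w ρ ∧ w ≠ 1 := by
  classical
  obtain ⟨φ, hφ⟩ := H.exists_psi hf
  obtain ⟨hsf, htf, hff⟩ := H.iv_comm hf
  have hzf : Commute z f := H.st ▸ hsf.mul_left htf
  have hcju : cj a (z * f) = f := by
    rw [cj_mul, H.cja_f hR hf hc, cj_of_commute H.za.symm, ← mul_assoc, H.zz, one_mul]
  have hcjf : cj a f = z * f := H.cja_f hR hf hc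
  obtain ⟨u, hu⟩ : ∃ u, u = z * f := ⟨_, rfl⟩
  rw [← hu] at hcju hcjf
  have hφu : φ Md.u = u := by rw [← Md.u_eq, map_mul, hφ.z, hφ.f, hu]
  have huu : u * u = 1 := by rw [hu, hzf.symm.mul_mul_mul_comm, H.zz, hff, one_mul]
  have hsu : Commute s u := hu ▸ H.sz.mul_right hsf
  have huf : u * f = z := by rw [hu, mul_assoc, hff, mul_one]
  -- the image of `e`
  obtain ⟨i, j, hij⟩ := H.M_cases (H.cjM H.aN H.eM)
  have hm : φ (Md.e ^ (i : ℕ) * Md.h ^ (j : ℕ)) = cj a e := by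
    rw [map_mul, map_pow, map_pow, hφ.e, hφ.h, ← hij]
  have hcomm : Md.a2 * Md.t * (Md.e ^ (i : ℕ) * Md.h ^ (j : ℕ)) =
      Md.e ^ (i : ℕ) * Md.h ^ (j : ℕ) * (Md.a2 * Md.t) := hφ.inj (by
    rw [map_mul φ (Md.a2 * Md.t), map_mul φ (Md.e ^ _ * Md.h ^ _), hm, map_mul, hφ.a2, hφ.t, ← H.cja_s]
    exact (cj_commute a H.se).eq)
  have hh : ∀ x : S6, φ x = cj a e → φ (Md.a2 * x * Md.a2⁻¹) = cj a h := fun x hx => by
    rw [map_mul, map_mul, map_inv, hφ.a2, hx]
    show cj (a ^ 2) (cj a e) = cj a h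
    rw [H.h_eq, cj_cj, cj_cj, ← pow_succ, ← pow_succ']
  have fin : ∀ X ρ' : S6, ρ' ^ 5 = 1 → ρ' ≠ 1 → Md.u * Md.s * ρ' * (Md.u * Md.s)⁻¹ = X →
      cj a (φ X) = φ ρ' → ∃ w ρ : G, w * w = 1 ∧ Commute z w ∧ ρ ^ 5 = 1 ∧ ρ ≠ 1 ∧ Commute w ρ ∧ w ≠ 1 := by
    intro X ρ' h5 h1 hX hcj
    refine ⟨a * u * s, φ ρ', ?_, ?_, by rw [← map_pow, h5, map_one],
      fun h0 => h1 (hφ.inj (h0.trans (map_one φ).symm)), commute_of_cj ?_, ?_⟩
    · have hc3 : u * a ^ 3 = a ^ 3 * f := by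
        have e1 : cj (a ^ 3) f = u := by
          rw [show a ^ 3 = a * a * a by simp only [pow_succ, pow_zero, one_mul], ← cj_cj, ← cj_cj, hcjf, hcju, hcjf]
        rw [← e1, cj, inv_mul_cancel_right]
      calc a * u * s * (a * u * s) = a * (u * (s * a * s)) * (s * u * s) := by
            simp only [mul_assoc]
            rw [← mul_assoc s s (u * s), H.s_sq, one_mul]
        _ = a * (a ^ 3 * f) * u := by rw [H.sas, hc3, hsu.eq, mul_assoc u s s, H.s_sq, mul_one]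
        _ = z * (f * u) := by rw [H.z_eq]; simp only [pow_succ, pow_zero, one_mul, mul_assoc]
        _ = 1 := by
            rw [show f * u = z by rw [← huf, hu, (hzf.mul_left (Commute.refl f)).eq], H.zz]
    · exact (H.za.mul_right ((hu ▸ (Commute.refl z).mul_right hzf : Commute z u))).mul_right H.sz.symm
    · rw [show a * u * s = a * (u * s) from mul_assoc _ _ _, ← cj_cj]
      refine Eq.trans ?_ hcj
      congr 1
      rw [← hX, ← hφu, ← hφ.s, cj, map_mul, map_mul, map_mul, map_inv, map_mul]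
    · intro h0
      have h2 : a * (u * s) = 1 := by rw [← mul_assoc]; exact h0
      have h3 : a * a = 1 := by
        rw [eq_inv_of_mul_eq_one_left h2, ← mul_inv_rev, hsu.mul_mul_mul_comm, huu, H.s_sq, one_mul, inv_one]
      have h4 := orderOf_dvd_of_pow_eq_one (show a ^ 2 = 1 by rw [sq, h3])
      rw [H.a_ord] at h4
      omega
  have key : ∃ w ρ : G, w * w = 1 ∧ Commute z w ∧ ρ ^ 5 = 1 ∧ ρ ≠ 1 ∧ Commute w ρ ∧ w ≠ 1 := by
    rcases Md.e_cand i j with h0 | h0 | ⟨rfl, rfl⟩ | ⟨rfl, rfl⟩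
    · exact absurd (cj_eq_one.1 (hm ▸ (congrArg φ h0).trans (map_one φ))) H.e_ne
    · exact absurd hcomm h0
    · have he1 : φ Md.e1 = cj a e := by
        rw [← hm]; simp [Md.e1, sq]
      obtain ⟨h5, h1, hX⟩ := Md.five_one
      refine fin _ _ h5 h1 hX ?_
      have hh' := hh _ he1
      simp only [map_mul, map_inv, he1] at hh'
      simp only [map_mul, map_inv, hφ.e, hφ.h, hφu, cj_mul, hcju, he1, hφ.f, hh']
    · have he1 : φ Md.e2 = cj a e := by
        rw [← hm]; simp [Md.e2, sq]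
      obtain ⟨h5, h1, hX⟩ := Md.five_two
      refine fin _ _ h5 h1 hX ?_
      have hh' := hh _ he1
      simp only [map_mul, map_inv, he1] at hh'
      simp only [map_mul, map_inv, hφ.e, hφ.h, hφu, cj_mul, hcju, he1, hφ.f, hh']
  obtain ⟨w, ρ, q1, q2, q3, q4, q5, q6⟩ := key
  exact ⟨w, ρ, q1, q2, q3, q4, q5, q6⟩

/-- The class of `t` under the radical fills the coset of the fixed points modulo the centre. -/
theorem two_class (hT : TI s R O) (h32 : Nat.card R = 32) {r : G} (hr : r ∈ Wfix s R t) :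
    ∃ k ∈ R, cj k t = t * r := by
  classical
  have hR := hT.rad
  obtain ⟨f, -, -, -, -, hall, -, hW8, hDt4, -⟩ := H.two_data hT h32
  let Orb := {X : G // ∃ k ∈ R, cj k t = X}
  have horb : Nat.card Orb = 8 := by
    have h1 : Nat.card Orb * Nat.card (Dt t R) = Nat.card R := card_orbit_mul R t
    rw [hDt4, h32] at h1
    omega
  have hmem : ∀ X : Orb, t * X.1 ∈ Wfix s R t := fun X => by
    obtain ⟨k, hk', he⟩ := X.2
    have hXX : X.1 * X.1 = 1 := by rw [← he, ← cj_mul, H.tt, cj_one]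
    have hinv : cj t (t * X.1) = (t * X.1)⁻¹ := by
      rw [mul_inv_rev, inv_of_sq hXX, inv_of_sq H.tt, cj, inv_of_sq H.tt, ← mul_assoc, H.tt, one_mul]
    have hmemR : t * X.1 ∈ R := by
      rw [← he]
      have h3 : t * cj k t = cj t k * k⁻¹ := by simp only [cj, inv_of_sq H.tt, mul_assoc]
      rw [h3]
      exact mul_mem (hR.core.norm t H.ts_comm.symm k hk') (inv_mem hk')
    refine (hR.core.mem_W H.ts_comm.symm).2 ⟨hmemR, ?_⟩
    rcases H.sec_sq hT (le_of_eq h32.symm) (hall _ hmemR) with q | q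
    · exact Or.inl (hinv.trans (inv_of_sq q))
    · exact Or.inr (hinv.trans (inv_eq_of_mul_eq_one_right (by rw [← mul_assoc, q, H.s_sq])))
  let F : Orb → Wfix s R t := fun X => ⟨t * X.1, hmem X⟩
  have hF : Function.Injective F := fun X Y hXY =>
    Subtype.ext (mul_left_cancel (congrArg Subtype.val hXY))
  obtain ⟨⟨X, k, hk', hkX⟩, hX⟩ := (hF.bijective_of_nat_card_le (by rw [horb, hW8])).2 ⟨r, hr⟩
  refine ⟨k, hk', ?_⟩
  rw [hkX, ← show t * X = r from congrArg Subtype.val hX, ← mul_assoc, H.tt, one_mul]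

/-- Involutions of the centraliser outside the radical are conjugate to `s`. -/
theorem two_outer (hT : TI s R O) (h32 : Nat.card R = 32) (hO : O = ⊥) {x : G} (hx : Commute s x)
    (hxx : x * x = 1) (hxR : x ∉ R) :
    IsConj s x := by
  classical
  have hR := hT.rad
  obtain ⟨f, hf, hS, hfs, hc, hall, hDt, hW8, hDt4, -⟩ := H.two_data hT h32
  obtain ⟨φ, hφs, hk⟩ := hT.hom
  have hker : ∀ y, φ y = 1 → (y : G) ∈ R := fun y hy => by
    obtain ⟨r, hr, w, hw, he⟩ := (hk y).1 hy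
    rw [hO, mem_bot] at hw
    rw [he, hw, mul_one]; exact hr
  obtain ⟨eL, heL⟩ : ∃ y : centralizer ({s} : Set G), (y : G) = e := ⟨⟨e, mem_L.2 H.se⟩, rfl⟩
  obtain ⟨tL, htL⟩ : ∃ y : centralizer ({s} : Set G), (y : G) = t := ⟨⟨t, mem_L.2 H.ts_comm.symm⟩, rfl⟩
  obtain ⟨xL, hxL⟩ : ∃ y : centralizer ({s} : Set G), (y : G) = x := ⟨⟨x, mem_L.2 hx⟩, rfl⟩
  have hE1 : φ eL ≠ 1 := hT.map_cube_ne hk (by rw [heL, H.e3]) (by rw [heL]; exact H.e_ne)
  have hT1 : φ tL ≠ 1 := fun h0 => H.t_notMem hR (htL ▸ hker _ h0)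
  have hX1 : φ xL ≠ 1 := fun h0 => hxR (hxL ▸ hker _ h0)
  have hxx' : xL * xL = 1 := Subtype.ext (by simp [hxL, hxx])
  have htt' : tL * tL = 1 := Subtype.ext (by simp [htL, H.tt])
  have he3' : eL ^ 3 = 1 := Subtype.ext (by simp [heL, H.e3])
  obtain ⟨i, hi⟩ := s3_conj _ _ (φ xL) (by rw [← map_pow, he3', map_one]) hE1
    (by rw [← map_mul, htt', map_one]) hT1 (by rw [← map_mul, hxx', map_one]) hX1
  obtain ⟨y, hy⟩ : ∃ y, y = cj (e ^ (i : ℕ)) x := ⟨_, rfl⟩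
  refine IsConj.trans ?_ (isConj_iff.2 ⟨(e ^ (i : ℕ))⁻¹, show cj (e ^ (i : ℕ))⁻¹ y = x by rw [hy, cj_inv_cj]⟩)
  have hr : t * y ∈ R := by
    have h1 : φ (tL * (eL ^ (i : ℕ) * xL * (eL ^ (i : ℕ))⁻¹)) = 1 := by
      rw [map_mul, map_mul, map_mul, map_inv, map_pow, hi, ← map_mul, htt', map_one]
    have := hker _ h1
    simp only [coe_mul, InvMemClass.coe_inv, SubgroupClass.coe_pow, heL, htL, hxL] at this
    rw [hy]; exact this
  have hyy : y * y = 1 := by rw [hy, ← cj_mul, hxx, cj_one]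
  have hinv : cj t (t * y) = (t * y)⁻¹ := by
    rw [mul_inv_rev, inv_of_sq hyy, inv_of_sq H.tt, cj, inv_of_sq H.tt, ← mul_assoc, H.tt, one_mul]
  have hW : ∀ r ∈ R, cj t r = r⁻¹ → r ∈ Wfix s R t := fun r hr h1 => by
    refine (hR.core.mem_W H.ts_comm.symm).2 ⟨hr, ?_⟩
    rcases H.sec_sq hT (le_of_eq h32.symm) (hall r hr) with e' | e'
    · exact Or.inl (h1.trans (inv_of_sq e'))
    · exact Or.inr (h1.trans (inv_eq_of_mul_eq_one_right (by rw [← mul_assoc, e', H.s_sq])))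
  obtain ⟨k, -, hk'⟩ := H.two_class hT h32 (hW _ hr hinv)
  rw [← mul_assoc, H.tt, one_mul] at hk'
  exact H.conj_s_t.trans (isConj_iff.2 ⟨k, hk'⟩)

/-- The centraliser in `C(s)` of an involution which is not conjugate to `s`. -/
theorem two_cent (hT : TI s R O) (h32 : Nat.card R = 32) (hO : O = ⊥) {v : G} (hv : v ∈ R) (hvv : v * v = 1)
    (hv1 : v ≠ 1) (hvs : ¬ IsConj s v) :
    (∀ x, Commute s x → Commute v x → x ∈ R) ∧
      Nat.card (R ⊓ centralizer ({v} : Set G) : Subgroup G) = 16 ∧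
      ∃ p ∈ R, ∃ p' ∈ R, Commute v p ∧ Commute v p' ∧ cj p p' = p' * s := by
  classical
  have hR := hT.rad
  obtain ⟨f, hf, hS, hfs, hc, hall, hDt, hW8, hDt4, hsz⟩ := H.two_data hT h32
  have hsf' : IsConj s f := H.conj_s_f hR hf hc
  have hvs' : v ≠ s := fun h0 => hvs (h0 ▸ IsConj.refl s)
  obtain ⟨φ, hφs, hk⟩ := hT.hom
  have hker : ∀ y, φ y = 1 → (y : G) ∈ R := fun y hy => by
    obtain ⟨r, hr, w, hw, he⟩ := (hk y).1 hy
    rw [hO, mem_bot] at hw
    rw [he, hw, mul_one]; exact hr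
  have houter : ∀ x, Commute s x → Commute v x → x ∈ R := by
    intro x hx hvx
    by_contra hxR
    obtain ⟨eL, heL⟩ : ∃ y : centralizer ({s} : Set G), (y : G) = e := ⟨⟨e, mem_L.2 H.se⟩, rfl⟩
    obtain ⟨tL, htL⟩ : ∃ y : centralizer ({s} : Set G), (y : G) = t := ⟨⟨t, mem_L.2 H.ts_comm.symm⟩, rfl⟩
    obtain ⟨xL, hxL⟩ : ∃ y : centralizer ({s} : Set G), (y : G) = x := ⟨⟨x, mem_L.2 hx⟩, rfl⟩
    have hX1 : φ xL ≠ 1 := fun h0 => hxR (hxL ▸ hker _ h0)
    by_cases hX2 : φ xL * φ xL = 1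
    · have htt' : tL * tL = 1 := Subtype.ext (by simp [htL, H.tt])
      have he3' : eL ^ 3 = 1 := Subtype.ext (by simp [heL, H.e3])
      obtain ⟨i, hi⟩ := s3_conj _ _ (φ xL) (by rw [← map_pow, he3', map_one])
        (hT.map_cube_ne hk (by rw [heL, H.e3]) (by rw [heL]; exact H.e_ne))
        (by rw [← map_mul, htt', map_one]) (fun h0 => H.t_notMem hR (htL ▸ hker _ h0)) hX2 hX1
      have hr : t * cj (e ^ (i : ℕ)) x ∈ R := by
        have h1 : φ (tL * (eL ^ (i : ℕ) * xL * (eL ^ (i : ℕ))⁻¹)) = 1 := by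
          rw [map_mul, map_mul, map_mul, map_inv, map_pow, hi, ← map_mul, htt', map_one]
        have := hker _ h1
        simp only [coe_mul, InvMemClass.coe_inv, SubgroupClass.coe_pow, heL, htL, hxL] at this
        exact this
      obtain ⟨v', hv'⟩ : ∃ v', v' = cj (e ^ (i : ℕ)) v := ⟨_, rfl⟩
      have hv'R : v' ∈ R := hv' ▸ hR.core.norm _ (H.se.pow_right _) v hv
      have hv'c : cj (cj (e ^ (i : ℕ)) x) v' = v' := by
        rw [hv']; exact cj_of_commute (cj_commute _ hvx).symm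
      have ht : cj t v' = cj (t * cj (e ^ (i : ℕ)) x) v' := by
        rw [← cj_cj, hv'c]
      have hW : v' ∈ Wfix s R t := (hR.core.mem_W H.ts_comm.symm).2 ⟨hv'R, ht ▸ (hall v' hv'R).2 _ hr⟩
      have hv'v : v' * v' = 1 := by rw [hv', ← cj_mul, hvv, cj_one]
      have hv'D : v' ∈ Dt t R := by
        obtain ⟨k, -, hk'⟩ := H.two_class hT h32 hW
        have h1 : t * v' * (t * v') = 1 := by rw [← hk', ← cj_mul, H.tt, cj_one]
        have h2 : cj t v' * v' = 1 := by rw [cj, inv_of_sq H.tt]; simpa only [mul_assoc] using h1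
        exact mem_Dt.2 ⟨hv'R, commute_of_cj ((eq_inv_of_mul_eq_one_left h2).trans (inv_of_sq hv'v))⟩
      have hback : ∀ u, v' = u → ¬ IsConj s u := fun u hu hsu => hvs (hsu.trans
        (isConj_iff.2 ⟨(e ^ (i : ℕ))⁻¹, show cj (e ^ (i : ℕ))⁻¹ u = v by rw [← hu, hv', cj_inv_cj]⟩))
      rcases hDt v' hv'D with e' | e' | e' | e'
      · exact hv1 (cj_eq_one.1 (hv' ▸ e'))
      · exact hback s e' (IsConj.refl s)
      · exact hback f e' hsf'
      · exact hback (s * f) e' (hsz.trans (H.sf_conj_z hf).symm)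
    · obtain ⟨h3, h1⟩ := s3_order _ hX2
      have ho : orderOf (φ xL) = 3 := by
        haveI : Fact (Nat.Prime 3) := ⟨Nat.prime_three⟩
        exact orderOf_eq_prime h3 h1
      obtain ⟨m, hm⟩ : 3 ∣ orderOf x := by
        rw [← hxL, Subgroup.orderOf_coe, ← ho]
        exact orderOf_map_dvd φ xL
      have hd3 : (x ^ m) ^ 3 = 1 := by rw [← pow_mul, mul_comm, ← hm, pow_orderOf_eq_one]
      have hd1 : x ^ m ≠ 1 := fun h0 => by
        have hpos := orderOf_pos x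
        have h5 := Nat.le_of_dvd (by omega) (orderOf_dvd_of_pow_eq_one h0)
        omega
      exact (H.fixR hR.core hd3 hd1 (hx.pow_right m) hv
        (Or.inl (cj_of_commute ((hvx.pow_right m).symm)))).elim hv1 hvs'
  have h16 : Nat.card (R ⊓ centralizer ({v} : Set G) : Subgroup G) = 16 := by
    have := H.card_cent_f hT (le_of_eq h32.symm) (hall v hv) hv1 hvs'
    omega
  refine ⟨houter, h16, ?_⟩
  by_contra hcon
  push Not at hcon
  obtain ⟨P, hP⟩ : ∃ P, P = (R ⊓ centralizer ({v} : Set G) : Subgroup G) := ⟨_, rfl⟩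
  have hab : ∀ p ∈ P, ∀ p' ∈ P, cj p p' = p' := fun p hp p' hp' => by
    rw [hP] at hp hp'
    exact ((hall p' hp'.1).2 p hp.1).resolve_right (hcon p hp.1 p' hp'.1 (mem_L.1 hp.2) (mem_L.1 hp'.2))
  obtain ⟨x, hxR, hxn⟩ : ∃ x ∈ R, x ∉ P := by
    by_contra hcon'
    push Not at hcon'
    have := card_le_of_le (show R ≤ P from hcon')
    rw [hP, h16] at this
    omega
  have h8 : Nat.card P ≤ 2 * Nat.card (P ⊓ centralizer ({x} : Set G) : Subgroup G) :=
    card_le_two_mul fun p hp q hq hpC hqC => by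
      have key : ∀ {w : G}, w ∈ P → w ∉ P ⊓ centralizer ({x} : Set G) → cj w x = x * s := fun hw hn =>
        ((hall x hxR).2 _ (hP ▸ hw : _ ∈ R ⊓ centralizer ({v} : Set G)).1).resolve_left
          fun h0 => hn ⟨hw, mem_L.2 (commute_of_cj h0).symm⟩
      refine ⟨mul_mem hp hq, mem_L.2 (commute_of_cj ?_).symm⟩
      rw [← cj_cj, key hq hqC, cj_mul, key hp hpC,
        cj_of_commute (hR.core.le p (hP ▸ hp : _ ∈ R ⊓ centralizer ({v} : Set G)).1).symm, mul_assoc, H.s_sq,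
        mul_one]
  have hle : (P ⊓ centralizer ({x} : Set G) : Subgroup G) ≤ zpowers s := by
    intro p hp
    have hpP : p ∈ P := hp.1
    have hpR : p ∈ R := (hP ▸ hpP : p ∈ R ⊓ centralizer ({v} : Set G)).1
    rw [mem_zpowers_invol H.s_sq]
    refine H.center_R hT (le_of_eq h32.symm) hpR fun r hr => ?_
    by_cases hrP : r ∈ P
    · exact (commute_of_cj (hab r hrP p hpP)).symm
    · have hxr : x⁻¹ * r ∈ P := by
        rw [hP]
        refine ⟨R.mul_mem (R.inv_mem hxR) hr, mem_L.2 (commute_of_cj ?_).symm⟩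
        have key : ∀ {w : G}, w ∈ R → w ∉ P → cj w v = v * s := fun {w} hw hn =>
          ((hall v hv).2 w hw).resolve_left fun h0 => hn (hP ▸ ⟨hw, mem_L.2 (commute_of_cj h0).symm⟩)
        have h2 : cj x⁻¹ v = v * s := key (R.inv_mem hxR) (fun h0 => hxn (by simpa using P.inv_mem h0))
        rw [← cj_cj, key hr hrP, cj_mul, h2, cj_of_commute (hR.core.le _ (R.inv_mem hxR)).symm, mul_assoc,
          H.s_sq, mul_one]
      have h3 : Commute p (x * (x⁻¹ * r)) :=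
        (mem_L.1 hp.2).symm.mul_right (commute_of_cj (hab _ hxr p hpP)).symm
      rwa [mul_inv_cancel_left] at h3
  have h2 := card_le_of_le hle
  rw [Nat.card_zpowers, orderOf_eq_prime (hp := ⟨Nat.prime_two⟩) (by rw [sq, H.s_sq]) H.s_ne] at h2
  rw [hP, h16] at h8
  rw [hP] at h2
  omega

end Cfg

end Cfsg.Agent.M11ThreeLocal
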