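import Cfsg.Agent.M11ThreeLocal.LargeEnd

/-!
# The exclusion of a radical of order 32
-/

set_option autoImplicit false
set_option linter.unusedSectionVars false
set_option synthInstance.maxSize 2000

namespace Cfsg.Agent.M11ThreeLocal

open Subgroup

variable {G : Type*} [Group G] [Finite G]

/-- A fixed-point-free involution forces an even number of elements. -/
theorem even_of_fpf {α : Type*} [Finite α] (g : α → α) (hg : ∀ x, g (g x) = x) (hne : ∀ x, g x ≠ x) :
    2 ∣ Nat.card α := by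
  classical
  letI := Fintype.ofFinite α
  have hsum : ∑ _x : α, (1 : ZMod 2) = 0 :=
    Finset.sum_involution (fun x _ => g x) (fun _ _ => by decide) (fun x _ _ => hne x)
      (fun x _ => Finset.mem_univ _) (fun x _ => hg x)
  rw [Finset.sum_const, nsmul_one, ZMod.natCast_eq_zero_iff_even, Finset.card_univ,
    ← Nat.card_eq_fintype_card] at hsum
  exact even_iff_two_dvd.1 hsum

/-- Three commuting involutions generate at most eight elements. -/
theorem card_closure_three {u v w : G} (hu : u * u = 1) (hv : v * v = 1) (hw : w * w = 1) (huv : Commute u v)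
    (huw : Commute u w) (hvw : Commute v w) : Nat.card (closure ({u, v, w} : Set G)) ≤ 8 := by
  classical
  let y : Bool × Bool × Bool → G := fun b =>
    (if b.1 then u else 1) * (if b.2.1 then v else 1) * (if b.2.2 then w else 1)
  have hmul : ∀ b c, y (xor b.1 c.1, xor b.2.1 c.2.1, xor b.2.2 c.2.2) = y b * y c := by
    rintro ⟨b1, b2, b3⟩ ⟨c1, c2, c3⟩
    have p1 : Commute (if b2 = true then v else 1) (if c1 = true then u else 1) := by
      split <;> split <;> simp [huv.symm]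
    have p2 : Commute (if b3 = true then w else 1) ((if c1 = true then u else 1) * (if c2 = true then v else 1)) := by
      refine Commute.mul_right ?_ ?_ <;> split <;> split <;> simp [huw.symm, hvw.symm]
    simp only [y]
    rw [p2.mul_mul_mul_comm, p1.mul_mul_mul_comm]
    rcases b1 <;> rcases b2 <;> rcases b3 <;> rcases c1 <;> rcases c2 <;> rcases c3 <;> simp [hu, hv, hw]
  have h1 : y (false, false, false) = 1 := by simp [y]
  have hsq : ∀ b, y b * y b = 1 := fun b => by rw [← hmul b b]; simp [y]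
  have hall : ∀ x ∈ closure ({u, v, w} : Set G), ∃ b, x = y b := fun x hx => by
    induction hx using closure_induction with
    | mem x hx =>
      rcases hx with rfl | rfl | rfl
      exacts [⟨(true, false, false), by simp [y]⟩, ⟨(false, true, false), by simp [y]⟩,
        ⟨(false, false, true), by simp [y]⟩]
    | one => exact ⟨_, h1.symm⟩
    | mul x x' _ _ hx hx' =>
      obtain ⟨b, rfl⟩ := hx
      obtain ⟨c, rfl⟩ := hx'
      exact ⟨_, (hmul b c).symm⟩
    | inv x _ hx =>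
      obtain ⟨b, rfl⟩ := hx
      exact ⟨b, inv_of_sq (hsq b)⟩
  choose B hB using hall
  let F : closure ({u, v, w} : Set G) → Bool × Bool × Bool := fun x => B x.1 x.2
  have hF : Function.Injective F := fun x x' hxx => Subtype.ext (by rw [hB x.1 x.2, hB x'.1 x'.2]; exact congrArg y hxx)
  have := Nat.card_le_card_of_injective F hF
  simpa using this

variable {M : Subgroup G} {e h s t z a : G} {R O : Subgroup G}

namespace Cfg

variable (H : Cfg M e h s t z a)

include H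

/-- A radical of order 32 does not occur. -/
theorem not_I_two (hT : TI s R O) (h32 : Nat.card R = 32) : False := by
  classical
  have hR := hT.rad
  obtain ⟨f, hf, hS, hfs, hc, hall, -, -, -, hsz⟩ := H.two_data hT h32
  obtain ⟨-, hf1⟩ := H.iv_mem hR hf
  obtain ⟨-, -, hff⟩ := H.iv_comm hf
  have hO := H.two_O hT h32 hf hS hfs hc
  obtain ⟨w, ρ, hww, hzw, hρ5, hρ1, hwρ, hw1⟩ := H.exists_five hR hf hc
  have hws : ¬ IsConj s w := fun hcon => by
    obtain ⟨g, hg⟩ := isConj_iff.1 hcon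
    have h1 : Commute s (cj g⁻¹ ρ) := by
      have h2 := cj_commute g⁻¹ hwρ
      rwa [show cj g⁻¹ w = s by rw [← hg]; exact cj_inv_cj g s] at h2
    have h5 : orderOf (cj g⁻¹ ρ) = 5 := by
      haveI : Fact (Nat.Prime 5) := ⟨Nat.prime_five⟩
      exact orderOf_eq_prime (by rw [cj_pow, hρ5, cj_one]) fun h0 => hρ1 (cj_eq_one.1 h0)
    have h3 : 5 ∣ Nat.card (centralizer ({s} : Set G)) := by
      rw [← h5, ← orderOf_mk _ (mem_L.2 h1)]
      exact orderOf_dvd_natCard _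
    rw [hT.card, h32, hO, Subgroup.card_bot] at h3
    norm_num at h3
  obtain ⟨c, hc'⟩ := isConj_iff.1 hsz
  obtain ⟨v, hv'⟩ : ∃ v, v = cj c⁻¹ w := ⟨_, rfl⟩
  have hsv : Commute s v := by
    have h2 := cj_commute c⁻¹ hzw
    rwa [show cj c⁻¹ z = s by rw [← hc']; exact cj_inv_cj c s, ← hv'] at h2
  have hvv : v * v = 1 := by rw [hv', ← cj_mul, hww, cj_one]
  have hv1 : v ≠ 1 := fun h0 => hw1 (cj_eq_one.1 (hv' ▸ h0))
  have hvs : ¬ IsConj s v := fun hcon => hws (hcon.trans (isConj_iff.2 ⟨c, show cj c v = w by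
    rw [hv', cj_cj_inv]⟩))
  have hinR : ∀ {u : G}, Commute s u → u * u = 1 → ¬ IsConj s u → u ∈ R := fun hu huu hus =>
    Classical.byContradiction fun hn => hus (H.two_outer hT h32 hO hu huu hn)
  have hvR := hinR hsv hvv hvs
  -- a translate of `f` commuting with `v`
  obtain ⟨i, hi⟩ : ∃ i : ℕ, Commute (cj (e ^ i) f) v := by
    rcases hS.2 v hvR with e1 | e1
    · exact ⟨0, by rw [pow_zero, cj_one']; exact (commute_of_cj e1).symm⟩
    rcases (hS.norm hT.core H.se).2 v hvR with e2 | e2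
    · exact ⟨1, by rw [pow_one]; exact (commute_of_cj e2).symm⟩
    refine ⟨2, ?_⟩
    obtain ⟨σ, hσ, hσ'⟩ : ∃ σ, (σ = 1 ∨ σ = s) ∧ f * cj e f * cj e (cj e f) = σ :=
      ⟨_, (mem_zpowers_invol H.s_sq).1 ((H.bundle hR.core H.e3 H.e_ne H.se).1 f hS.1).1, rfl⟩
    refine (commute_of_cj ?_).symm
    rw [show e ^ 2 = e * e from sq e, ← cj_cj,
      show cj e (cj e f) = (f * cj e f)⁻¹ * σ by rw [← hσ', inv_mul_cancel_left],
      cj_mul, cj_inv, cj_mul, e1, e2, (H.sig hσ).2.2.2.1 v hsv]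
    have hm := (hS.norm hT.core H.se).1
    rw [(hR.core.le _ hm).mul_mul_mul_comm, H.s_sq, mul_one]
  obtain ⟨f', hf'⟩ : ∃ x, x = cj (e ^ i) f := ⟨_, rfl⟩
  rw [← hf'] at hi
  have hsei : Commute s (e ^ i) := H.se.pow_right i
  have hS' : Sec s R f' := hf' ▸ hS.norm hT.core hsei
  have hf'1 : f' ≠ 1 := fun h0 => hf1 (cj_eq_one.1 (hf' ▸ h0))
  have hf's : f' ≠ s := fun h0 => hfs (cj_injective (e ^ i)
    ((hf' ▸ h0).trans (cj_of_commute hsei.symm).symm))
  obtain ⟨c1, hc1s, hc1f⟩ := H.exists_swap hR hf hc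
  obtain ⟨hsRf, -⟩ := H.st_mem hf (hc1s ▸ (hT.map c1).rad)
  obtain ⟨g, hg⟩ : ∃ g, g = e ^ i * c1 := ⟨_, rfl⟩
  have hgs : cj g s = f' := by rw [hg, ← cj_cj, hc1s, hf']
  obtain ⟨Rp, hRp⟩ : ∃ Rp, Rp = R.map (MulAut.conj g).toMonoidHom := ⟨_, rfl⟩
  have hRpm : ∀ {x : G}, x ∈ Rp ↔ cj g⁻¹ x ∈ R := fun {x} => by rw [hRp, mem_map_cj]
  have hsRp : s ∈ Rp := by
    rw [mem_map_cj] at hsRf
    rw [hRpm, hg, mul_inv_rev, ← cj_cj, cj_of_commute hsei.inv_right.symm]
    exact hsRf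
  obtain ⟨v2, hv2'⟩ : ∃ v2, v2 = cj g⁻¹ v := ⟨_, rfl⟩
  have hgf : cj g⁻¹ f' = s := by rw [← hgs, cj_inv_cj]
  have hsv2 : Commute s v2 := by
    have h2 := cj_commute g⁻¹ hi
    rwa [hgf, ← hv2'] at h2
  have hv2v : v2 * v2 = 1 := by rw [hv2', ← cj_mul, hvv, cj_one]
  have hv2s : ¬ IsConj s v2 := fun hcon => hvs (hcon.trans (isConj_iff.2 ⟨g, show cj g v2 = v by
    rw [hv2', cj_cj_inv]⟩))
  obtain ⟨houter2, hc2, p2, hp2, p2', hp2', hp2v, hp2v', hp2c⟩ :=
    H.two_cent hT h32 hO (hinR hsv2 hv2v hv2s) hv2v (fun h0 => hv1 (cj_eq_one.1 (hv2' ▸ h0))) hv2s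
  obtain ⟨houter, hc1, p1, hp1, p1', hp1', hp1v, hp1v', hp1c⟩ := H.two_cent hT h32 hO hvR hvv hv1 hvs
  obtain ⟨P, hP⟩ : ∃ P, P = (R ⊓ centralizer ({v} : Set G) : Subgroup G) := ⟨_, rfl⟩
  have hPm : ∀ {x : G}, x ∈ P ↔ x ∈ R ∧ Commute v x := fun {x} => by rw [hP, mem_inf, mem_L]
  have hP16 : Nat.card P = 16 := hP ▸ hc1
  have hcommut : ∀ q ∈ P, ∀ q' ∈ P, q'⁻¹ * cj q q' = 1 ∨ q'⁻¹ * cj q q' = s := fun q hq q' hq' => by
    rcases (hall q' (hPm.1 hq').1).2 q (hPm.1 hq).1 with e' | e' <;> rw [e']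
    · exact Or.inl (inv_mul_cancel q')
    · exact Or.inr (inv_mul_cancel_left q' s)
  have hmax : ∀ T : Subgroup G, IsPGroup 2 T → (∀ x ∈ T, Commute v x) → P ≤ T → P = T := by
    intro T hT2 hTv hPT
    by_contra hne
    obtain ⟨x, hxT, hxP, hxN⟩ := exists_normalizing hT2 hPT hne
    refine hxP (hPm.2 ⟨houter x ?_ (hTv x hxT), hTv x hxT⟩)
    have m1 := (mem_normalizer_iff.1 hxN p1).1 (hPm.2 ⟨hp1, hp1v⟩)
    have m2 := (mem_normalizer_iff.1 hxN p1').1 (hPm.2 ⟨hp1', hp1v'⟩)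
    have h1 : (cj x p1')⁻¹ * cj (cj x p1) (cj x p1') = cj x s := by
      rw [show cj (cj x p1) (cj x p1') = cj x (cj p1 p1') by simp only [cj]; group, hp1c, cj_mul,
        inv_mul_cancel_left]
    rcases hcommut _ m1 _ m2 with h2 | h2
    · exact absurd (cj_eq_one.1 (h1.symm.trans h2)) H.s_ne
    · exact (commute_of_cj (h1.symm.trans h2)).symm
  -- the four group
  obtain ⟨A, hA⟩ : ∃ A, A = closure ({v, s, f'} : Set G) := ⟨_, rfl⟩
  have mv : v ∈ A := hA ▸ subset_closure (by simp)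
  have ms : s ∈ A := hA ▸ subset_closure (by simp)
  have mf : f' ∈ A := hA ▸ subset_closure (by simp)
  have hA8 : Nat.card A ≤ 8 := hA ▸ card_closure_three hvv H.s_sq (by rw [hf', ← cj_mul, hff, cj_one])
    hsv.symm hi.symm (hR.core.le f' hS'.1)
  let Y : Subgroup G := normalizer (A : Set G) ⊓ centralizer ({v} : Set G)
  have hmapA : ∀ k, Commute v k → cj k s ∈ A → cj k f' ∈ A → ∀ x ∈ A, cj k x ∈ A := by
    intro k hk h1 h2
    have hle : A ≤ A.comap (MulAut.conj k).toMonoidHom := by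
      conv_lhs => rw [hA]
      rw [closure_le]
      rintro x (rfl | rfl | rfl)
      · show cj k x ∈ A
        rwa [cj_of_commute hk.symm]
      exacts [h1, h2]
    exact fun x hx => hle hx
  have hnorm : ∀ (Q : Subgroup G), (∀ k ∈ Q, Commute v k ∧ cj k s ∈ A ∧ cj k f' ∈ A) → Q ≤ Y := by
    intro Q hQ k hk
    obtain ⟨h1, h2, h3⟩ := hQ k hk
    refine ⟨mem_normalizer_iff.2 fun x => ⟨fun hx => hmapA k h1 h2 h3 x hx, fun hx => ?_⟩, mem_L.2 h1⟩
    obtain ⟨h1', h2', h3'⟩ := hQ k⁻¹ (inv_mem hk)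
    have := hmapA k⁻¹ h1' h2' h3' _ hx
    rwa [show cj k⁻¹ (k * x * k⁻¹) = x from cj_inv_cj k x] at this
  have hPY : P ≤ Y := hnorm P fun k hk => by
    obtain ⟨hkR, hkv⟩ := hPm.1 hk
    refine ⟨hkv, ?_, ?_⟩
    · rwa [cj_of_commute (hR.core.le k hkR).symm]
    · rcases hS'.2 k hkR with e' | e' <;> rw [e']
      exacts [mf, mul_mem mf ms]
  obtain ⟨P2, hP2⟩ : ∃ P2, P2 = (Rp ⊓ centralizer ({v} : Set G) : Subgroup G) := ⟨_, rfl⟩
  have hP2Y : P2 ≤ Y := hnorm P2 fun k hk => by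
    rw [hP2] at hk
    obtain ⟨hkR, hkv⟩ := hk
    have hk' := hRpm.1 hkR
    refine ⟨mem_L.1 hkv, ?_, ?_⟩
    · have h1 : cj k s = cj g (cj (cj g⁻¹ k) (cj g⁻¹ s)) := by simp only [cj]; group
      rw [h1]
      rcases (hall _ (hRpm.1 hsRp)).2 _ hk' with e' | e' <;> rw [e']
      · rwa [cj_cj_inv]
      · rw [cj_mul, cj_cj_inv, hgs]; exact mul_mem ms mf
    · have h1 : Commute k f' := by
        have h2 := cj_commute g (hR.core.le _ hk')
        rw [hgs, cj_cj_inv] at h2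
        exact h2.symm
      rwa [cj_of_commute h1]
  have hYs : Y ⊓ centralizer ({s} : Set G) = P := by
    refine le_antisymm (fun x hx => ?_) fun x hx => ⟨hPY hx, mem_L.2 (hR.core.le x (hPm.1 hx).1)⟩
    exact hPm.2 ⟨houter x (mem_L.1 hx.2) (mem_L.1 hx.1.2), mem_L.1 hx.1.2⟩
  let Orb := {x : G // ∃ k ∈ Y, cj k s = x}
  have horb : Nat.card Orb * 16 = Nat.card Y := by
    have h1 := card_orbit_mul Y s
    rw [hYs, hP16] at h1
    exact h1
  have hodd : ¬ 2 ∣ Nat.card Orb := fun hd => by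
    haveI : Fact (Nat.Prime 2) := ⟨Nat.prime_two⟩
    have hP2g : IsPGroup 2 (P.subgroupOf Y) := (hR.core.two.to_le (fun x hx => (hPm.1 hx).1)).comap_subtype
    obtain ⟨T, hT'⟩ := hP2g.exists_le_sylow
    have h1 := hmax ((T : Subgroup Y).map Y.subtype) (T.2.map _)
      (by rintro _ ⟨x, -, rfl⟩; exact mem_L.1 x.2.2)
      (fun x hx => ⟨⟨x, hPY hx⟩, hT' (mem_subgroupOf.2 hx), rfl⟩)
    have hTc : Nat.card (T : Subgroup Y) = 16 := by
      rw [← hP16, h1, card_map_of_injective Y.subtype_injective]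
    have h2 := (T : Subgroup Y).card_mul_index
    rw [hTc, ← horb] at h2
    exact T.not_dvd_index (by
      rw [show (T : Subgroup Y).index = Nat.card Orb by omega]
      exact hd)
  have hne1 : ∀ X : Orb, X.1 ≠ 1 ∧ X.1 ≠ v ∧ X.1 ∈ A := by
    rintro ⟨X, k, hk, hkX⟩
    refine ⟨fun h0 => H.s_ne (cj_eq_one.1 (hkX.trans h0)), fun h0 => hvs (isConj_iff.2 ⟨k, hkX.trans h0⟩), ?_⟩
    show X ∈ A
    rw [← hkX]
    exact (mem_normalizer_iff.1 hk.1 s).1 ms
  have hmv : ∀ k ∈ Y, cj k v = v := fun k hk => cj_of_commute (mem_L.1 hk.2).symm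
  have hsvn : ¬ ∃ k ∈ Y, cj k s = s * v := by
    rintro ⟨k0, hk0, hk0'⟩
    refine hodd ?_
    have hsh : ∀ X : Orb, ∃ k ∈ Y, cj k s = X.1 * v := fun X => by
      obtain ⟨k, hk, hkX⟩ := X.2
      exact ⟨k * k0, mul_mem hk hk0, by rw [← cj_cj, hk0', cj_mul, hkX, hmv k hk]⟩
    refine even_of_fpf (fun X => (⟨X.1 * v, hsh X⟩ : Orb)) (fun X => Subtype.ext ?_) fun X h0 => hv1 ?_
    · show X.1 * v * v = X.1
      rw [mul_assoc, hvv, mul_one]
    · exact mul_eq_left.1 (congrArg Subtype.val h0)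
  let F : Orb × Bool ⊕ Bool → A := fun p => Sum.elim
    (fun q => ⟨q.1.1 * (if q.2 then v else 1), mul_mem (hne1 q.1).2.2 (by split <;> [exact mv; exact one_mem A])⟩)
    (fun b => ⟨if b then v else 1, by split <;> [exact mv; exact one_mem A]⟩) p
  have hshift : ∀ X X' : Orb, X.1 ≠ X'.1 * v := by
    rintro ⟨X, k, hk, hkX⟩ ⟨X', l, hl, hlX⟩ h0
    refine hsvn ⟨l⁻¹ * k, mul_mem (inv_mem hl) hk, ?_⟩
    have h1 : X = X' * v := h0
    rw [← cj_cj, hkX, h1, ← hlX, cj_mul, cj_inv_cj, hmv _ (inv_mem hl)]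
  have hF : Function.Injective F := by
    rintro (⟨X, b⟩ | b) (⟨X', b'⟩ | b') hpq <;> have h1 := congrArg Subtype.val hpq <;>
      simp only [F, Sum.elim_inl, Sum.elim_inr] at h1
    · rcases b <;> rcases b' <;> simp at h1
      · rw [show X = X' from Subtype.ext h1]
      · exact absurd h1 (hshift X X')
      · exact absurd h1.symm (hshift X' X)
      · rw [show X = X' from Subtype.ext h1]
    · rcases b <;> rcases b' <;> simp at h1
      · exact absurd h1 (hne1 X).1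
      · exact absurd h1 (hne1 X).2.1
      · exact absurd ((eq_inv_of_mul_eq_one_left h1).trans (inv_of_sq hvv)) (hne1 X).2.1
      · exact absurd h1 (hne1 X).1
    · rcases b <;> rcases b' <;> simp at h1
      · exact absurd h1.symm (hne1 X').1
      · exact absurd ((eq_inv_of_mul_eq_one_left h1.symm).trans (inv_of_sq hvv)) (hne1 X').2.1
      · exact absurd h1.symm (hne1 X').2.1
      · exact absurd h1 (hne1 X').1
    · rcases b <;> rcases b' <;> simp at h1 ⊢
      · exact hv1 h1.symm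
      · exact hv1 h1
  have hle : Nat.card Orb * 2 + 2 ≤ 8 := by
    have h1 := Nat.card_le_card_of_injective F hF
    rw [Nat.card_sum, Nat.card_prod] at h1
    simp at h1
    omega
  have hgt : Nat.card Orb ≠ 1 := fun h0 => by
    have h1 : P = Y := eq_of_le_of_card_ge hPY (by rw [← horb, h0, hP16])
    have key : ∀ p, p ∈ R → Commute v2 p → cj g p ∈ P := fun p hp hpv => by
      rw [h1]
      refine hP2Y ?_
      rw [hP2]
      refine ⟨hRpm.2 (by rwa [cj_inv_cj]), mem_L.2 ?_⟩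
      have h2 := cj_commute g hpv
      rwa [hv2', cj_cj_inv] at h2
    have h3 : (cj g p2')⁻¹ * cj (cj g p2) (cj g p2') = f' := by
      rw [show cj (cj g p2) (cj g p2') = cj g (cj p2 p2') by simp only [cj]; group, hp2c, cj_mul, hgs,
        inv_mul_cancel_left]
    rcases hcommut _ (key p2 hp2 hp2v) _ (key p2' hp2' hp2v') with e' | e'
    · exact hf'1 (h3.symm.trans e')
    · exact hf's (h3.symm.trans e')
  have h3 : Nat.card Orb = 3 := by
    have hpos : Nonempty Orb := ⟨⟨s, 1, one_mem Y, cj_one' s⟩⟩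
    have := Nat.card_pos (α := Orb)
    omega
  haveI : Fact (Nat.Prime 3) := ⟨Nat.prime_three⟩
  obtain ⟨⟨d, hd⟩, hdo⟩ := exists_prime_orderOf_dvd_card' (G := Y) 3 (by rw [← horb, h3]; norm_num)
  rw [Subgroup.orderOf_mk] at hdo
  exact hvs (H.invol_conj (d := d) (hdo ▸ pow_orderOf_eq_one d) (fun h0 => by rw [h0, orderOf_one] at hdo; omega)
    hvv hv1 (mem_L.1 hd.2))

end Cfg

end Cfsg.Agent.M11ThreeLocal
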