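import Cfsg.Agent.M11ThreeLocal.LargeSec

/-!
# The joint centraliser of the translates of `f`
-/

set_option autoImplicit false
set_option linter.unusedSectionVars false
set_option synthInstance.maxSize 2000

namespace Cfsg.Agent.M11ThreeLocal

open Subgroup

variable {G : Type*} [Group G] [Finite G] {M : Subgroup G} {e h s t z a : G} {R O : Subgroup G}

/-- The joint centraliser of `f` and its translate. -/
abbrev K0f (R : Subgroup G) (e f : G) : Subgroup G :=
  R ⊓ centralizer ({f} : Set G) ⊓ centralizer ({cj e f} : Set G)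

/-- The elements of the group generated by `s`, `f` and the translate of `f`. -/
abbrev Yf (s e f : G) (b : Bool × Bool × Bool) : G :=
  (if b.1 then s else 1) * (if b.2.1 then f else 1) * (if b.2.2 then cj e f else 1)

theorem mem_K0f {f x : G} : x ∈ K0f R e f ↔ x ∈ R ∧ Commute f x ∧ Commute (cj e f) x := by
  rw [mem_inf, mem_inf, mem_L, mem_L, and_assoc]

namespace Cfg

variable (H : Cfg M e h s t z a)

include H

theorem K0f_props (hT : TI s R O) (h32 : 32 ≤ Nat.card R) {f : G} (hf : Iv s t e h f) (hS : Sec s R f)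
    (hfs : f ≠ s) :
    4 * Nat.card (K0f R e f) = Nat.card R ∧ (∀ x ∈ K0f R e f, cj e x ∈ K0f R e f) ∧
    (∀ x ∈ R, ∀ k ∈ K0f R e f, cj x k ∈ K0f R e f) ∧
    (∀ b, Yf s e f b ∈ K0f R e f) ∧ (∀ b, Yf s e f b * Yf s e f b = 1) ∧
    (∀ b, ∀ x ∈ K0f R e f, Commute (Yf s e f b) x) ∧ Function.Injective (Yf s e f) := by
  classical
  have hR := hT.rad
  obtain ⟨-, hf1⟩ := H.iv_mem hR hf
  obtain ⟨-, -, hff⟩ := H.iv_comm hf
  obtain ⟨fe, hfe⟩ : ∃ x, x = cj e f := ⟨_, rfl⟩
  have hSe : Sec s R fe := hfe ▸ hS.norm hT.core H.se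
  have hfeR := hSe.1
  have hcc : Commute f fe := by
    have h1 := hf.1.cc
    rw [cj_mul, cj_of_commute H.se.symm, ← hfe] at h1
    have h2 := ((Commute.refl s).mul_right ((Commute.refl s).mul_right (hR.core.le fe hfeR))).mul_left
      (((Commute.refl s).mul_right (hR.core.le f hS.1)).symm.mul_right h1)
    rwa [← mul_assoc, ← mul_assoc, H.s_sq, one_mul, one_mul] at h2
  obtain ⟨σe, hσe, hfee⟩ : ∃ σe, (σe = 1 ∨ σe = s) ∧ cj e fe = (f * fe)⁻¹ * σe := by
    refine ⟨f * fe * cj e fe, (mem_zpowers_invol H.s_sq).1 ?_, by rw [inv_mul_cancel_left]⟩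
    rw [hfe]
    exact ((H.bundle hR.core H.e3 H.e_ne H.se).1 f hS.1).1
  have hfe3 : ∀ k : Fin 3, k ≠ 0 → ∀ τ, (τ = 1 ∨ τ = s) → cj (e ^ (k : ℕ)) f ≠ f * τ := fun k hk τ hτ h0 =>
    hk (H.orbit_inj hR hS.1 hf1 hfs hτ (by rw [h0]; simp [cj_one']))
  have hfe1 : fe = cj (e ^ ((1 : Fin 3) : ℕ)) f := by rw [hfe]; simp
  have hfene : fe ≠ 1 := fun h0 => hf1 (cj_eq_one.1 (hfe ▸ h0))
  have hfes : fe ≠ s := fun h0 => hfs (cj_injective e
    ((hfe ▸ h0).trans (cj_of_commute H.se.symm).symm))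
  obtain ⟨K0, hK0⟩ : ∃ K0, K0 = R ⊓ centralizer ({f} : Set G) ⊓ centralizer ({fe} : Set G) := ⟨_, rfl⟩
  have hK : ∀ {x : G}, x ∈ K0 ↔ x ∈ R ∧ Commute f x ∧ Commute fe x := fun {x} => by
    rw [hK0, mem_inf, mem_inf, mem_L, mem_L, and_assoc]
  have h64 := H.card_cent_f hT h32 hS hf1 hfs
  have hfee' : ∀ {x : G}, x ∈ R → Commute f x → Commute fe x → Commute (cj e fe) x := fun {x} hx c1 c2 => by
    rw [hfee]
    refine (c1.mul_left c2).inv_left.mul_left ?_
    rcases hσe with e'' | e'' <;> rw [e'']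
    exacts [Commute.one_left x, hR.core.le x hx]
  have hK32 : 4 * Nat.card K0 = Nat.card R := by
    have h1 : Nat.card (R ⊓ centralizer ({f} : Set G) : Subgroup G) ≤ 2 * Nat.card K0 :=
      card_le_two_mul fun x hx y hy hxK hyK => by
        have key : ∀ {u : G}, u ∈ R ⊓ centralizer ({f} : Set G) → u ∉ K0 → cj u fe = fe * s := fun hu hn =>
          (hSe.2 _ hu.1).resolve_left fun h0 => hn (hK.2 ⟨hu.1, mem_L.1 hu.2, (commute_of_cj h0).symm⟩)
        refine hK.2 ⟨mul_mem hx.1 hy.1, (mem_L.1 hx.2).mul_right (mem_L.1 hy.2), (commute_of_cj ?_).symm⟩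
        rw [← cj_cj, key hy hyK, cj_mul, key hx hxK, cj_of_commute (hR.core.le x hx.1).symm, mul_assoc,
          H.s_sq, mul_one]
    have hle : K0 ≤ R ⊓ centralizer ({f} : Set G) := fun x hx => ⟨(hK.1 hx).1, mem_L.2 (hK.1 hx).2.1⟩
    have h2 : Nat.card K0 < Nat.card (R ⊓ centralizer ({f} : Set G) : Subgroup G) := by
      refine lt_of_le_of_ne (card_le_of_le hle) fun h0 => ?_
      have heq := eq_of_le_of_card_ge hle h0.ge
      -- the index two subgroup would be invariant
      have hinv : ∀ x ∈ R ⊓ centralizer ({f} : Set G), cj e x ∈ R ⊓ centralizer ({f} : Set G) := fun x hx => by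
        rw [← heq] at hx
        obtain ⟨hxR, c1, c2⟩ := hK.1 hx
        refine ⟨hR.core.norm e H.se x hxR, mem_L.2 ?_⟩
        have := cj_commute e (hfee' hxR c1 c2)
        rwa [hfe, cj_e_cube H.e3] at this
      obtain ⟨y, hy, hyn⟩ : ∃ y ∈ R, y ∉ R ⊓ centralizer ({f} : Set G) := by
        by_contra hcon
        push Not at hcon
        have := card_le_of_le (show R ≤ R ⊓ centralizer ({f} : Set G) from hcon)
        omega
      have hn : ∀ {x : G}, x ∉ R ⊓ centralizer ({f} : Set G) → cj e x ∉ R ⊓ centralizer ({f} : Set G) :=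
        fun {x} hx h1 => hx (by
          have h2 := hinv _ (hinv _ h1)
          rwa [cj_e_cube H.e3] at h2)
      have rule : ∀ {u w : G}, u ∈ R → w ∈ R → u ∉ R ⊓ centralizer ({f} : Set G) →
          w ∉ R ⊓ centralizer ({f} : Set G) → u * w ∈ R ⊓ centralizer ({f} : Set G) := by
        intro u w hu hw hun hwn
        have key : ∀ {x : G}, x ∈ R → x ∉ R ⊓ centralizer ({f} : Set G) → cj x f = f * s := fun hx hn =>
          (hS.2 _ hx).resolve_left fun h0 => hn ⟨hx, mem_L.2 (commute_of_cj h0).symm⟩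
        refine ⟨mul_mem hu hw, mem_L.2 (commute_of_cj ?_).symm⟩
        rw [← cj_cj, key hw hwn, cj_mul, key hu hun, cj_of_commute (hR.core.le u hu).symm, mul_assoc,
          H.s_sq, mul_one]
      have hy1 := hR.core.norm e H.se y hy
      have h3 : y * cj e y * cj e (cj e y) ∈ R ⊓ centralizer ({f} : Set G) := by
        rcases (mem_zpowers_invol H.s_sq).1 ((H.bundle hR.core H.e3 H.e_ne H.se).1 y hy).1 with e'' | e'' <;>
          rw [e'']
        exacts [one_mem _, ⟨hR.core.mem, mem_L.2 (hR.core.le f hS.1).symm⟩]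
      exact hn (hn hyn) ((mul_mem_cancel_left (rule hy hy1 hyn (hn hyn))).1 h3)
    obtain ⟨c, hc'⟩ := card_dvd_of_le hle
    have hc3 : c < 3 := by
      by_contra h4
      have := Nat.mul_le_mul_left (Nat.card K0) (show 3 ≤ c by omega)
      omega
    interval_cases c <;> omega
  have hiK' : ∀ x ∈ K0, cj e x ∈ K0 := fun x hx => by
    obtain ⟨hxR, c1, c2⟩ := hK.1 hx
    refine hK.2 ⟨hR.core.norm e H.se _ hxR, ?_, ?_⟩
    · have := cj_commute e (hfee' hxR c1 c2)
      rwa [hfe, cj_e_cube H.e3] at this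
    · have := cj_commute e c1
      rwa [← hfe] at this
  have hnorm : ∀ x ∈ R, ∀ k ∈ K0, cj x k ∈ K0 := fun x hxR k hk => by
    obtain ⟨hkR, c1, c2⟩ := hK.1 hk
    have key : ∀ q, Sec s R q → Commute q k → Commute q (cj x k) := fun q hq hqi => by
      have h1 := cj_commute x hqi
      rcases hq.2 x hxR with e'' | e'' <;> rw [e''] at h1
      · exact h1
      · have h2 := h1.mul_left (hR.core.le _ (mul_mem (mul_mem hxR hkR) (inv_mem hxR)))
        rwa [mul_assoc, H.s_sq, mul_one] at h2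
    exact hK.2 ⟨mul_mem (mul_mem hxR hkR) (inv_mem hxR), key f hS c1, key fe hSe c2⟩
  let y : Bool × Bool × Bool → G := fun b =>
    (if b.1 then s else 1) * (if b.2.1 then f else 1) * (if b.2.2 then fe else 1)
  have hyK : ∀ b, y b ∈ K0 := fun b => by
    have m1 : s ∈ K0 := hK.2 ⟨hR.core.mem, (hR.core.le f hS.1).symm, (hR.core.le fe hfeR).symm⟩
    have m2 : f ∈ K0 := hK.2 ⟨hS.1, Commute.refl f, hcc.symm⟩
    have m3 : fe ∈ K0 := hK.2 ⟨hfeR, hcc, Commute.refl fe⟩
    refine mul_mem (mul_mem ?_ ?_) ?_ <;> split <;> first | exact one_mem K0 | assumption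
  have hyc : ∀ b, ∀ x ∈ K0, Commute (y b) x := fun b x hx => by
    obtain ⟨hxR, c1, c2⟩ := hK.1 hx
    refine (Commute.mul_left (Commute.mul_left ?_ ?_) ?_) <;> split <;>
      first | exact Commute.one_left x | exact hR.core.le x hxR | exact c1 | exact c2
  have hy2 : ∀ b, y b * y b = 1 := fun b => by
    obtain ⟨b1, b2, b3⟩ := b
    have c1 := hR.core.le f hS.1
    have c2 := hR.core.le fe hfeR
    have hfe2 : fe * fe = 1 := by rw [hfe, ← cj_mul, hff, cj_one]
    have c3 : Commute fe ((if b1 then s else 1) * (if b2 then f else 1)) := by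
      refine Commute.mul_right ?_ ?_ <;> split <;>
        first | exact Commute.one_right fe | exact c2.symm | exact hcc.symm
    have e1 : ((if b1 then s else 1) * (if b2 then f else 1)) * ((if b1 then s else 1) * (if b2 then f else 1))
        = (1 : G) := by
      rcases b1 <;> rcases b2 <;> simp [H.s_sq, hff]
      rw [c1.symm.mul_mul_mul_comm, H.s_sq, hff, one_mul]
    rcases b3
    · simpa [y] using e1
    · show _ * (if true = true then fe else 1) * (_ * (if true = true then fe else 1)) = 1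
      simp only [if_true]
      rw [c3.mul_mul_mul_comm, e1, hfe2, one_mul]
  have hy0 : ∀ b, y b = 1 → b = (false, false, false) := by
    rintro ⟨b1, b2, b3⟩ hb
    have n1 := hfe3 1 (by decide) 1 (Or.inl rfl)
    have n2 := hfe3 1 (by decide) s (Or.inr rfl)
    rw [← hfe1, mul_one] at n1
    rw [← hfe1] at n2
    rcases b1 <;> rcases b2 <;> rcases b3 <;> simp [y] at hb ⊢
    · exact hfene hb
    · exact hf1 hb
    · exact n1 (by rw [eq_inv_of_mul_eq_one_right hb, inv_of_sq hff])
    · exact H.s_ne hb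
    · exact hfes (by rw [eq_inv_of_mul_eq_one_right hb, inv_of_sq H.s_sq])
    · exact hfs (by rw [eq_inv_of_mul_eq_one_right hb, inv_of_sq H.s_sq])
    · refine n2 ?_
      rw [eq_inv_of_mul_eq_one_right hb, mul_inv_rev, inv_of_sq hff, inv_of_sq H.s_sq]
  have hyinj : Function.Injective y := by
    intro b b' hbb
    have hmul : y (xor b.1 b'.1, xor b.2.1 b'.2.1, xor b.2.2 b'.2.2) = y b * y b' := by
      obtain ⟨b1, b2, b3⟩ := b
      obtain ⟨c1, c2, c3⟩ := b'
      have hcs := hR.core.le f hS.1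
      have hcse := hR.core.le fe hfeR
      have hfe2 : fe * fe = 1 := by rw [hfe, ← cj_mul, hff, cj_one]
      have p1 : Commute (if b2 = true then f else 1) (if c1 = true then s else 1) := by
        split <;> split <;> simp [hcs.symm]
      have p2 : Commute (if b3 = true then fe else 1)
          ((if c1 = true then s else 1) * (if c2 = true then f else 1)) := by
        refine Commute.mul_right ?_ ?_ <;> split <;> split <;> simp [hcse.symm, hcc.symm]
      simp only [y]
      rw [p2.mul_mul_mul_comm, p1.mul_mul_mul_comm]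
      rcases b1 <;> rcases b2 <;> rcases b3 <;> rcases c1 <;> rcases c2 <;> rcases c3 <;>
        simp [H.s_sq, hff, hfe2]
    rw [hbb, hy2 b'] at hmul
    have := hy0 _ hmul
    simp only [Prod.mk.injEq, bne_eq_false_iff_eq] at this
    exact Prod.ext this.1 (Prod.ext this.2.1 this.2.2)
  subst hfe
  subst hK0
  exact ⟨hK32, hiK', hnorm, hyK, hy2, hyc, hyinj⟩

end Cfg

end Cfsg.Agent.M11ThreeLocal
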