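import Cfsg.Agent.M11ThreeLocal.LargeBase

/-!
# The second centre of a large radical
-/

set_option autoImplicit false
set_option linter.unusedSectionVars false
set_option synthInstance.maxSize 1000

namespace Cfsg.Agent.M11ThreeLocal

open Subgroup

theorem Md.swap_f : ∃ p : S6, p * Md.u * p⁻¹ = Md.s ∧ p * (Md.a2 * Md.t) * p⁻¹ = Md.f := by decide +kernel

theorem Md.u_eq : Md.z * Md.f = Md.u := by decide +kernel

/-- Elements moved at most by the central involution. -/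
def Sec {G : Type*} [Group G] (s : G) (R : Subgroup G) (r : G) : Prop :=
  r ∈ R ∧ ∀ x ∈ R, cj x r = r ∨ cj x r = r * s

variable {G : Type*} [Group G] [Finite G]

theorem Sec.mul {s : G} {R : Subgroup G} (hc : Core s R) {r r' : G} (h : Sec s R r) (h' : Sec s R r') :
    Sec s R (r * r') := by
  refine ⟨mul_mem h.1 h'.1, fun x hx => ?_⟩
  have hs := (hc.le r' h'.1).eq
  rcases h.2 x hx with e1 | e1 <;> rcases h'.2 x hx with e2 | e2 <;> rw [cj_mul, e1, e2]
  · exact Or.inl rfl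
  · exact Or.inr (mul_assoc r r' s).symm
  · exact Or.inr (by rw [mul_assoc r s, hs, mul_assoc])
  · left
    rw [mul_assoc r s, ← mul_assoc s r' s, hs, mul_assoc r' s s, hc.sq, mul_one]

theorem Sec.norm {s : G} {R : Subgroup G} (hc : Core s R) {r g : G} (hg : Commute s g) (h : Sec s R r) :
    Sec s R (cj g r) := by
  refine ⟨hc.norm g hg r h.1, fun x hx => ?_⟩
  have h1 : cj x (cj g r) = cj g (cj (cj g⁻¹ x) r) := by simp only [cj]; group
  rw [h1]
  rcases h.2 _ (hc.norm g⁻¹ hg.inv_right x hx) with e' | e' <;> rw [e']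
  · exact Or.inl rfl
  · exact Or.inr (by rw [cj_mul, cj_of_commute hg.symm])

variable {M : Subgroup G} {e h s t z a : G} {R O : Subgroup G}

namespace Cfg

variable (H : Cfg M e h s t z a)

include H

theorem sec_sq (hT : TI s R O) (h32 : 32 ≤ Nat.card R) {r : G} (h : Sec s R r) : r * r = 1 ∨ r * r = s := by
  refine H.center_R hT h32 (mul_mem h.1 h.1) fun x hx => (commute_of_cj ?_).symm
  rcases h.2 x hx with e' | e' <;> rw [cj_mul, e']
  rw [(hT.core.le r h.1).mul_mul_mul_comm, H.s_sq, mul_one]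

/-- The signs attached to a central element of the second centre. -/
theorem sec_sign (hT : TI s R O) (h32 : 32 ≤ Nat.card R) {r : G} (h : Sec s R r)
    (ht : cj t r = r ∨ cj t r = r * s) :
    cj t r = r * (r * r) ∧ cj (cj e r) r = r * (r * r) := by
  have hR := hT.rad
  obtain ⟨r1, hr1⟩ : ∃ x, x = cj e r := ⟨_, rfl⟩
  obtain ⟨r2, hr2⟩ : ∃ x, x = cj e r1 := ⟨_, rfl⟩
  have h1 : Sec s R r1 := hr1 ▸ h.norm hT.core H.se
  have h2 : Sec s R r2 := hr2 ▸ h1.norm hT.core H.se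
  obtain ⟨ν, hν, hν'⟩ : ∃ ν, (ν = 1 ∨ ν = s) ∧ r * r = ν := ⟨_, H.sec_sq hT h32 h, rfl⟩
  obtain ⟨κ, hκ, hκ'⟩ : ∃ κ, (κ = 1 ∨ κ = s) ∧ cj r1 r = r * κ :=
    (h.2 r1 h1.1).elim (fun e' => ⟨1, Or.inl rfl, by rw [e', mul_one]⟩) fun e' => ⟨s, Or.inr rfl, e'⟩
  obtain ⟨ε, hε, hε'⟩ : ∃ ε, (ε = 1 ∨ ε = s) ∧ cj t r = r * ε :=
    ht.elim (fun e' => ⟨1, Or.inl rfl, by rw [e', mul_one]⟩) fun e' => ⟨s, Or.inr rfl, e'⟩
  obtain ⟨σ, hσ, hσ'⟩ : ∃ σ, (σ = 1 ∨ σ = s) ∧ r * r1 * r2 = σ := by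
    refine ⟨_, (mem_zpowers_invol H.s_sq).1 ?_, rfl⟩
    rw [hr2, hr1]
    exact ((H.bundle hR.core H.e3 H.e_ne H.se).1 r h.1).1
  have cs : ∀ {c : G}, (c = 1 ∨ c = s) → ∀ {x : G}, x ∈ R → Commute c x := by
    intro c hc x hx
    rcases hc with e' | e' <;> rw [e']
    exacts [Commute.one_left x, hR.core.le x hx]
  have hfixe : cj e ν = ν := (H.sig hν).2.2.2.1 e H.se
  have hν1 : r1 * r1 = ν := by rw [hr1, ← cj_mul, hν', hfixe]
  have hν2 : r2 * r2 = ν := by rw [hr2, ← cj_mul, hν1, hfixe]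
  have hcomm : r1 * r = r * r1 * κ := by
    have h3 : r1 * r = r * κ * r1 := by rw [← hκ', cj, inv_mul_cancel_right]
    rw [h3, mul_assoc, (cs hκ h1.1).eq, ← mul_assoc]
  have hκν : κ = ν := by
    have e1 : r2 = (r * r1)⁻¹ * σ := by rw [← hσ', inv_mul_cancel_left]
    have e2 : (r * r1) * (r * r1) = κ := by
      calc (r * r1) * (r * r1) = r * (r1 * r) * r1 := by simp only [mul_assoc]
        _ = r * r * (r1 * r1) * κ := by rw [hcomm]; simp only [mul_assoc]; rw [(cs hκ h1.1).eq]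
        _ = κ := by rw [hν', hν1, (H.sig hν).1, one_mul]
    have e3 : r2 * r2 = κ⁻¹ := by
      rw [e1, (cs hσ (inv_mem (mul_mem h.1 h1.1))).mul_mul_mul_comm, (H.sig hσ).1, mul_one, ← mul_inv_rev, e2]
    rw [← hν2, e3, (H.sig hκ).2.2.2.2]
  have hεν : ε = ν := by
    have e1 : cj t r1 = r2 * ε := by
      rw [hr1, H.cj_t_cj_e, hε', cj_mul, H.cj_e_inv r, ← hr1, ← hr2,
        (H.sig hε).2.2.2.1 e⁻¹ H.se.inv_right]
    have e2 : cj t r2 = r1 * ε := by
      have e3 := congrArg (cj t) e1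
      rw [cj_cj t t, H.tt, cj_one', cj_mul, (H.sig hε).2.2.1] at e3
      rw [e3, mul_assoc, (H.sig hε).1, mul_one]
    have e4 := congrArg (cj t) hσ'
    rw [cj_mul, cj_mul, hε', e1, e2, (H.sig hσ).2.2.1] at e4
    have e5 : r * r2 * r1 * ε = σ := by
      rw [← e4]
      simp only [mul_assoc]
      rw [← mul_assoc ε r2, (cs hε h2.1).eq, mul_assoc r2 ε, ← mul_assoc ε ε, (H.sig hε).1, one_mul]
    rw [← hσ'] at e5
    simp only [mul_assoc] at e5
    have e6 : r2 * (r1 * ε) = r1 * r2 := mul_left_cancel e5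
    have e7 : r2 * r1 = r1 * r2 * κ := by
      have := congrArg (cj e) hcomm
      rwa [cj_mul, cj_mul, cj_mul, ← hr2, ← hr1, (H.sig hκ).2.2.2.1 e H.se] at this
    rw [← mul_assoc, e7, mul_assoc (r1 * r2)] at e6
    have e8 : κ * ε = 1 := mul_eq_left.1 e6
    rw [← hκν, ← inv_inv ε, ← eq_inv_of_mul_eq_one_left e8, (H.sig hκ).2.2.2.2]
  rw [hν', ← hr1]
  exact ⟨by rw [hε', hεν], by rw [hκ', hκν]⟩

/-- A `t`-invariant subgroup has a second central element fixed by `t` modulo the centre. -/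
theorem exists_sec_in (hR : Rad s R) {C : Subgroup G} (hC : C ≤ R) (hsC : s ∈ C) (htC : ∀ x ∈ C, cj t x ∈ C)
    (hne : ∃ x ∈ C, x ∉ zpowers s)
    (hsq : ∀ r ∈ C, (∀ x ∈ C, cj x r = r ∨ cj x r = r * s) → r * r ∈ zpowers s) :
    ∃ r ∈ C, r ∉ zpowers s ∧ (∀ x ∈ C, cj x r = r ∨ cj x r = r * s) ∧ (cj t r = r ∨ cj t r = r * s) := by
  classical
  haveI : Fact (Nat.Prime 2) := ⟨Nat.prime_two⟩
  haveI hN : ((zpowers s).subgroupOf C).Normal := ⟨fun n hn g => by
    rw [mem_subgroupOf, mem_zpowers_invol H.s_sq] at hn ⊢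
    rcases hn with e' | e' <;> simp only [coe_mul, InvMemClass.coe_inv, e', mul_one, mul_inv_cancel, true_or]
    right
    rw [← (hR.core.le _ (hC g.2)).eq, mul_inv_cancel_right]⟩
  haveI : Nontrivial (C ⧸ (zpowers s).subgroupOf C) := by
    obtain ⟨x, hx, hxn⟩ := hne
    exact nontrivial_of_ne (QuotientGroup.mk (⟨x, hx⟩ : C)) 1 fun h0 =>
      hxn (mem_subgroupOf.1 ((QuotientGroup.eq_one_iff _).1 h0))
  haveI := ((hR.core.two.to_le hC).to_quotient ((zpowers s).subgroupOf C)).center_nontrivial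
  obtain ⟨⟨q, hq⟩, hq1⟩ := exists_ne (1 : center (C ⧸ (zpowers s).subgroupOf C))
  obtain ⟨⟨r, hr⟩, hrq⟩ := QuotientGroup.mk'_surjective _ q
  have hrn : r ∉ zpowers s := fun h0 => hq1 (Subtype.ext (show q = 1 by
    rw [← hrq]; exact (QuotientGroup.eq_one_iff _).2 (mem_subgroupOf.2 h0)))
  have hPr : ∀ x ∈ C, cj x r = r ∨ cj x r = r * s := fun x hx => by
    have h1 := mem_center_iff.1 hq (QuotientGroup.mk' _ ⟨x, hx⟩)
    rw [← hrq, ← map_mul, ← map_mul, QuotientGroup.mk'_apply, QuotientGroup.mk'_apply, QuotientGroup.eq,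
      mem_subgroupOf, mem_zpowers_invol H.s_sq] at h1
    simp only [coe_mul, InvMemClass.coe_inv] at h1
    rcases h1 with e' | e'
    · left
      rw [cj, inv_mul_eq_one.1 e', mul_inv_cancel_right]
    · right
      rw [inv_mul_eq_iff_eq_mul] at e'
      calc cj x r = x * r * (s * s) * x⁻¹ := by rw [H.s_sq, mul_one]; rfl
        _ = r * x * (s * x⁻¹) := by rw [← mul_assoc (x * r), ← e', mul_assoc]
        _ = r * s := by rw [(hR.core.le _ (inv_mem (hC hx))).eq, mul_assoc, mul_inv_cancel_left]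
  have hr2 := hsq r hr hPr
  have hrt := htC r hr
  by_cases h2 : r * cj t r ∈ zpowers s
  · refine ⟨r, hr, hrn, hPr, ?_⟩
    rcases (mem_zpowers_invol H.s_sq).1 hr2 with e1 | e1 <;>
      rcases (mem_zpowers_invol H.s_sq).1 h2 with e2 | e2
    · exact Or.inl (mul_left_cancel (e2.trans e1.symm))
    · right
      exact mul_left_cancel (a := r) (by rw [e2, ← mul_assoc, e1, one_mul])
    · right
      exact mul_left_cancel (a := r) (by rw [e2, ← mul_assoc, e1, H.s_sq])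
    · exact Or.inl (mul_left_cancel (e2.trans e1.symm))
  · refine ⟨r * cj t r, mul_mem hr hrt, h2, fun x hx => ?_, ?_⟩
    · have h3 : cj x (cj t r) = cj t r ∨ cj x (cj t r) = cj t r * s := by
        have h4 : cj x (cj t r) = cj t (cj (cj t x) r) := by
          rw [cj_cj, cj_cj]
          congr 1
          rw [cj, inv_of_sq H.tt, ← mul_assoc, ← mul_assoc, H.tt, one_mul]
        rw [h4]
        rcases hPr _ (htC x hx) with e' | e' <;> rw [e']
        · exact Or.inl rfl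
        · exact Or.inr (by rw [cj_mul, cj_of_commute H.ts_comm])
      have hs' := (hR.core.le _ (hC hrt)).eq
      rcases hPr x hx with e1 | e1 <;> rcases h3 with e2 | e2 <;> rw [cj_mul, e1, e2]
      · exact Or.inl rfl
      · exact Or.inr (mul_assoc _ _ _).symm
      · exact Or.inr (by rw [mul_assoc r s, hs', mul_assoc])
      · left
        rw [mul_assoc r s, ← mul_assoc s (cj t r) s, hs', mul_assoc (cj t r) s s, H.s_sq, mul_one]
    · rw [cj_mul, cj_cj t t, H.tt, cj_one']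
      rcases hPr _ hrt with e' | e'
      · left
        rw [cj, mul_inv_eq_iff_eq_mul] at e'
        exact e'
      · right
        rw [cj, mul_inv_eq_iff_eq_mul] at e'
        rw [e', mul_assoc, (hR.core.le _ (hC hrt)).eq, ← mul_assoc]

/-- An involution of the second centre fixed by `t`. -/
theorem exists_invol_sec (hT : TI s R O) (h32 : 32 ≤ Nat.card R) :
    ∃ q, Sec s R q ∧ q * q = 1 ∧ q ≠ 1 ∧ q ≠ s ∧ Commute t q := by
  classical
  have hR := hT.rad
  have hzs : Nat.card (zpowers s) = 2 := by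
    rw [Nat.card_zpowers]
    exact orderOf_eq_prime (hp := ⟨Nat.prime_two⟩) (by rw [sq, H.s_sq]) H.s_ne
  obtain ⟨r, hrR, hrn, hP, hrt⟩ := H.exists_sec_in hR (le_refl R) hR.core.mem
    (fun x hx => hR.core.norm t H.ts_comm.symm x hx) (by
      by_contra hc
      push Not at hc
      have := card_le_of_le (show R ≤ zpowers s from hc)
      omega)
    fun r hr hP => (mem_zpowers_invol H.s_sq).2 (H.sec_sq hT h32 ⟨hr, hP⟩)
  have hS : Sec s R r := ⟨hrR, hP⟩
  rw [mem_zpowers_invol H.s_sq, not_or] at hrn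
  obtain ⟨hε, hκ⟩ := H.sec_sign hT h32 hS hrt
  rcases H.sec_sq hT h32 hS with hν | hν
  · rw [hν, mul_one] at hε
    exact ⟨r, hS, hν, hrn.1, hrn.2, commute_of_cj hε⟩
  rw [hν] at hε hκ
  -- the complement of the quaternion group generated by `r`
  obtain ⟨r1, hr1⟩ : ∃ x, x = cj e r := ⟨_, rfl⟩
  rw [← hr1] at hκ
  have hS1 : Sec s R r1 := hr1 ▸ hS.norm hT.core H.se
  obtain ⟨C, hC⟩ : ∃ C, C = R ⊓ centralizer ({r} : Set G) ⊓ centralizer ({r1} : Set G) := ⟨_, rfl⟩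
  have hCmem : ∀ {x : G}, x ∈ C ↔ x ∈ R ∧ Commute r x ∧ Commute r1 x := fun {x} => by
    rw [hC, mem_inf, mem_inf, mem_L, mem_L, and_assoc]
  have hsC : s ∈ C := hCmem.2 ⟨hR.core.mem, (hR.core.le r hrR).symm, (hR.core.le r1 hS1.1).symm⟩
  have htC : ∀ x ∈ C, cj t x ∈ C := fun x hx => by
    obtain ⟨hxR, c1, c2⟩ := hCmem.1 hx
    have hxt := hR.core.norm t H.ts_comm.symm x hxR
    obtain ⟨σ, hσ, hσ'⟩ : ∃ σ, (σ = 1 ∨ σ = s) ∧ r * r1 * cj e r1 = σ := by
      refine ⟨_, (mem_zpowers_invol H.s_sq).1 ?_, rfl⟩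
      rw [hr1]
      exact ((H.bundle hR.core H.e3 H.e_ne H.se).1 r hrR).1
    have c3 : Commute (cj e r1) x := by
      rw [show cj e r1 = (r * r1)⁻¹ * σ by rw [← hσ', inv_mul_cancel_left]]
      refine (c1.mul_left c2).inv_left.mul_left ?_
      rcases hσ with e' | e' <;> rw [e']
      exacts [Commute.one_left x, hR.core.le x hxR]
    refine hCmem.2 ⟨hxt, ?_, ?_⟩
    · have h1 := cj_commute t (c1.mul_left (hR.core.le x hxR))
      rwa [cj_mul, hε, cj_of_commute H.ts_comm, mul_assoc, H.s_sq, mul_one] at h1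
    · have e3 : cj t (cj e r1) = r1 * s := by
        rw [hr1, ← H.cj_e_inv, show cj t (cj e⁻¹ r) = cj e (cj t r) by
          rw [cj_cj, cj_cj]
          congr 1
          calc t * e⁻¹ = cj t e⁻¹ * t := by rw [cj, inv_mul_cancel_right]
            _ = e * t := by rw [cj_inv, H.te, inv_inv], hε, cj_mul, cj_of_commute H.se.symm]
      have h1 := cj_commute t (c3.mul_left (hR.core.le x hxR))
      rwa [cj_mul, e3, cj_of_commute H.ts_comm, mul_assoc, H.s_sq, mul_one] at h1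
  have hκ1 : cj r r1 = r1 * s := by
    have h1 : r1 * r = r * s * r1 := by rw [← hκ, cj, inv_mul_cancel_right]
    rw [cj, mul_inv_eq_iff_eq_mul, mul_assoc, (hR.core.le r hrR).eq, ← mul_assoc, h1, mul_assoc r s,
      (hR.core.le r1 hS1.1).eq, mul_assoc, mul_assoc, H.s_sq, mul_one]
  have hcover : ∀ x ∈ R, ∃ i j : Bool, x * ((if i then r else 1) * (if j then r1 else 1)) ∈ C := by
    intro x hx
    have back : ∀ u, u ∈ R → (cj x u = u ∨ cj x u = u * s) → cj x (cj x u) = u := by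
      intro u hu hcase
      rcases hcase with e' | e' <;> rw [e']
      · exact e'
      · rw [cj_mul, e', cj_of_commute (hR.core.le x hx).symm, mul_assoc, H.s_sq, mul_one]
    have mk : ∀ p, p ∈ R → cj p r = cj x r → cj p r1 = cj x r1 → x * p ∈ C := fun p hp p1 p2 =>
      hCmem.2 ⟨mul_mem hx hp, (commute_of_cj (by rw [← cj_cj, p1, back r hrR (hP x hx)])).symm,
        (commute_of_cj (by rw [← cj_cj, p2, back r1 hS1.1 (hS1.2 x hx)])).symm⟩
    have hr1r1 : cj r1 r1 = r1 := cj_of_commute (Commute.refl r1)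
    have hrr : cj r r = r := cj_of_commute (Commute.refl r)
    have hrs : cj r s = s := cj_of_commute (hR.core.le r hrR).symm
    rcases hP x hx with e1 | e1 <;> rcases hS1.2 x hx with e2 | e2
    · exact ⟨false, false, mk _ (by simp [one_mem]) (by simp [cj_one', e1]) (by simp [cj_one', e2])⟩
    · exact ⟨true, false, mk _ (by simp [hrR]) (by simp [hrr, e1]) (by simp [hκ1, e2])⟩
    · exact ⟨false, true, mk _ (by simp [hS1.1]) (by simp [hκ, e1]) (by simp [hr1r1, e2])⟩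
    · exact ⟨true, true, mk _ (by simp [mul_mem hrR hS1.1])
        (by simp [← cj_cj, hκ, e1, cj_mul, hrr, hrs]) (by simp [← cj_cj, hr1r1, hκ1, e2])⟩
  choose I J hIJ using hcover
  let F : R → Bool × Bool × C := fun x => (I x x.2, J x x.2, ⟨_, hIJ x x.2⟩)
  have hF : Function.Injective F := by
    intro x y hxy
    simp only [F, Prod.mk.injEq, Subtype.mk.injEq] at hxy
    obtain ⟨h1, h2, h3⟩ := hxy
    rw [h1, h2] at h3
    exact Subtype.ext (mul_right_cancel h3)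
  have hC8 : Nat.card R ≤ 4 * Nat.card C := by
    have h1 := Nat.card_le_card_of_injective F hF
    rw [Nat.card_prod, Nat.card_prod] at h1
    simpa [← mul_assoc] using h1
  have hSec : ∀ r' ∈ C, (∀ x ∈ C, cj x r' = r' ∨ cj x r' = r' * s) → Sec s R r' := fun r' hr' hP' => by
    refine ⟨(hCmem.1 hr').1, fun x hx => ?_⟩
    obtain ⟨-, c1, c2⟩ := hCmem.1 hr'
    have hpc : Commute ((if I x hx then r else 1) * (if J x hx then r1 else 1)) r' := by
      refine Commute.mul_left ?_ ?_ <;> split <;>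
        first | exact c1 | exact c2 | exact Commute.one_left r'
    have h1 := hP' _ (hIJ x hx)
    rwa [← cj_cj, cj_of_commute hpc] at h1
  obtain ⟨r', hr', hr'n, hP', hr't⟩ := H.exists_sec_in hR (fun x hx => (hCmem.1 hx).1) hsC htC (by
      by_contra hc
      push Not at hc
      have := card_le_of_le (show C ≤ zpowers s from hc)
      omega)
    fun x hx hx' => (mem_zpowers_invol H.s_sq).2 (H.sec_sq hT h32 (hSec x hx hx'))
  have hS' := hSec r' hr' hP'
  obtain ⟨hε2, -⟩ := H.sec_sign hT h32 hS' hr't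
  rw [mem_zpowers_invol H.s_sq, not_or] at hr'n
  rcases H.sec_sq hT h32 hS' with hν' | hν'
  · rw [hν', mul_one] at hε2
    exact ⟨r', hS', hν', hr'n.1, hr'n.2, commute_of_cj hε2⟩
  · rw [hν'] at hε2
    have c1 := (hCmem.1 hr').2.1
    have hne : ∀ σ, σ ∈ C → r * r' ≠ σ := fun σ hσ h0 => by
      have hrC : r ∈ C := by rw [eq_mul_inv_of_mul_eq h0]; exact mul_mem hσ (inv_mem hr')
      have h1 := cj_of_commute (hCmem.1 hrC).2.2
      rw [hκ] at h1
      exact H.s_ne (mul_eq_left.1 h1)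
    refine ⟨r * r', hS.mul hT.core hS', ?_, hne 1 (one_mem C), hne s hsC, commute_of_cj ?_⟩
    · rw [c1.symm.mul_mul_mul_comm, hν, hν', H.s_sq]
    · rw [cj_mul, hε, hε2, (hR.core.le r' (hCmem.1 hr').1).mul_mul_mul_comm, H.s_sq, mul_one]

/-- The distinguished involution of `D`. -/
theorem exists_f (hT : TI s R O) (h32 : 32 ≤ Nat.card R) :
    ∃ f, Iv s t e h f ∧ Sec s R f ∧ f ≠ s ∧ ∀ x ∈ Dg a R, Commute f x := by
  have hR := hT.rad
  obtain ⟨r, hS, hrr, hr1, hrs, htr⟩ := H.exists_invol_sec hT h32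
  have hcom : ∀ q, Sec s R q → q ∈ Dg a R → ∀ x ∈ Dg a R, Commute q x := fun q hq hqD x hx => by
    refine (commute_of_cj ((hq.2 x hx.1).resolve_right fun h0 => H.s_notMemD hR ?_)).symm
    have h1 : q⁻¹ * cj x q = s := by rw [h0, inv_mul_cancel_left]
    exact h1 ▸ mul_mem (inv_mem hqD) (mul_mem (mul_mem hx hqD) (inv_mem hx))
  have hsec : Sec s R s := ⟨hR.core.mem, fun x hx => Or.inl (cj_of_commute (hR.core.le x hx).symm)⟩
  obtain ⟨q, hqD, hSq, hqq, hq1⟩ : ∃ q ∈ Dg a R, Sec s R q ∧ q * q = 1 ∧ q ≠ 1 :=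
    (H.Dt_cases hT (mem_Dt.2 ⟨hS.1, htr⟩)).elim (fun h1 => ⟨r, h1, hS, hrr, hr1⟩) fun h1 =>
      ⟨s * r, h1, hsec.mul hT.core hS, by rw [(hR.core.le r hS.1).symm.mul_mul_mul_comm, H.s_sq, hrr, one_mul],
        fun h0 => hrs (by rw [eq_inv_of_mul_eq_one_right h0, inv_of_sq H.s_sq])⟩
  obtain ⟨hg, -⟩ := H.D_a2 hR hqD
  obtain ⟨w, hw, hwr⟩ : ∃ w, w = cj (a ^ 2) q ∧ w ∈ R := ⟨_, rfl, hg.1⟩
  have hfix : cj (a ^ 2) q = q := by
    refine H.mixed hR hqD hqq (hcom q hSq hqD _ hg) ?_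
    rw [← hw]
    have h1 : w * cj e q * (cj e q * w)⁻¹ = cj w (cj e q) * (cj e q)⁻¹ := by simp only [cj]; group
    rw [h1, mem_zpowers_invol H.s_sq]
    rcases (hSq.norm hT.core H.se).2 w hwr with e' | e' <;> rw [e']
    · exact Or.inl (mul_inv_cancel _)
    · right
      rw [← (hR.core.le _ (hR.core.norm e H.se q hSq.1)).eq, mul_inv_cancel_right]
  exact ⟨q, H.fixed_iv hR hqD hqq hq1 hfix, hSq, fun h0 => H.s_notMemD hR (h0 ▸ hqD), hcom q hSq hqD⟩

/-- The centraliser of `f` in the radical has index two. -/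
theorem card_cent_f (hT : TI s R O) (h32 : 32 ≤ Nat.card R) {f : G} (hS : Sec s R f) (hf1 : f ≠ 1)
    (hfs : f ≠ s) : 2 * Nat.card (R ⊓ centralizer ({f} : Set G) : Subgroup G) = Nat.card R := by
  have h1 : Nat.card R ≤ 2 * Nat.card (R ⊓ centralizer ({f} : Set G) : Subgroup G) :=
    card_le_two_mul fun x hx y hy hxC hyC => by
      have key : ∀ {u : G}, u ∈ R → u ∉ R ⊓ centralizer ({f} : Set G) → cj u f = f * s := fun hu hn =>
        (hS.2 _ hu).resolve_left fun h0 => hn ⟨hu, mem_L.2 (commute_of_cj h0).symm⟩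
      refine ⟨mul_mem hx hy, mem_L.2 (commute_of_cj ?_).symm⟩
      rw [← cj_cj, key hy hyC, cj_mul, key hx hxC, cj_of_commute (hT.core.le x hx).symm, mul_assoc, H.s_sq,
        mul_one]
  have h2 : Nat.card (R ⊓ centralizer ({f} : Set G) : Subgroup G) < Nat.card R := by
    refine lt_of_le_of_ne (card_le_of_le inf_le_left) fun h0 => ?_
    have h3 := eq_of_le_of_card_ge (inf_le_left : R ⊓ centralizer ({f} : Set G) ≤ R) h0.ge
    refine (H.center_R hT h32 hS.1 fun x hx => ?_).elim hf1 hfs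
    rw [← h3] at hx
    exact mem_L.1 hx.2
  obtain ⟨c, hc⟩ := card_dvd_of_le (inf_le_left : R ⊓ centralizer ({f} : Set G) ≤ R)
  obtain ⟨N, hN⟩ : ∃ N, N = Nat.card (R ⊓ centralizer ({f} : Set G) : Subgroup G) := ⟨_, rfl⟩
  rw [← hN] at h1 h2 hc ⊢
  have hc2 : c = 2 := by
    rcases Nat.lt_or_ge c 2 with h4 | h4
    · interval_cases c <;> omega
    · rcases Nat.lt_or_ge c 3 with h5 | h5
      · omega
      · have := Nat.mul_le_mul_left N h5
        have hpos : 0 < N := by rw [hN]; exact Nat.card_pos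
        omega
  subst hc2
  omega

/-- An element exchanging `f` and `s`. -/
theorem exists_swap (hR : Rad s R) {f : G} (hf : Iv s t e h f) (hc : ∀ x ∈ Dg a R, Commute f x) :
    ∃ c, cj c s = f ∧ cj c f = s := by
  obtain ⟨φ, hφ⟩ := H.exists_psi hf
  obtain ⟨p, hp1, hp2⟩ := Md.swap_f
  refine ⟨φ p * a, ?_, ?_⟩
  · rw [← cj_cj, H.cja_s, ← hφ.a2, ← hφ.t, cj, ← map_inv, ← map_mul, ← map_mul, ← map_mul, hp2, hφ.f]
  · rw [← cj_cj, H.cja_f hR hf hc, ← hφ.z, ← hφ.f, cj, ← map_inv, ← map_mul, ← map_mul, ← map_mul,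
      Md.u_eq, hp1, hφ.s]

/-- The joint centraliser of `s` and `t` in the radical at `f`. -/
abbrev Cst (s t : G) (Rf : Subgroup G) : Subgroup G :=
  Rf ⊓ centralizer ({s} : Set G) ⊓ centralizer ({t} : Set G)

/-- The basic data of the radical at `f`. -/
theorem radF (hT : TI s R O) (h32 : 32 ≤ Nat.card R) {f : G} (hf : Iv s t e h f) (hS : Sec s R f)
    (hfs : f ≠ s) (hc : ∀ x ∈ Dg a R, Commute f x) :
    ∃ Rf Of : Subgroup G, TI f Rf Of ∧ Nat.card Rf = Nat.card R ∧ Nat.card Of = Nat.card O ∧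
      s ∈ Rf ∧ t ∈ Rf ∧ (∀ x ∈ Rf, cj x s = s ∨ cj x s = s * f) ∧
      Nat.card R ≤ 4 * Nat.card (Cst s t Rf) ∧
      Nat.card (Cst s t Rf) ≤ 2 * Nat.card (Cst s t Rf ⊓ R : Subgroup G) ∧ Cst s t Rf ⊓ R ≤ Dt t R := by
  classical
  have hR := hT.rad
  obtain ⟨-, hf1⟩ := H.iv_mem hR hf
  obtain ⟨c, hcs, hcf⟩ := H.exists_swap hR hf hc
  have hTf0 := hT.map c
  rw [hcs] at hTf0
  obtain ⟨Rf, hRf⟩ : ∃ Rf, Rf = R.map (MulAut.conj c).toMonoidHom := ⟨_, rfl⟩
  rw [← hRf] at hTf0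
  refine ⟨Rf, _, hTf0, ?_⟩
  obtain ⟨hsRf, htRf⟩ := H.st_mem hf hTf0.rad
  have hcf' : cj c⁻¹ s = f := by rw [← hcf, cj_inv_cj]
  have hruleS : ∀ x ∈ Rf, cj x s = s ∨ cj x s = s * f := fun x hx => by
    rw [hRf, mem_map_cj] at hx
    have h1 : cj x s = cj c (cj (cj c⁻¹ x) (cj c⁻¹ s)) := by simp only [cj]; group
    rw [h1, hcf']
    rcases hS.2 _ hx with e' | e' <;> rw [e']
    · exact Or.inl hcf
    · right; rw [cj_mul, hcf, hcs]
  obtain ⟨φ, hφ⟩ := H.exists_psi hf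
  obtain ⟨p, hpf, hps⟩ : ∃ p, Commute f p ∧ cj p s = t := by
    obtain ⟨-, r1, -, -, -, r2, -⟩ := Md.rev_facts
    refine ⟨φ Md.rev, ?_, ?_⟩
    · refine (commute_of_cj ?_).symm
      rw [← hφ.f, cj, ← map_inv, ← map_mul, ← map_mul, r2]
    · rw [← hφ.s, cj, ← map_inv, ← map_mul, ← map_mul, r1, hφ.t]
  have hruleT : ∀ x ∈ Rf, cj x t = t ∨ cj x t = t * f := fun x hx => by
    have h1 : cj x t = cj p (cj (cj p⁻¹ x) s) := by rw [← hps]; simp only [cj]; group
    rw [h1]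
    rcases hruleS _ (hTf0.core.norm p⁻¹ hpf.inv_right x hx) with e' | e' <;> rw [e']
    · exact Or.inl hps
    · right; rw [cj_mul, hps, cj_of_commute hpf.symm]
  have hA : Nat.card (Rf ⊓ centralizer ({s} : Set G) : Subgroup G) =
      Nat.card (R ⊓ centralizer ({f} : Set G) : Subgroup G) := by
    have h1 : (R ⊓ centralizer ({f} : Set G)).map (MulAut.conj c).toMonoidHom =
        Rf ⊓ centralizer ({s} : Set G) := by
      ext x
      rw [mem_map_cj, mem_inf, mem_inf, hRf, mem_map_cj, mem_L, mem_L]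
      refine and_congr_right fun _ => ⟨fun hh => ?_, fun hh => ?_⟩
      · have h2 := cj_commute c hh
        rwa [hcf, cj_cj_inv] at h2
      · have h2 := cj_commute c⁻¹ hh
        rwa [hcf'] at h2
    rw [← h1, card_map_of_injective (MulAut.conj c).injective]
  have hB : Nat.card (Rf ⊓ centralizer ({s} : Set G) : Subgroup G) ≤ 2 * Nat.card (Cst s t Rf) :=
    card_le_two_mul fun x hx y hy hxC hyC => by
      have key : ∀ {u : G}, u ∈ Rf ⊓ centralizer ({s} : Set G) → u ∉ Cst s t Rf → cj u t = t * f :=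
        fun hu hn => (hruleT _ hu.1).resolve_left fun h0 => hn ⟨hu, mem_L.2 (commute_of_cj h0).symm⟩
      refine ⟨mul_mem hx hy, mem_L.2 (commute_of_cj ?_).symm⟩
      rw [← cj_cj, key hy hyC, cj_mul, key hx hxC, cj_of_commute (hTf0.core.le x hx.1).symm, mul_assoc,
        hTf0.core.sq, mul_one]
  refine ⟨hRf ▸ card_map_of_injective (MulAut.conj c).injective,
    card_map_of_injective (MulAut.conj c).injective, hsRf, htRf, hruleS, ?_, ?_, ?_⟩
  · have h2 := H.card_cent_f hT h32 hS hf1 hfs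
    rw [hA] at hB
    omega
  · exact hT.card_two_sub (hTf0.core.two.to_le (inf_le_left.trans inf_le_left)) fun x hx => mem_L.1 hx.1.2
  · exact fun x hx => mem_Dt.2 ⟨hx.2, mem_L.1 hx.1.2⟩

/-- Only two orders remain for a large radical. -/
theorem large_cases (hT : TI s R O) (h32 : 32 ≤ Nat.card R) : Nat.card R = 32 ∨ Nat.card R = 128 := by
  obtain ⟨f, hf, hS, hfs, hc⟩ := H.exists_f hT h32
  obtain ⟨Rf, Of, -, -, -, -, -, -, h1, h2, h3⟩ := H.radF hT h32 hf hS hfs hc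
  have h4 := card_le_of_le h3
  have h5 := card_le_of_le (H.Dt_le_W hT.rad)
  obtain ⟨k, hk1, hk2, -⟩ := H.sizes hT.rad
  have hk4 : (4 : ℕ) ^ k = 2 ^ k * 2 ^ k := by rw [← mul_pow]; norm_num
  have hk3 : k ≤ 3 := by
    by_contra h6
    have h7 : 16 * 2 ^ k ≤ 2 ^ k * 2 ^ k :=
      Nat.mul_le_mul_right _ (le_trans (by norm_num) (Nat.pow_le_pow_right two_pos (show 4 ≤ k by omega)))
    have hpos : 0 < 2 ^ k := Nat.two_pow_pos k
    omega
  interval_cases k <;> simp at hk1 <;> omega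

end Cfg

end Cfsg.Agent.M11ThreeLocal
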