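import Cfsg.Agent.M11ThreeLocal.LargeK

/-!
# A radical of order 128 does not occur
-/

set_option autoImplicit false
set_option linter.unusedSectionVars false
set_option synthInstance.maxSize 2000

namespace Cfsg.Agent.M11ThreeLocal

open Subgroup

/-- The elementary group of order eight in the model. -/
def Md.E8 : Fin 8 → S6 := ![1, Md.s, Md.t, Md.z, Md.f, Md.s * Md.f, Md.t * Md.f, Md.z * Md.f]

theorem Md.E8_mul : ∀ i j : Fin 8, ∃ k : Fin 8, Md.E8 i * Md.E8 j = Md.E8 k := by decide +kernel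

theorem Md.E8_sq : ∀ i : Fin 8, Md.E8 i * Md.E8 i = 1 := by decide +kernel

theorem Md.E8_d : ∀ i : Fin 8, ∃ j : Fin 8, Md.d6 * Md.E8 i * Md.d6⁻¹ = Md.E8 j := by decide +kernel

theorem Md.E8_inj : ∀ i j : Fin 8, Md.E8 i = Md.E8 j → i = j := by decide +kernel

theorem Md.d6_conj : Md.d6⁻¹ * Md.s * Md.d6 = Md.t ∧ Md.d6⁻¹ * Md.t * Md.d6 = Md.z * Md.f := by
  decide +kernel

variable {G : Type*} [Group G] [Finite G] {M : Subgroup G} {e h s t z a : G} {R O : Subgroup G}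

namespace Cfg

variable (H : Cfg M e h s t z a)

include H

/-- The squares in `D` outside `{1, f}` are equal to `1` or to `f`. -/
theorem three_squares (hT : TI s R O) (h128 : Nat.card R = 128) {f : G} (hf : Iv s t e h f)
    (hS : Sec s R f) (hfs : f ≠ s) (hc : ∀ x ∈ Dg a R, Commute f x) :
    Nat.card (Dg a R) = 8 ∧
      ∃ σ, (σ = 1 ∨ σ = f) ∧ ∀ x ∈ Dg a R, x ≠ 1 → x ≠ f → x * x = σ := by
  classical
  have hR := hT.rad
  have h32 : 32 ≤ Nat.card R := by omega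
  obtain ⟨hfD, hf1⟩ := H.iv_mem hR hf
  obtain ⟨Rf, Of, hTf, hcard, -, hsRf, htRf, -, b1, b2, b3⟩ := H.radF hT h32 hf hS hfs hc
  obtain ⟨k, k1, k2, k3⟩ := H.sizes hR
  have hk : k = 3 := by
    have : 4 ^ k = 4 ^ 3 := by omega
    exact Nat.pow_right_injective (by norm_num) this
  subst hk
  have hW := card_le_of_le (H.Dt_le_W hR)
  have hb3 := card_le_of_le b3
  norm_num at k1 k2 k3
  have hC : Nat.card (Cst s t Rf) = 32 := by omega
  have hDt : Cst s t Rf ⊓ R = Dt t R := eq_of_le_of_card_ge b3 (by omega)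
  have hDt16 : Nat.card (Dt t R) = 16 := by omega
  have hle : Dg a R ≤ Dt t R := fun x hx => mem_Dt.2 ⟨hx.1, (H.D_comm hR hx).2⟩
  have hD8 : Nat.card (Dg a R) = 8 := by
    have h1 := H.I_card_Dt hT
    have h2 : Nat.card (Dg a R) < 16 := by
      rw [← hDt16]
      refine lt_of_le_of_ne (card_le_of_le hle) fun h0 => H.s_notMemD hR ?_
      rw [eq_of_le_of_card_ge hle h0.ge]
      exact H.s_mem_Dt hR
    obtain ⟨c, hc⟩ := card_dvd_of_le hle
    rw [hDt16] at hc h1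
    have h3 : c < 3 := by
      by_contra h4
      have := Nat.mul_le_mul_left (Nat.card (Dg a R)) (show 3 ≤ c by omega)
      omega
    interval_cases c <;> omega
  refine ⟨hD8, ?_⟩
  have hDC : ∀ x ∈ Dg a R, x ∈ Cst s t Rf := fun x hx => (hDt.ge (hle hx)).1
  have hCm : ∀ {x : G}, x ∈ Cst s t Rf ↔ x ∈ Rf ∧ Commute s x ∧ Commute t x := fun {x} => by
    rw [mem_inf, mem_inf, mem_L, mem_L, and_assoc]
  -- the model
  obtain ⟨φ, hφ⟩ := H.exists_psi hf
  obtain ⟨d, hd⟩ : ∃ d, d = φ Md.d6 := ⟨_, rfl⟩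
  obtain ⟨m3, mne, mfd⟩ := Md.radF_facts
  have hd3 : d ^ 3 = 1 := by rw [hd, ← map_pow, m3, map_one]
  have hd1 : d ≠ 1 := fun h0 => mne (hφ.inj (by rw [map_one, ← hd, h0]))
  have hfd : Commute f d := by rw [hd, ← hφ.f]; exact (show Commute Md.f Md.d6 from mfd).map φ
  have hds : cj d⁻¹ s = t := by
    rw [hd, ← hφ.s, ← hφ.t, ← Md.d6_conj.1, cj, inv_inv, map_mul, map_mul, map_inv]
  have hdt : cj d⁻¹ t = z * f := by
    rw [hd, ← hφ.t, ← hφ.z, ← hφ.f, ← map_mul φ Md.z, ← Md.d6_conj.2, cj, inv_inv, map_mul, map_mul, map_inv]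
  have hdC : ∀ x ∈ Cst s t Rf, cj d x ∈ Cst s t Rf := fun x hx => by
    obtain ⟨h1, h2, h3⟩ := hCm.1 hx
    refine hCm.2 ⟨hTf.core.norm d hfd x h1, ?_, ?_⟩
    · have h4 := cj_commute d (show Commute t x from h3)
      rwa [← hds, cj_cj_inv] at h4
    · have h4 : Commute (z * f) x := (H.st ▸ h2.mul_left h3).mul_left (hTf.core.le x h1)
      have h5 := cj_commute d h4
      rwa [← hdt, cj_cj_inv] at h5
  let E : Subgroup G :=
    { carrier := {x | ∃ i : Fin 8, x = φ (Md.E8 i)}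
      one_mem' := ⟨0, by simp [Md.E8]⟩
      mul_mem' := by
        rintro _ _ ⟨i, rfl⟩ ⟨j, rfl⟩
        obtain ⟨k, hk⟩ := Md.E8_mul i j
        exact ⟨k, by rw [← map_mul, hk]⟩
      inv_mem' := by
        rintro _ ⟨i, rfl⟩
        exact ⟨i, inv_of_sq (by rw [← map_mul, Md.E8_sq, map_one])⟩ }
  have hEcard : Nat.card E = 8 := by
    let F : Fin 8 → E := fun i => ⟨φ (Md.E8 i), i, rfl⟩
    have hF : Function.Bijective F :=
      ⟨fun i j hij => Md.E8_inj i j (hφ.inj (congrArg Subtype.val hij)),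
        fun ⟨x, i, hi⟩ => ⟨i, Subtype.ext hi.symm⟩⟩
    rw [← Nat.card_congr (Equiv.ofBijective F hF), Nat.card_fin]
  have hEd : ∀ x ∈ E, cj d x ∈ E := by
    rintro _ ⟨i, rfl⟩
    obtain ⟨j, hj⟩ := Md.E8_d i
    exact ⟨j, by rw [← hj, map_mul, map_mul, map_inv, hd]; rfl⟩
  have hEcases : ∀ x ∈ E, x = 1 ∨ x = s ∨ x = t ∨ x = z ∨ x = f ∨ x = s * f ∨ x = t * f ∨ x = z * f := by
    have hval : ∀ i : Fin 8, Md.E8 i = 1 ∨ Md.E8 i = Md.s ∨ Md.E8 i = Md.t ∨ Md.E8 i = Md.z ∨ Md.E8 i = Md.f ∨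
        Md.E8 i = Md.s * Md.f ∨ Md.E8 i = Md.t * Md.f ∨ Md.E8 i = Md.z * Md.f := by decide +kernel
    rintro _ ⟨i, rfl⟩
    rcases hval i with e' | e' | e' | e' | e' | e' | e' | e' <;>
      simp only [e', map_one, map_mul, hφ.s, hφ.t, hφ.z, hφ.f] <;> simp
  have hEc : ∀ x ∈ E, ∀ y ∈ Cst s t Rf, Commute x y := by
    intro x hx y hy
    obtain ⟨h1, h2, h3⟩ := hCm.1 hy
    have cz : Commute z y := H.st ▸ h2.mul_left h3
    have cf := hTf.core.le y h1
    rcases hEcases x hx with e' | e' | e' | e' | e' | e' | e' | e' <;> rw [e']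
    exacts [Commute.one_left y, h2, h3, cz, cf, h2.mul_left cf, h3.mul_left cf, cz.mul_left cf]
  have hEsq : ∀ x ∈ E, x * x = 1 := by
    rintro _ ⟨i, rfl⟩; rw [← map_mul, Md.E8_sq, map_one]
  have hEC : E ≤ Cst s t Rf := by
    intro x hx
    have h1 : s ∈ Cst s t Rf := hCm.2 ⟨hsRf, Commute.refl s, H.ts_comm⟩
    have h2 : t ∈ Cst s t Rf := hCm.2 ⟨htRf, H.ts_comm.symm, Commute.refl t⟩
    have h3 : f ∈ Cst s t Rf := hDC f hfD
    have h4 : z ∈ Cst s t Rf := H.st ▸ mul_mem h1 h2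
    rcases hEcases x hx with e' | e' | e' | e' | e' | e' | e' | e' <;> rw [e']
    exacts [one_mem _, h1, h2, h4, h3, mul_mem h1 h3, mul_mem h2 h3, mul_mem h4 h3]
  have hED : ∀ x ∈ E, x ∈ Dg a R → x = 1 ∨ x = f := by
    intro x hxE hx
    have ns : s ∉ Dg a R := H.s_notMemD hR
    have nt : t ∉ Dg a R := fun h0 => H.t_notMem hR h0.1
    have nz : z ∉ Dg a R := fun h0 => H.z_notMem hR h0.1
    have mf : ∀ {u : G}, u ∉ Dg a R → x = u * f → False := fun hu hxu =>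
      hu ((mul_mem_cancel_right hfD).1 (hxu ▸ hx))
    rcases hEcases x hxE with e' | e' | e' | e' | e' | e' | e' | e'
    exacts [Or.inl e', absurd (e' ▸ hx) ns, absurd (e' ▸ hx) nt, absurd (e' ▸ hx) nz, Or.inr e',
      (mf ns e').elim, (mf nt e').elim, (mf nz e').elim]
  have hfE : f ∈ E := ⟨4, by simp [Md.E8, hφ.f]⟩
  have hC32 : ∀ x ∈ Cst s t Rf, x ^ 32 = 1 := fun x hx => by
    have h1 := pow_card_eq_one' (x := (⟨x, hx⟩ : Cst s t Rf))
    rw [hC] at h1
    exact congrArg Subtype.val h1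
  have hfixed : ∀ x ∈ Cst s t Rf, cj d x * x⁻¹ ∈ E → x ∈ E := by
    intro x hx hε
    obtain ⟨ε, hε'⟩ : ∃ ε, ε = cj d x * x⁻¹ := ⟨_, rfl⟩
    rw [← hε'] at hε
    have hdx : cj d x = ε * x := by rw [hε', inv_mul_cancel_right]
    have h1 := ((H.bundle hTf.core hd3 hd1 hfd).1 x (hCm.1 hx).1).1
    have h2 : x * cj d x * cj d (cj d x) = cj d ε * x ^ 3 := by
      have c1 : Commute ε x := hEc ε hε x hx
      have c2 : Commute (cj d ε) x := hEc _ (hEd ε hε) x hx
      rw [hdx, cj_mul, hdx]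
      have c3 : Commute (cj d ε) ε := hEc _ (hEd ε hε) ε (hEC hε)
      calc x * (ε * x) * (cj d ε * (ε * x)) = ε * (x * x) * ((ε * cj d ε) * x) := by
            rw [← mul_assoc x ε x, ← c1.eq, mul_assoc ε x x, ← mul_assoc (cj d ε) ε x, c3.eq]
        _ = ε * ((ε * cj d ε) * (x * x)) * x := by
            rw [((c1.mul_left c2).mul_right (c1.mul_left c2)).eq]
            simp only [mul_assoc]
        _ = ε * ε * (cj d ε * x ^ 3) := by simp only [pow_succ, pow_zero, one_mul, mul_assoc]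
        _ = cj d ε * x ^ 3 := by rw [hEsq ε hε, one_mul]
    rw [h2] at h1
    have hx3 : x ^ 3 ∈ E := by
      rcases (mem_zpowers_invol hTf.core.sq).1 h1 with e' | e'
      · rw [eq_inv_of_mul_eq_one_right e']; exact inv_mem (hEd ε hε)
      · rw [eq_inv_mul_iff_mul_eq.2 e']; exact mul_mem (inv_mem (hEd ε hε)) hfE
    have h3 : x = (x ^ 3) ^ 11 := by
      rw [← pow_mul, show 3 * 11 = 32 + 1 from rfl, pow_succ, hC32 x hx, one_mul]
    rw [h3]
    exact pow_mem hx3 _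
  obtain ⟨x₀, hx₀, hx₀n⟩ : ∃ x ∈ Dg a R, x ∉ E := by
    by_contra hcon
    push Not at hcon
    have hle2 : Dg a R ≤ zpowers f := fun x hx =>
      (mem_zpowers_invol hTf.core.sq).2 (hED x (hcon x hx) hx)
    have := card_le_of_le hle2
    rw [hD8, Nat.card_zpowers, orderOf_eq_prime (hp := ⟨Nat.prime_two⟩) (by rw [sq, hTf.core.sq]) hf1] at this
    omega
  have hx₀C := hDC x₀ hx₀
  let v : Option (Fin 3) → G := fun o => Option.elim o 1 fun i => cj (d ^ (i : ℕ)) x₀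
  have hpow : ∀ (n : ℕ) (S : Subgroup G), (∀ x ∈ S, cj d x ∈ S) → ∀ x ∈ S, cj (d ^ n) x ∈ S := fun n S hS => by
    induction n with
    | zero => intro x hx; rwa [pow_zero, cj_one']
    | succ n ih => intro x hx; rw [pow_succ', ← cj_cj]; exact hS _ (ih x hx)
  have hvC : ∀ o, v o ∈ Cst s t Rf := fun o => by
    rcases o with _ | i
    exacts [one_mem (Cst s t Rf), hpow _ _ hdC _ hx₀C]
  have hdper : ∀ n : ℕ, cj (d ^ n) x₀ = cj (d ^ (n % 3)) x₀ := fun n => by rw [← pow_eq_pow_mod n hd3]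
  have hdE' : ∀ (n : ℕ) {x : G}, cj (d ^ n) x ∈ E → x ∈ E := fun n {x} hx => by
    have := hpow (2 * n) E hEd _ hx
    rwa [cj_cj, ← pow_add, show 2 * n + n = 3 * n by omega, pow_mul, hd3, one_pow, cj_one'] at this
  have key : ∀ o o', v o * (v o')⁻¹ ∈ E → o = o' := by
    have d1 : cj (d ^ 1) x₀ * x₀⁻¹ ∉ E := fun h0 => hx₀n (hfixed x₀ hx₀C (by rwa [pow_one] at h0))
    have d2 : cj (d ^ 2) x₀ * x₀⁻¹ ∉ E := fun h0 => d1 (by
      have h1 := inv_mem (hpow 1 E hEd _ h0)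
      rwa [cj_mul, cj_cj, ← pow_add, hd3, cj_one', cj_inv, mul_inv_rev, inv_inv] at h1)
    intro o o' hoo
    rcases o with _ | i <;> rcases o' with _ | j
    · rfl
    · exact absurd (hdE' _ (inv_mem_iff.1 (by rwa [show v none = 1 from rfl, one_mul] at hoo))) hx₀n
    · exact absurd (hdE' _ (by rwa [show v none = 1 from rfl, inv_one, mul_one] at hoo)) hx₀n
    · by_contra hne
      have hij : (i : ℕ) ≠ (j : ℕ) := fun h0 => hne (by rw [Fin.ext h0])
      have h1 := hpow (3 - (j : ℕ)) E hEd _ hoo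
      change cj (d ^ (3 - (j : ℕ))) (cj (d ^ (i : ℕ)) x₀ * (cj (d ^ (j : ℕ)) x₀)⁻¹) ∈ E at h1
      rw [cj_mul, cj_inv, cj_cj, cj_cj, ← pow_add, ← pow_add, show 3 - (j : ℕ) + j = 3 by omega, hd3, cj_one',
        hdper] at h1
      rcases (show (3 - (j : ℕ) + i) % 3 = 1 ∨ (3 - (j : ℕ) + i) % 3 = 2 by omega) with e' | e' <;>
        rw [e'] at h1
      exacts [d1 h1, d2 h1]
  let F : Option (Fin 3) × E → Cst s t Rf := fun p => ⟨v p.1 * p.2, mul_mem (hvC _) (hEC p.2.2)⟩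
  have hF : Function.Injective F := by
    rintro ⟨o, ε⟩ ⟨o', ε'⟩ hp
    have h1 : v o * (ε : G) = v o' * ε' := congrArg Subtype.val hp
    have h2 : o = o' := key o o' (by
      have h3 : v o = (ε' : G) * (ε : G)⁻¹ * v o' := by
        rw [(hEc _ (mul_mem ε'.2 (inv_mem ε.2)) _ (hvC o')).eq, ← mul_assoc, ← h1, mul_inv_cancel_right]
      rw [h3, mul_inv_cancel_right]
      exact mul_mem ε'.2 (inv_mem ε.2))
    subst h2
    rw [show ε = ε' from Subtype.ext (mul_left_cancel h1)]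
  have hsurj : ∀ x ∈ Cst s t Rf, ∃ o, ∃ ε ∈ E, x = v o * ε := fun x hx => by
    obtain ⟨⟨o, ε⟩, hp⟩ := (hF.bijective_of_nat_card_le (by
      rw [Nat.card_prod, hEcard, hC]; simp)).2 ⟨x, hx⟩
    exact ⟨o, ε, ε.2, (congrArg Subtype.val hp).symm⟩
  have hvsq : ∀ o ε, ε ∈ E → v o * ε * (v o * ε) = v o * v o := fun o ε hε => by
    rw [(hEc ε hε _ (hvC o)).mul_mul_mul_comm, hEsq ε hε, mul_one]
  obtain ⟨σ, hσ⟩ : ∃ σ, σ = x₀ * x₀ := ⟨_, rfl⟩
  have hσD : σ ∈ Dg a R := hσ ▸ mul_mem hx₀ hx₀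
  have hσE : σ ∈ E := by
    obtain ⟨o, ε, hε, hoe⟩ := hsurj σ (hDC σ hσD)
    rcases o with _ | i
    · rw [hoe]; simpa [v] using hε
    exfalso
    obtain ⟨g, hg⟩ : ∃ g, v (some i) = cj g x₀ := ⟨_, rfl⟩
    have h1 : σ * σ = cj g σ := by
      have e1 : σ * σ = v (some i) * v (some i) := by rw [hoe, hvsq _ _ hε]
      rw [e1, hg, ← cj_mul, hσ]
    have h4 : σ * σ * (σ * σ) = cj g (cj g σ) := by
      rw [← congrArg (cj g) h1, cj_mul, ← h1]
    have h16 : σ * σ * (σ * σ) * (σ * σ * (σ * σ)) * (σ * σ * (σ * σ) * (σ * σ * (σ * σ))) = 1 := by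
      rw [hσ, ← hC32 x₀ hx₀C]
      simp only [pow_succ, pow_zero, one_mul, mul_assoc]
    simp only [← cj_mul, h4, cj_eq_one] at h16
    refine hx₀n ?_
    have h5 : v (some i) * ε = 1 := hoe.symm.trans h16
    have h6 : v (some i) ∈ E := eq_inv_of_mul_eq_one_left h5 ▸ inv_mem hε
    exact absurd (key (some i) none (by simpa [v] using h6)) (by simp)
  have hσf : σ = 1 ∨ σ = f := hED σ hσE hσD
  refine ⟨σ, hσf, fun x hx h1 h2 => ?_⟩
  obtain ⟨o, ε, hε, rfl⟩ := hsurj x (hDC x hx)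
  rw [hvsq o ε hε]
  rcases o with _ | i
  · exfalso
    rcases hED _ (by simpa [v] using hε) hx with e' | e'
    exacts [h1 e', h2 e']
  · show cj (d ^ (i : ℕ)) x₀ * cj (d ^ (i : ℕ)) x₀ = σ
    rw [← cj_mul, ← hσ]
    rcases hσf with e' | e' <;> rw [e']
    exacts [cj_one _, cj_of_commute (hfd.pow_right _).symm]

/-- A radical of order 128 does not occur. -/
theorem not_I_three (hT : TI s R O) (h128 : Nat.card R = 128) : False := by
  classical
  have hR := hT.rad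
  have h32 : 32 ≤ Nat.card R := by omega
  obtain ⟨f, hf, hS, hfs, hc⟩ := H.exists_f hT h32
  obtain ⟨hfD, hf1⟩ := H.iv_mem hR hf
  obtain ⟨-, -, hff⟩ := H.iv_comm hf
  obtain ⟨hD8, σ, hσ, hsq⟩ := H.three_squares hT h128 hf hS hfs hc
  have hcardf : Nat.card (zpowers f) = 2 := by
    rw [Nat.card_zpowers]
    exact orderOf_eq_prime (hp := ⟨Nat.prime_two⟩) (by rw [sq, hff]) hf1
  rcases hσ with e' | e' <;> rw [e'] at hsq
  · -- an elementary `D`
    have hel : ∀ x ∈ Dg a R, x * x = 1 := fun x hx => by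
      by_cases h1 : x = 1
      · rw [h1, one_mul]
      by_cases h2 : x = f
      · rw [h2, hff]
      exact hsq x hx h1 h2
    have hcomm : ∀ x ∈ Dg a R, ∀ y ∈ Dg a R, Commute x y := fun x hx y hy => by
      have h1 := inv_of_sq (hel _ (mul_mem hx hy))
      rw [mul_inv_rev, inv_of_sq (hel x hx), inv_of_sq (hel y hy)] at h1
      exact h1.symm
    have hfixed : ∀ x ∈ Dg a R, cj (a ^ 2) x = x → x ∈ zpowers f := fun x hx hfix => by
      rw [mem_zpowers_invol hff]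
      by_cases h1 : x = 1
      · exact Or.inl h1
      exact Or.inr (H.uniq hR hf (H.fixed_iv hR hx (hel x hx) h1 hfix) (hcomm f hfD x hx)).symm
    let lam : ↥(Dg a R) →* G := MonoidHom.mk' (fun x => (x : G) * cj (a ^ 2) (x : G)) fun x y => by
      show (x : G) * y * cj (a ^ 2) ((x : G) * y) = _
      rw [cj_mul, (hcomm _ y.2 _ (H.D_a2 hR x.2).1).mul_mul_mul_comm]
    have hrange : lam.range ≤ zpowers f := by
      rintro _ ⟨x, rfl⟩
      obtain ⟨hg, hgg⟩ := H.D_a2 hR x.2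
      refine hfixed _ (mul_mem x.2 hg) ?_
      show cj (a ^ 2) ((x : G) * cj (a ^ 2) x) = (x : G) * cj (a ^ 2) x
      rw [cj_mul, hgg, (hcomm _ x.2 _ hg).eq]
    have hker : Nat.card lam.ker ≤ 2 := by
      rw [← hcardf]
      refine Nat.card_le_card_of_injective (fun x => (⟨((x : ↥(Dg a R)) : G), ?_⟩ : zpowers f)) ?_
      · refine hfixed _ x.1.2 ?_
        have h1 : ((x : ↥(Dg a R)) : G) * cj (a ^ 2) ((x : ↥(Dg a R)) : G) = 1 := MonoidHom.mem_ker.1 x.2
        rw [eq_inv_of_mul_eq_one_right h1, inv_of_sq (hel _ x.1.2)]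
      · intro x y hxy
        exact Subtype.ext (Subtype.ext (congrArg (fun w : zpowers f => (w : G)) hxy))
    have h1 := card_eq_card_quotient_mul_card_subgroup lam.ker
    rw [Nat.card_congr (QuotientGroup.quotientKerEquivRange lam).toEquiv, hD8] at h1
    have h2 := card_le_of_le hrange
    rw [hcardf] at h2
    have := Nat.mul_le_mul h2 hker
    omega
  -- the squares are `f`
  obtain ⟨hK4, hKe, hKn, hyK, hy2, hyc, hyinj⟩ := H.K0f_props hT h32 hf hS hfs
  have hSe : Sec s R (cj e f) := hS.norm hT.core H.se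
  have hK32 : Nat.card (K0f R e f) = 32 := by omega
  -- an element of order four
  obtain ⟨i, hiD, hi1, hif, hic⟩ : ∃ i ∈ Dg a R, i ≠ 1 ∧ i ≠ f ∧ Commute (cj e f) i := by
    by_contra hcon
    push Not at hcon
    have h1 : Nat.card (Dg a R) ≤ 2 * Nat.card (Dg a R ⊓ centralizer ({cj e f} : Set G) : Subgroup G) :=
      card_le_two_mul fun x hx y hy hxK hyK => by
        have key : ∀ {u : G}, u ∈ Dg a R → u ∉ Dg a R ⊓ centralizer ({cj e f} : Set G) → cj u (cj e f) = cj e f * s :=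
          fun hu hn => (hSe.2 _ hu.1).resolve_left fun h0 => hn ⟨hu, mem_L.2 (commute_of_cj h0).symm⟩
        refine ⟨mul_mem hx hy, mem_L.2 (commute_of_cj ?_).symm⟩
        rw [← cj_cj, key hy hyK, cj_mul, key hx hxK, cj_of_commute (hR.core.le x hx.1).symm, mul_assoc,
          H.s_sq, mul_one]
    have h2 : (Dg a R ⊓ centralizer ({cj e f} : Set G) : Subgroup G) ≤ zpowers f := fun x hx => by
      rw [mem_zpowers_invol hff]
      by_contra h3
      rw [not_or] at h3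
      exact hcon x hx.1 h3.1 h3.2 (mem_L.1 hx.2)
    have := card_le_of_le h2
    omega
  have hii := hsq i hiD hi1 hif
  have hiK : i ∈ K0f R e f := mem_K0f.2 ⟨hiD.1, hc i hiD, hic⟩
  have hiK' : ∀ k : ℕ, cj (e ^ k) i ∈ K0f R e f := fun k => by
    induction k with
    | zero => rwa [pow_zero, cj_one']
    | succ k ih => rw [pow_succ', ← cj_cj]; exact hKe _ ih
  let v : Option (Fin 3) → G := fun o => Option.elim o 1 fun k => cj (e ^ (k : ℕ)) i
  have hvK : ∀ o, v o ∈ K0f R e f := fun o => by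
    rcases o with _ | k
    exacts [one_mem (K0f R e f), hiK' _]
  let sqv : Option (Fin 3) → G := fun o => Option.elim o 1 fun k => cj (e ^ (k : ℕ)) f
  have hsqv : ∀ o b, v o * Yf s e f b * (v o * Yf s e f b) = sqv o := fun o b => by
    rw [(hyc b _ (hvK o)).mul_mul_mul_comm, hy2, mul_one]
    rcases o with _ | k
    · exact one_mul 1
    · show cj _ i * cj _ i = cj _ f
      rw [← cj_mul, hii]
  have hsinj : Function.Injective sqv := by
    rintro (_ | k) (_ | l) hkl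
    · rfl
    · exact absurd (cj_eq_one.1 hkl.symm) hf1
    · exact absurd (cj_eq_one.1 hkl) hf1
    · rw [H.orbit_inj hR hS.1 hf1 hfs (σ := 1) (Or.inl rfl)
        (show cj (e ^ (k : ℕ)) f = cj (e ^ (l : ℕ)) f * 1 by rw [mul_one]; exact hkl)]
  let F : Option (Fin 3) × (Bool × Bool × Bool) → K0f R e f := fun p =>
    ⟨v p.1 * Yf s e f p.2, mul_mem (hvK _) (hyK _)⟩
  have hF : Function.Injective F := by
    rintro ⟨o, b⟩ ⟨o', b'⟩ hp
    have h1 : v o * Yf s e f b = v o' * Yf s e f b' := congrArg Subtype.val hp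
    obtain rfl := hsinj ((hsqv o b).symm.trans (by rw [h1, hsqv]))
    rw [hyinj (mul_left_cancel h1)]
  -- an element moving `f`
  obtain ⟨x, hxR, hxn⟩ : ∃ x ∈ R, ¬ Commute f x := by
    by_contra hcon
    push Not at hcon
    exact (H.center_R hT h32 hS.1 hcon).elim hf1 hfs
  have hxf : cj x f = f * s := (hS.2 x hxR).resolve_left fun h0 => hxn (commute_of_cj h0).symm
  have hxi : cj x i ∈ K0f R e f := hKn x hxR i hiK
  obtain ⟨⟨o, b⟩, hp⟩ := (hF.bijective_of_nat_card_le (by rw [hK32]; simp)).2 ⟨_, hxi⟩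
  have h1 : v o * Yf s e f b = cj x i := congrArg Subtype.val hp
  have h2 : sqv o = f * s := by rw [← hsqv o b, h1, ← cj_mul, hii, hxf]
  rcases o with _ | k
  · have h3 : (1 : G) = f * s := h2
    exact hfs (by rw [eq_inv_of_mul_eq_one_left h3.symm, inv_of_sq H.s_sq])
  · by_cases hk : k = 0
    · subst hk
      have h3 : cj (e ^ ((0 : Fin 3) : ℕ)) f = f * s := h2
      rw [show ((0 : Fin 3) : ℕ) = 0 from rfl, pow_zero, cj_one'] at h3
      exact H.s_ne (mul_eq_left.1 h3.symm)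
    · exact hk (H.orbit_inj hR hS.1 hf1 hfs (Or.inr rfl) (by rw [show sqv (some k) = cj (e ^ (k : ℕ)) f from rfl] at h2; rw [h2]; simp [cj_one']))

end Cfg

end Cfsg.Agent.M11ThreeLocal
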