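import Cfsg.Agent.M11ThreeLocal.LargeK

/-!
# The structure of a radical of order 32
-/

set_option autoImplicit false
set_option linter.unusedSectionVars false
set_option synthInstance.maxSize 2000

namespace Cfsg.Agent.M11ThreeLocal

open Subgroup

theorem Md.h_word : Md.e * Md.e * Md.d6 * Md.e * Md.e * Md.d6 * Md.d6 * Md.e * Md.d6 * Md.d6 * Md.e * Md.e *
    Md.d6 = Md.h := by decide +kernel

variable {G : Type*} [Group G] [Finite G] {M : Subgroup G} {e h s t z a : G} {R O : Subgroup G}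

namespace Cfg

variable (H : Cfg M e h s t z a)

include H

/-- All elements of a radical of order 32 lie in the second centre. -/
theorem two_sec (hT : TI s R O) (h32 : Nat.card R = 32) {f : G} (hf : Iv s t e h f) (hS : Sec s R f)
    (hfs : f ≠ s) : ∀ x ∈ R, Sec s R x := by
  classical
  have hR := hT.rad
  obtain ⟨hK4, hKe, hKn, hyK, -, -, hyinj⟩ := H.K0f_props hT (le_of_eq h32.symm) hf hS hfs
  obtain ⟨K, hK⟩ : ∃ K, K = K0f R e f := ⟨_, rfl⟩
  rw [← hK] at hK4 hKe hKn hyK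
  have hK8 : Nat.card K = 8 := by omega
  have hKR : K ≤ R := fun x hx => (mem_K0f.1 (hK ▸ hx : x ∈ K0f R e f)).1
  have hcs : Sec s R s := ⟨hR.core.mem, fun x hx => Or.inl (cj_of_commute (hR.core.le x hx).symm)⟩
  have hone : Sec s R 1 := ⟨one_mem R, fun x _ => Or.inl (cj_one x)⟩
  have hKsec : ∀ k ∈ K, Sec s R k := by
    let F : Bool × Bool × Bool → K := fun b => ⟨Yf s e f b, hyK b⟩
    have hF : Function.Injective F := fun b b' hbb => hyinj (congrArg Subtype.val hbb)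
    intro k hk
    obtain ⟨b, hb⟩ := (hF.bijective_of_nat_card_le (by rw [hK8]; simp)).2 ⟨k, hk⟩
    rw [show k = Yf s e f b from (congrArg Subtype.val hb).symm]
    refine ((Sec.mul hT.core ?_ ?_).mul hT.core ?_) <;> split <;>
      first | exact hone | exact hcs | exact hS | exact hS.norm hT.core H.se
  intro u huR
  by_cases huK : u ∈ K
  · exact hKsec u huK
  obtain ⟨u1, hu1⟩ : ∃ x, x = cj e u := ⟨_, rfl⟩
  have hu1R : u1 ∈ R := hu1 ▸ hR.core.norm e H.se u huR
  have hKinv : ∀ x, cj e x ∈ K → x ∈ K := fun x hx => by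
    have := hKe _ (hKe _ hx)
    rwa [cj_e_cube H.e3] at this
  have hu1K : u1 ∉ K := fun h0 => huK (hKinv u (hu1 ▸ h0))
  obtain ⟨σ, hσ, hσK, hσ'⟩ : ∃ σ, (σ = 1 ∨ σ = s) ∧ σ ∈ K ∧ u * u1 * cj e u1 = σ := by
    have h1 := (mem_zpowers_invol H.s_sq).1 (hu1 ▸ ((H.bundle hR.core H.e3 H.e_ne H.se).1 u huR).1)
    refine ⟨_, h1, ?_, rfl⟩
    rcases h1 with e' | e' <;> rw [e']
    · exact one_mem K
    · simpa using hyK (true, false, false)
  have huu1 : u * u1 ∉ K := fun h0 => hu1K (hKinv u1 (by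
    rw [show cj e u1 = (u * u1)⁻¹ * σ by rw [← hσ', inv_mul_cancel_left]]
    exact mul_mem (inv_mem h0) hσK))
  have hu1u : u⁻¹ * u1 ∉ K := fun h0 => huK <| by
    obtain ⟨k, hk, hk'⟩ : ∃ k, k ∈ K ∧ u1 = u * k := ⟨_, h0, (mul_inv_cancel_left u u1).symm⟩
    have e2 : cj e u1 = u * (k * cj e k) := by
      rw [hk', cj_mul, ← hu1, hk', mul_assoc]
    rw [e2, hk'] at hσ'
    have hnK : ∀ k ∈ K, u⁻¹ * k * u ∈ K := fun k hk => by
      have := hKn u⁻¹ (inv_mem huR) k hk
      rwa [cj, inv_inv] at this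
    have h3 : u ^ 3 ∈ K := by
      obtain ⟨k1, hk1, hk1'⟩ : ∃ k1, k1 ∈ K ∧ k1 = u⁻¹ * k * u := ⟨_, hnK k hk, rfl⟩
      have h4 : u * (u * k) * (u * (k * cj e k)) = u ^ 3 * (k1 * (k * cj e k)) := by
        rw [hk1']; simp only [pow_succ, pow_zero, one_mul, mul_assoc, mul_inv_cancel_left]
      rw [h4] at hσ'
      rw [eq_mul_inv_of_mul_eq hσ']
      exact mul_mem hσK (inv_mem (mul_mem hk1 (mul_mem hk (hKe k hk))))
    have hu32 : u ^ 32 = 1 := by
      have h5 := pow_card_eq_one' (x := (⟨u, huR⟩ : R))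
      rw [h32] at h5
      exact congrArg Subtype.val h5
    rw [show u = (u ^ 3) ^ 11 by rw [← pow_mul, show 3 * 11 = 32 + 1 from rfl, pow_succ, hu32, one_mul]]
    exact pow_mem h3 _
  let P : Subgroup G :=
    { carrier := {y | y ∈ R ∧ (cj u y = y ∨ cj u y = y * s)}
      one_mem' := ⟨one_mem R, Or.inl (cj_one u)⟩
      mul_mem' := by
        rintro x y ⟨hx, ex⟩ ⟨hy, ey⟩
        refine ⟨mul_mem hx hy, ?_⟩
        have hs' := (hR.core.le y hy).eq
        rcases ex with e1 | e1 <;> rcases ey with e2 | e2 <;> rw [cj_mul, e1, e2]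
        · exact Or.inl rfl
        · exact Or.inr (mul_assoc x y s).symm
        · exact Or.inr (by rw [mul_assoc x s, hs', mul_assoc])
        · left; rw [mul_assoc x s, ← mul_assoc s y s, hs', mul_assoc y s s, H.s_sq, mul_one]
      inv_mem' := by
        rintro x ⟨hx, ex⟩
        refine ⟨inv_mem hx, ?_⟩
        rcases ex with e1 | e1 <;> rw [cj_inv, e1]
        · exact Or.inl rfl
        · exact Or.inr (by rw [mul_inv_rev, inv_of_sq H.s_sq, (hR.core.le _ (inv_mem hx)).eq]) }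
  have hflip : ∀ x y : G, x ∈ R → y ∈ R → (cj x y = y ∨ cj x y = y * s) → cj y x = x ∨ cj y x = x * s := by
    intro x y hx hy he
    rcases he with e' | e'
    · exact Or.inl (cj_of_commute (commute_of_cj e').symm)
    · right
      rw [cj, mul_inv_eq_iff_eq_mul] at e'
      rw [cj, mul_inv_eq_iff_eq_mul, mul_assoc, (hR.core.le y hy).eq, ← mul_assoc, e', mul_assoc y s,
        (hR.core.le x hx).eq, mul_assoc y, mul_assoc x, H.s_sq, mul_one]
  have hKP : ∀ k ∈ K, k ∈ P := fun k hk => ⟨hKR hk, (hKsec k hk).2 u huR⟩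
  have huP : u ∈ P := ⟨huR, Or.inl (cj_of_commute (Commute.refl u))⟩
  have hu1P : u1 ∈ P := by
    refine ⟨hu1R, ?_⟩
    have h1 := ((H.bundle hR.core H.e3 H.e_ne H.se).1 u huR).2
    rw [← hu1, mem_zpowers_invol H.s_sq] at h1
    rcases h1 with e' | e'
    · left; rw [cj, mul_inv_eq_iff_eq_mul]; exact mul_inv_eq_one.1 e'
    · right
      rw [mul_inv_eq_iff_eq_mul] at e'
      rw [cj, mul_inv_eq_iff_eq_mul, e', ← mul_assoc, (hR.core.le u1 hu1R).eq]
  let v : Bool × Bool → G := fun p => (if p.1 then u else 1) * (if p.2 then u1 else 1)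
  have hvP : ∀ p, v p ∈ P := fun p => by
    refine mul_mem ?_ ?_ <;> split <;> first | exact one_mem P | assumption
  have hvne : ∀ p q, (v p)⁻¹ * v q ∈ K → p = q := by
    have hconj : ∀ {k : G}, u1⁻¹ * k * u1 ∈ K → k ∈ K := fun {k} hk => by
      have := hKn u1 hu1R _ hk
      rwa [show cj u1 (u1⁻¹ * k * u1) = k by simp only [cj]; group] at this
    rintro ⟨a1, a2⟩ ⟨b1, b2⟩ hk
    rcases a1 <;> rcases a2 <;> rcases b1 <;> rcases b2 <;> simp [v] at hk ⊢
    · exact hu1K hk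
    · exact huK hk
    · exact huu1 hk
    · exact hu1K hk
    · exact hu1u (by simpa [mul_inv_rev, inv_inv] using inv_mem hk)
    · exact huK (hconj (by simpa [mul_assoc] using hk))
    · exact huK hk
    · exact hu1u hk
    · exact hu1K hk
    · exact huu1 (by simpa [mul_inv_rev] using inv_mem hk)
    · exact huK (hconj (by simpa [mul_assoc] using inv_mem hk))
    · exact hu1K hk
  let F : (Bool × Bool) × K → P := fun p => ⟨v p.1 * p.2, mul_mem (hvP _) (hKP _ p.2.2)⟩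
  have hF : Function.Injective F := by
    rintro ⟨p, k⟩ ⟨q, k'⟩ hpq
    have h1 : v p * (k : G) = v q * k' := congrArg Subtype.val hpq
    obtain rfl := hvne p q (by
      rw [show v q = v p * (k : G) * (k' : G)⁻¹ by rw [h1, mul_inv_cancel_right], mul_assoc, inv_mul_cancel_left]
      exact mul_mem k.2 (inv_mem k'.2))
    rw [show k = k' from Subtype.ext (mul_left_cancel h1)]
  have hPR : P ≤ R := fun x hx => hx.1
  have hPeq : P = R := eq_of_le_of_card_ge hPR (by
    have := Nat.card_le_card_of_injective F hF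
    rw [Nat.card_prod, hK8] at this
    simp at this
    omega)
  refine ⟨huR, fun x hx => ?_⟩
  rw [← hPeq] at hx
  exact hflip u x huR hx.1 hx.2

/-- The data of a radical of order 32. -/
theorem two_data (hT : TI s R O) (h32 : Nat.card R = 32) :
    ∃ f, Iv s t e h f ∧ Sec s R f ∧ f ≠ s ∧ (∀ x ∈ Dg a R, Commute f x) ∧ (∀ x ∈ R, Sec s R x) ∧
      (∀ x ∈ Dt t R, x = 1 ∨ x = s ∨ x = f ∨ x = s * f) ∧ Nat.card (Wfix s R t) = 8 ∧
      Nat.card (Dt t R) = 4 ∧ IsConj s z := by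
  classical
  have hR := hT.rad
  have h32' : 32 ≤ Nat.card R := le_of_eq h32.symm
  obtain ⟨f, hf, hS, hfs, hc⟩ := H.exists_f hT h32'
  obtain ⟨hfD, hf1⟩ := H.iv_mem hR hf
  obtain ⟨-, -, hff⟩ := H.iv_comm hf
  have hall := H.two_sec hT h32 hf hS hfs
  have hel : ∀ x ∈ Dg a R, x * x = 1 := fun x hx => (H.sec_sq hT h32' (hall x hx.1)).resolve_right
    fun h0 => H.s_notMemD hR (h0 ▸ mul_mem hx hx)
  have hDall : ∀ x ∈ Dg a R, x = 1 ∨ x = f := fun x hx => by
    by_cases h1 : x = 1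
    · exact Or.inl h1
    right
    obtain ⟨hg, -⟩ := H.D_a2 hR hx
    obtain ⟨w, hw⟩ : ∃ w, w = cj (a ^ 2) x := ⟨_, rfl⟩
    have hfix : cj (a ^ 2) x = x := by
      refine H.mixed hR hx (hel x hx) ?_ ?_
      · refine (commute_of_cj (((hall x hx.1).2 _ hg.1).resolve_right fun h0 => H.s_notMemD hR ?_)).symm
        have h2 : x⁻¹ * cj (cj (a ^ 2) x) x = s := by rw [h0, inv_mul_cancel_left]
        exact h2 ▸ mul_mem (inv_mem hx) (mul_mem (mul_mem hg hx) (inv_mem hg))
      · have hwR : w ∈ R := hw ▸ hg.1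
        rw [← hw, show w * cj e x * (cj e x * w)⁻¹ = cj w (cj e x) * (cj e x)⁻¹ by simp only [cj]; group,
          mem_zpowers_invol H.s_sq]
        have hSx := (hall x hx.1).norm hT.core H.se
        rcases hSx.2 w hwR with e' | e' <;> rw [e']
        · exact Or.inl (mul_inv_cancel _)
        · right; rw [← (hR.core.le _ hSx.1).eq, mul_inv_cancel_right]
    exact (H.uniq hR hf (H.fixed_iv hR hx (hel x hx) h1 hfix) (hc x hx)).symm
  have hDt : ∀ x ∈ Dt t R, x = 1 ∨ x = s ∨ x = f ∨ x = s * f := fun x hx => by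
    rcases H.Dt_cases hT hx with h1 | h1
    · rcases hDall x h1 with e' | e'
      exacts [Or.inl e', Or.inr (Or.inr (Or.inl e'))]
    · rcases hDall _ h1 with e' | e'
      · exact Or.inr (Or.inl (by rw [eq_inv_of_mul_eq_one_right e', inv_of_sq H.s_sq]))
      · exact Or.inr (Or.inr (Or.inr (by rw [← e', ← mul_assoc, H.s_sq, one_mul])))
  obtain ⟨k, k1, k2, k3⟩ := H.sizes hR
  have hk : k = 2 := Nat.pow_right_injective (a := 4) (by norm_num) (show 4 ^ k = 4 ^ 2 by omega)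
  subst hk
  norm_num at k2
  have hDle : Nat.card (Dg a R) ≤ 2 := by
    have hle : Dg a R ≤ zpowers f := fun x hx => (mem_zpowers_invol hff).2 (hDall x hx)
    have := card_le_of_le hle
    rwa [Nat.card_zpowers, orderOf_eq_prime (hp := ⟨Nat.prime_two⟩) (by rw [sq, hff]) hf1] at this
  have hDt4 : Nat.card (Dt t R) = 4 := by
    have h1 := H.I_card_Dt hT
    rw [show (2 : ℕ) ^ 2 = 4 from rfl] at k3
    omega
  refine ⟨f, hf, hS, hfs, hc, hall, hDt, k2, hDt4, ?_⟩
  obtain ⟨r, hr, hrt⟩ : ∃ r ∈ R, cj t r = r * s := by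
    by_contra hcon
    push Not at hcon
    have hle : Wfix s R t ≤ Dt t R := fun x hx => by
      obtain ⟨h1, h2⟩ := (hR.core.mem_W H.ts_comm.symm).1 hx
      exact mem_Dt.2 ⟨h1, commute_of_cj (h2.resolve_right (hcon x h1))⟩
    have := card_le_of_le hle
    omega
  refine H.conj_s_t.trans (isConj_iff.2 ⟨r, ?_⟩)
  show cj r t = z
  calc cj r t = t * cj t r * r⁻¹ := by
        simp only [cj, inv_of_sq H.tt, ← mul_assoc, H.tt, one_mul]
    _ = z := by rw [hrt, ← (hR.core.le r hr).eq, ← mul_assoc, mul_inv_cancel_right, H.ts]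

/-- The odd part is trivial. -/
theorem two_O (hT : TI s R O) (h32 : Nat.card R = 32) {f : G} (hf : Iv s t e h f) (hS : Sec s R f)
    (hfs : f ≠ s) (hc : ∀ x ∈ Dg a R, Commute f x) : O = ⊥ := by
  classical
  by_contra hO
  have hR := hT.rad
  obtain ⟨Rf, Of, hTf, -, hOf, -, -, -, -, -, -⟩ := H.radF hT (le_of_eq h32.symm) hf hS hfs hc
  have hle : O ≤ Of := fun w hw => hTf.oddO (hT.comm f hS.1 w hw) hT.Oodd hT.O3
    (congrArg Subtype.val (pow_card_eq_one' (x := (⟨w, hw⟩ : O))))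
  obtain rfl : O = Of := eq_of_le_of_card_ge hle hOf.le
  obtain ⟨φ, hφ⟩ := H.exists_psi hf
  have hfd : Commute f (φ Md.d6) := by
    rw [← hφ.f]; exact (show Commute Md.f Md.d6 from Md.radF_facts.2.2).map φ
  obtain ⟨d, hd⟩ : ∃ d, d = φ Md.d6 := ⟨_, rfl⟩
  rw [← hd] at hfd
  have he : ∀ y ∈ ZO O, cj e y ∈ ZO O := fun y hy => hT.ZO_norm H.se hy
  have hd' : ∀ y ∈ ZO O, cj d y ∈ ZO O := fun y hy => hTf.ZO_norm hfd hy
  have hh : ∀ y ∈ ZO O, cj h y ∈ ZO O := fun y hy => by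
    have hw := congrArg φ Md.h_word
    simp only [map_mul, hφ.e, hφ.h, ← hd] at hw
    rw [← hw]
    simp only [← cj_cj]
    exact he _ (he _ (hd' _ (he _ (he _ (hd' _ (hd' _ (he _ (hd' _ (hd' _ (he _ (he _ (hd' y hy))))))))))))
  have hab : IsMulCommutative (ZO O) :=
    ⟨⟨fun x y => Subtype.ext (ZO_comm x.2 y.2).eq⟩⟩
  have h3 : ¬ 3 ∣ Nat.card (ZO O) := fun h0 => hT.O3 (h0.trans (card_dvd_of_le inf_le_left))
  have hbot := H.eq_bot hab h3 he hh
  obtain ⟨y, hy, hy1⟩ := hT.ZO_ne_bot hO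
  rw [hbot, mem_bot] at hy
  exact hy1 hy

end Cfg

end Cfsg.Agent.M11ThreeLocal
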