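import Cfsg.Agent.M11ThreeLocal.Core
import Cfsg.Agent.M11ThreeLocal.Crit
import Cfsg.Agent.SelfCentThree.Main

/-!
# The three shapes of the centraliser of an involution
-/

set_option autoImplicit false
set_option linter.unusedSectionVars false

namespace Cfsg.Agent.M11ThreeLocal

open Subgroup

variable {G : Type*} [Group G] [Finite G]

/-- First shape: the quotient by the nilpotent radical is the symmetric group on three letters. -/
structure TI (v : G) (R O : Subgroup G) : Prop where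
  core : Core v R
  Ole : ∀ w ∈ O, Commute v w
  Onorm : ∀ g, Commute v g → ∀ w ∈ O, cj g w ∈ O
  Oodd : ¬ 2 ∣ Nat.card O
  O3 : ¬ 3 ∣ Nat.card O
  Onil : Group.IsNilpotent O
  comm : ∀ r ∈ R, ∀ w ∈ O, Commute r w
  hom : ∃ φ : centralizer ({v} : Set G) →* Equiv.Perm (Fin 3), Function.Surjective φ ∧
    ∀ x, φ x = 1 ↔ ∃ r ∈ R, ∃ w ∈ O, (x : G) = r * w

/-- Second shape: the quotient is the alternating group on five letters. -/
structure TII (v : G) (R : Subgroup G) : Prop where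
  core : Core v R
  sqR : ∀ r ∈ R, r * r ∈ zpowers v
  hom : ∃ φ : centralizer ({v} : Set G) →* alternatingGroup (Fin 5), Function.Surjective φ ∧
    ∀ x, φ x = 1 ↔ (x : G) ∈ R

/-- Third shape. -/
def TIII (v : G) : Prop :=
  ∃ φ : centralizer ({v} : Set G) →* Matrix.ProjectiveSpecialLinearGroup (Fin 2) (ZMod 7),
    Function.Surjective φ ∧ ∀ x, φ x = 1 ↔ (x : G) ∈ zpowers v

/-- Transport of a homomorphism on a centraliser. -/
def centConj (c v : G) : centralizer ({cj c v} : Set G) →* centralizer ({v} : Set G) where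
  toFun x := ⟨cj c⁻¹ x, mem_L.2 (by
    have h := cj_commute c⁻¹ (mem_L.1 x.2)
    rwa [cj_inv_cj] at h)⟩
  map_one' := Subtype.ext (cj_one _)
  map_mul' x y := Subtype.ext (cj_mul _ _ _)

theorem centConj_surjective (c v : G) : Function.Surjective (centConj c v) := fun x =>
  ⟨⟨cj c x, mem_L.2 (cj_commute c (mem_L.1 x.2))⟩, Subtype.ext (cj_inv_cj c x)⟩

theorem mem_map_cj {c x : G} {R : Subgroup G} :
    x ∈ R.map (MulAut.conj c).toMonoidHom ↔ cj c⁻¹ x ∈ R := by
  refine ⟨?_, fun h => ⟨_, h, cj_cj_inv c x⟩⟩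
  rintro ⟨r, hr, rfl⟩
  show cj c⁻¹ (cj c r) ∈ R
  rwa [cj_inv_cj]

theorem TI.map {v : G} {R O : Subgroup G} (h : TI v R O) (c : G) :
    TI (cj c v) (R.map (MulAut.conj c).toMonoidHom) (O.map (MulAut.conj c).toMonoidHom) where
  core := h.core.map c
  Ole := by rintro _ ⟨w, hw, rfl⟩; exact cj_commute c (h.Ole w hw)
  Onorm := by
    intro g hg w hw
    rw [mem_map_cj] at hw ⊢
    have h1 := cj_commute c⁻¹ hg
    rw [cj_inv_cj] at h1
    have h2 := h.Onorm _ h1 _ hw
    rwa [show cj (cj c⁻¹ g) (cj c⁻¹ w) = cj c⁻¹ (cj g w) by simp only [cj]; group] at h2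
  Oodd := by rw [card_map_of_injective (MulAut.conj c).injective]; exact h.Oodd
  O3 := by rw [card_map_of_injective (MulAut.conj c).injective]; exact h.O3
  Onil := by
    have := h.Onil
    exact Group.nilpotent_of_mulEquiv (O.equivMapOfInjective _ (MulAut.conj c).injective)
  comm := by
    rintro _ ⟨r, hr, rfl⟩ _ ⟨w, hw, rfl⟩
    exact cj_commute c (h.comm r hr w hw)
  hom := by
    obtain ⟨φ, hs, hk⟩ := h.hom
    refine ⟨φ.comp (centConj c v), hs.comp (centConj_surjective c v), fun x => (hk _).trans ⟨?_, ?_⟩⟩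
    · rintro ⟨r, hr, w, hw, he⟩
      refine ⟨cj c r, ⟨r, hr, rfl⟩, cj c w, ⟨w, hw, rfl⟩, ?_⟩
      rw [← cj_mul, ← he]
      exact (cj_cj_inv c x).symm
    · rintro ⟨_, ⟨r, hr, rfl⟩, _, ⟨w, hw, rfl⟩, he⟩
      refine ⟨r, hr, w, hw, ?_⟩
      show cj c⁻¹ (x : G) = r * w
      rw [he]
      show cj c⁻¹ (cj c r * cj c w) = r * w
      rw [← cj_mul, cj_inv_cj]

theorem TII.map {v : G} {R : Subgroup G} (h : TII v R) (c : G) :
    TII (cj c v) (R.map (MulAut.conj c).toMonoidHom) where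
  core := h.core.map c
  sqR := by
    rintro _ ⟨r, hr, rfl⟩
    show cj c r * cj c r ∈ zpowers (cj c v)
    rw [← cj_mul]
    obtain ⟨i, hi⟩ := mem_zpowers_iff.1 (h.sqR r hr)
    exact ⟨i, by rw [← hi]; exact conj_zpow⟩
  hom := by
    obtain ⟨φ, hs, hk⟩ := h.hom
    exact ⟨φ.comp (centConj c v), hs.comp (centConj_surjective c v), fun x => (hk _).trans mem_map_cj.symm⟩

namespace TI

variable {v : G} {R O : Subgroup G}

theorem memR (h : TI v R O) {r w : G} (hr : r ∈ R) (hw : w ∈ O) (h2 : Two (r * w)) : w = 1 := by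
  have hr2 := Two.of_isPGroup h.core.two hr
  have hc : Commute r⁻¹ (r * w) := (Commute.refl r).inv_left.mul_right (h.comm r hr w hw).inv_left
  have := hr2.inv.mul hc h2
  rw [inv_mul_cancel_left] at this
  exact this.eq_one_of_mem h.Oodd hw

theorem unique (h : TI v R O) {r r' w w' : G} (hr : r ∈ R) (hr' : r' ∈ R) (hw : w ∈ O) (hw' : w' ∈ O)
    (he : r * w = r' * w') : r = r' ∧ w = w' := by
  have h1 : r'⁻¹ * r = w' * w⁻¹ := by
    rw [eq_mul_inv_iff_mul_eq, mul_assoc, he, inv_mul_cancel_left]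
  have h2 : r'⁻¹ * r = 1 := (Two.of_isPGroup h.core.two (mul_mem (inv_mem hr') hr)).eq_one_of_mem h.Oodd
    (h1 ▸ mul_mem hw' (inv_mem hw))
  have h3 := (inv_mul_eq_one.1 h2).symm
  subst h3
  exact ⟨rfl, mul_left_cancel he⟩

/-- The order of the centraliser. -/
theorem card (h : TI v R O) :
    Nat.card (centralizer ({v} : Set G)) = 6 * (Nat.card R * Nat.card O) := by
  obtain ⟨φ, hs, hk⟩ := h.hom
  have h1 := card_eq_card_quotient_mul_card_subgroup φ.ker
  rw [Nat.card_congr (QuotientGroup.quotientKerEquivOfSurjective φ hs).toEquiv, Nat.card_perm,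
    Nat.card_fin] at h1
  rw [h1]
  congr 1
  let F : R × O → φ.ker := fun p =>
    ⟨⟨p.1 * p.2, mem_L.2 ((h.core.le p.1 p.1.2).mul_right (h.Ole p.2 p.2.2))⟩,
      MonoidHom.mem_ker.2 ((hk _).2 ⟨p.1, p.1.2, p.2, p.2.2, rfl⟩)⟩
  rw [← Nat.card_prod]
  refine (Nat.card_congr (Equiv.ofBijective F ⟨fun p q hpq => ?_, fun x => ?_⟩)).symm
  · obtain ⟨h2, h3⟩ := h.unique p.1.2 q.1.2 p.2.2 q.2.2
      (congrArg (fun y : φ.ker => ((y : centralizer ({v} : Set G)) : G)) hpq)
    exact Prod.ext (Subtype.ext h2) (Subtype.ext h3)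
  · obtain ⟨r, hr, w, hw, he⟩ := (hk _).1 (MonoidHom.mem_ker.1 x.2)
    exact ⟨(⟨r, hr⟩, ⟨w, hw⟩), Subtype.ext (Subtype.ext he.symm)⟩

/-- The square of a two-element lies in `R`. -/
theorem sq2 (h : TI v R O) {x : G} (hx : Commute v x) (h2 : Two x) : x * x ∈ R := by
  obtain ⟨φ, -, hk⟩ := h.hom
  have h1 : φ ⟨x * x, mem_L.2 (hx.mul_right hx)⟩ = 1 := by
    rw [show (⟨x * x, mem_L.2 (hx.mul_right hx)⟩ : centralizer ({v} : Set G)) =
      ⟨x, mem_L.2 hx⟩ * ⟨x, mem_L.2 hx⟩ from rfl, map_mul]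
    refine Two.s3_sq (Two.map φ ?_)
    obtain ⟨n, hn⟩ := h2
    exact ⟨n, Subtype.ext hn⟩
  obtain ⟨r, hr, w, hw, he⟩ := (hk _).1 h1
  have he' : x * x = r * w := he
  have hw1 := h.memR hr hw (he' ▸ h2.mul (Commute.refl x) h2)
  rw [he', hw1, mul_one]
  exact hr

/-- Two two-elements outside `R` whose product is a two-element. -/
theorem mul2 (h : TI v R O) {x y : G} (hx : Commute v x) (hy : Commute v y) (h2x : Two x) (h2y : Two y)
    (hxR : x ∉ R) (hyR : y ∉ R) (h2 : Two (x * y)) : x * y ∈ R := by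
  obtain ⟨φ, -, hk⟩ := h.hom
  have key : ∀ {u : G} (hu : Commute v u), Two u → φ ⟨u, mem_L.2 hu⟩ = 1 → u ∈ R := fun {u} hu hu2 h1 => by
    obtain ⟨r, hr, w, hw, he⟩ := (hk _).1 h1
    have he' : u = r * w := he
    rw [he', h.memR hr hw (he' ▸ hu2), mul_one]
    exact hr
  have tw : ∀ {u : G} (hu : Commute v u), Two u → φ ⟨u, mem_L.2 hu⟩ * φ ⟨u, mem_L.2 hu⟩ = 1 :=
    fun {u} hu hu2 => Two.s3_sq (Two.map φ (by obtain ⟨n, hn⟩ := hu2; exact ⟨n, Subtype.ext hn⟩))
  refine key (hx.mul_right hy) h2 ?_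
  have h3 := tw (hx.mul_right hy) h2
  rw [show (⟨x * y, mem_L.2 (hx.mul_right hy)⟩ : centralizer ({v} : Set G)) =
    ⟨x, mem_L.2 hx⟩ * ⟨y, mem_L.2 hy⟩ from rfl, map_mul] at h3 ⊢
  rw [s3_prod _ _ (tw hx h2x) (tw hy h2y) h3 (fun e => hxR (key hx h2x e)) (fun e => hyR (key hy h2y e)),
    tw hy h2y]

/-- Elements of order prime to six lie in `O`. -/
theorem oddO (h : TI v R O) {x : G} (hx : Commute v x) {n : ℕ} (h2 : ¬ 2 ∣ n) (h3 : ¬ 3 ∣ n)
    (hn : x ^ n = 1) : x ∈ O := by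
  obtain ⟨φ, -, hk⟩ := h.hom
  have h1 : φ ⟨x, mem_L.2 hx⟩ = 1 := by
    have hc : n.Coprime 6 := Nat.Coprime.mul_right
      (show n.Coprime 2 from (Nat.prime_two.coprime_iff_not_dvd.2 h2).symm)
      (show n.Coprime 3 from (Nat.prime_three.coprime_iff_not_dvd.2 h3).symm)
    have hd := Nat.dvd_gcd (orderOf_dvd_of_pow_eq_one (x := φ ⟨x, mem_L.2 hx⟩) (n := n) (by
      rw [← map_pow, show (⟨x, mem_L.2 hx⟩ : centralizer ({v} : Set G)) ^ n = 1 from Subtype.ext hn,
        map_one])) (orderOf_dvd_of_pow_eq_one (s3_coprime (φ ⟨x, mem_L.2 hx⟩)))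
    rw [hc.gcd_eq_one, Nat.dvd_one, orderOf_eq_one_iff] at hd
    exact hd
  obtain ⟨r, hr, w, hw, he⟩ := (hk _).1 h1
  have he' : x = r * w := he
  have hr1 : r = 1 := by
    have hrn : r ^ n * w ^ n = 1 := by rw [← (h.comm r hr w hw).mul_pow, ← he', hn]
    have hw' : w ^ n = 1 := Two.eq_one_of_mem (Two.of_isPGroup h.core.two (by
      rw [← inv_mul_cancel_left (r ^ n) (w ^ n), hrn, mul_one]
      exact inv_mem (pow_mem hr n))) h.Oodd (pow_mem hw n)
    refine (Two.of_isPGroup h.core.two hr).eq_one_of_odd h2 ?_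
    rwa [hw', mul_one] at hrn
  rw [he', hr1, one_mul]
  exact hw

/-- The criterion for an involution to lie in `R`. -/
theorem inner (h : TI v R O) {d τ p : G} (hd : d ^ 3 = 1) (hd1 : d ≠ 1) (hvd : Commute v d)
    (hvt : Commute v τ) (hτd : cj τ d = d⁻¹) (hvp : Commute v p) (hp : p * p = 1) (hτp : Commute τ p)
    (hpp : Commute p (cj d p)) (_hprod : p * cj d p * cj d (cj d p) = 1) : p ∈ R := by
  obtain ⟨φ, -, hk⟩ := h.hom
  obtain ⟨D, hD⟩ : ∃ D : centralizer ({v} : Set G), (D : G) = d := ⟨⟨d, mem_L.2 hvd⟩, rfl⟩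
  obtain ⟨T, hT⟩ : ∃ T : centralizer ({v} : Set G), (T : G) = τ := ⟨⟨τ, mem_L.2 hvt⟩, rfl⟩
  obtain ⟨P, hP⟩ : ∃ P : centralizer ({v} : Set G), (P : G) = p := ⟨⟨p, mem_L.2 hvp⟩, rfl⟩
  have hD1 : φ D ≠ 1 := fun h0 => by
    obtain ⟨r, hr, w, hw, he⟩ := (hk _).1 h0
    rw [hD] at he
    have hO : d ∈ O := by
      have hr1 : r = 1 := by
        have hdr : r ^ 3 * w ^ 3 = 1 := by rw [← (h.comm r hr w hw).mul_pow, ← he, hd]
        have hw3 : w ^ 3 = 1 := Two.eq_one_of_mem (Two.of_isPGroup h.core.two (by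
          rw [← inv_mul_cancel_left (r ^ 3) (w ^ 3), hdr, mul_one]
          exact inv_mem (pow_mem hr 3))) h.Oodd (pow_mem hw 3)
        rw [hw3, mul_one] at hdr
        exact (Two.of_isPGroup h.core.two hr).eq_one_of_odd (n := 3) (by norm_num) hdr
      rw [he, hr1, one_mul]
      exact hw
    exact hd1 (eq_one_of_cube h.O3 hO hd)
  have hφ := s3_crit (φ D) (φ T) (φ P)
    (by rw [← map_pow, show D ^ 3 = 1 from Subtype.ext (by simp [hD, hd]), map_one]) hD1
    (by
      rw [← map_inv, ← map_inv, ← map_mul, ← map_mul]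
      exact congrArg φ (Subtype.ext (by simp only [coe_mul, InvMemClass.coe_inv, hD, hT]; exact hτd)))
    (by rw [← map_mul, show P * P = 1 from Subtype.ext (by simp [hP, hp]), map_one])
    (by rw [← map_mul, ← map_mul]; exact congrArg φ (Subtype.ext (by simp [hT, hP, hτp.eq])))
    (by
      simp only [← map_inv, ← map_mul]
      exact congrArg φ (Subtype.ext (by simp only [coe_mul, InvMemClass.coe_inv, hD, hP]; exact hpp.eq)))
  obtain ⟨r, hr, w, hw, he⟩ := (hk _).1 hφ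
  rw [hP] at he
  rw [he, h.memR hr hw (he ▸ Two.of_sq hp), mul_one]
  exact hr

end TI

namespace TII

variable {v : G} {R : Subgroup G}

theorem card (h : TII v R) : Nat.card (centralizer ({v} : Set G)) = 60 * Nat.card R := by
  obtain ⟨φ, hs, hk⟩ := h.hom
  have hRL : R ≤ centralizer ({v} : Set G) := fun r hr => mem_L.2 (h.core.le r hr)
  have hker : φ.ker = R.subgroupOf (centralizer ({v} : Set G)) := by
    ext x
    rw [MonoidHom.mem_ker, mem_subgroupOf]
    exact hk x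
  have h1 := card_eq_card_quotient_mul_card_subgroup φ.ker
  rw [Nat.card_congr (QuotientGroup.quotientKerEquivOfSurjective φ hs).toEquiv, nat_card_alternatingGroup,
    Nat.card_fin, hker, Nat.card_congr (subgroupOfEquivOfLe hRL).toEquiv] at h1
  rw [h1]
  rfl

theorem sq2 (h : TII v R) {x : G} (hx : Commute v x) (h2 : Two x) : x * x ∈ R := by
  obtain ⟨φ, -, hk⟩ := h.hom
  refine (hk ⟨x * x, mem_L.2 (hx.mul_right hx)⟩).1 ?_
  rw [show (⟨x * x, mem_L.2 (hx.mul_right hx)⟩ : centralizer ({v} : Set G)) =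
    ⟨x, mem_L.2 hx⟩ * ⟨x, mem_L.2 hx⟩ from rfl, map_mul]
  refine Two.a5_sq (Two.map φ ?_)
  obtain ⟨n, hn⟩ := h2
  exact ⟨n, Subtype.ext hn⟩

theorem inner (h : TII v R) {d τ p : G} (hd : d ^ 3 = 1) (hd1 : d ≠ 1) (hvd : Commute v d)
    (hvt : Commute v τ) (hτd : cj τ d = d⁻¹) (hvp : Commute v p) (hp : p * p = 1) (hτp : Commute τ p)
    (hpp : Commute p (cj d p)) (hprod : p * cj d p * cj d (cj d p) = 1) : p ∈ R := by
  obtain ⟨φ, -, hk⟩ := h.hom
  obtain ⟨D, hD⟩ : ∃ D : centralizer ({v} : Set G), (D : G) = d := ⟨⟨d, mem_L.2 hvd⟩, rfl⟩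
  obtain ⟨T, hT⟩ : ∃ T : centralizer ({v} : Set G), (T : G) = τ := ⟨⟨τ, mem_L.2 hvt⟩, rfl⟩
  obtain ⟨P, hP⟩ : ∃ P : centralizer ({v} : Set G), (P : G) = p := ⟨⟨p, mem_L.2 hvp⟩, rfl⟩
  have hD3 : D ^ 3 = 1 := Subtype.ext (by simp [hD, hd])
  have hD1 : φ D ≠ 1 := fun h0 => by
    have h1 := (Two.of_isPGroup h.core.two ((hk D).1 h0)).eq_one_of_odd (n := 3) (by norm_num)
      (by rw [hD]; exact hd)
    exact hd1 (hD ▸ h1)
  rw [← hP]
  refine (hk P).1 ?_
  by_contra hP1
  refine a5_crit (φ P) (by rw [← map_mul, show P * P = 1 from Subtype.ext (by simp [hP, hp]), map_one])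
    hP1 (φ D) (by rw [← map_pow, hD3, map_one]) hD1 ?_ ?_ (φ T) ?_ ?_
  · simp only [← map_inv, ← map_mul]
    exact congrArg φ (Subtype.ext (by simp only [coe_mul, InvMemClass.coe_inv, hD, hP]; exact hpp.eq))
  · simp only [← map_inv, ← map_mul]
    rw [← map_one φ]
    exact congrArg φ (Subtype.ext (by
      simp only [coe_mul, InvMemClass.coe_inv, OneMemClass.coe_one, hD, hP]; exact hprod))
  · rw [← map_mul, ← map_mul]
    exact congrArg φ (Subtype.ext (by simp [hT, hP, hτp.eq]))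
  · rw [← map_inv, ← map_inv, ← map_mul, ← map_mul]
    exact congrArg φ (Subtype.ext (by simp only [coe_mul, InvMemClass.coe_inv, hD, hT]; exact hτd))

end TII

namespace Cfg

variable {M : Subgroup G} {e h s t z a : G} (H : Cfg M e h s t z a)

include H

/-- The three shapes. -/
theorem local_cases : (∃ R O : Subgroup G, TI s R O) ∨ (∃ R : Subgroup G, TII s R) ∨ TIII s := by
  classical
  have heL : e ∈ centralizer ({s} : Set G) := mem_L.2 H.se
  have htL : t ∈ centralizer ({s} : Set G) := mem_L.2 H.ts_comm.symm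
  have hSc := H.sc_bar H.s_sq H.s_ne H.e3 H.e_ne heL
  set π := QuotientGroup.mk' (Zc s) with hπ
  have hπs : Function.Surjective π := QuotientGroup.mk'_surjective _
  have hker : ∀ x : centralizer ({s} : Set G), π x = 1 ↔ (x : G) ∈ zpowers s := fun x => by
    rw [hπ, QuotientGroup.mk'_apply, QuotientGroup.eq_one_iff, mem_subgroupOf]
  have hz : π.ker ≤ center (centralizer ({s} : Set G)) := fun x hx => by
    rw [mem_center_iff]
    intro g
    refine Subtype.ext ?_
    obtain ⟨i, hi⟩ := mem_zpowers_iff.1 ((hker x).1 (MonoidHom.mem_ker.1 hx))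
    show (g : G) * x = x * g
    rw [← hi]
    exact ((mem_L.1 g.2).zpow_left i).eq.symm
  rcases SelfCentThree.concl _ _ rfl _ hSc with ⟨N, hN, hnil, hcop, hq⟩ | ⟨N, hN, hab, hN2, ⟨ε⟩⟩ | ⟨⟨ε⟩⟩
  · left
    have hS3 : Nonempty ((centralizer ({s} : Set G) ⧸ Zc s) ⧸ N ≃* Equiv.Perm (Fin 3)) := by
      refine hq.resolve_left fun h3 => ?_
      have := isCyclic_of_prime_card (p := 3) (hp := ⟨Nat.prime_three⟩) h3
      set E := QuotientGroup.mk' N (π ⟨e, heL⟩) with hE
      have h1 : E = E⁻¹ := by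
        have hte : (⟨t, htL⟩ : centralizer ({s} : Set G)) * ⟨e, heL⟩ * (⟨t, htL⟩)⁻¹ = (⟨e, heL⟩)⁻¹ :=
          Subtype.ext H.te
        have h2 := congrArg ((QuotientGroup.mk' N).comp π) hte
        rw [map_mul, map_mul, map_inv, map_inv] at h2
        change _ * E * _ = E⁻¹ at h2
        rwa [(IsCyclic.isMulCommutative (α := (centralizer ({s} : Set G) ⧸ Zc s) ⧸ N)).is_comm.comm _ E,
          mul_inv_cancel_right] at h2
      have h4 : E ^ 3 = 1 := by rw [hE, ← map_pow, ← map_pow,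
        show (⟨e, heL⟩ : centralizer ({s} : Set G)) ^ 3 = 1 from Subtype.ext H.e3, map_one, map_one]
      have h5 : E = 1 := eq_one_of_sq_cube (by nth_rewrite 1 [h1]; exact inv_mul_cancel E) h4
      rw [hE, QuotientGroup.mk'_apply, QuotientGroup.eq_one_iff] at h5
      exact hSc.ne (eq_one_of_cube (fun h => Nat.prime_three.ne_one (Nat.Coprime.eq_one_of_dvd hcop.symm h))
        h5 hSc.cube)
    obtain ⟨ε⟩ := hS3
    set φ := ε.toMonoidHom.comp ((QuotientGroup.mk' N).comp π) with hφ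
    have hφs : Function.Surjective φ := ε.surjective.comp ((QuotientGroup.mk'_surjective N).comp hπs)
    have hφker : φ.ker = N.comap π := by
      ext x
      rw [MonoidHom.mem_ker, mem_comap]
      show ε _ = 1 ↔ _
      rw [map_eq_one_iff ε ε.injective]
      exact QuotientGroup.eq_one_iff _
    have hKnil : Group.IsNilpotent (N.comap π) := by
      let f : N.comap π →* N := π.subgroupComap N
      have hf : f.ker ≤ center (N.comap π) := fun x hx => by
        rw [mem_center_iff]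
        intro g
        have hx' : (x : centralizer ({s} : Set G)) ∈ π.ker :=
          MonoidHom.mem_ker.2 (congrArg Subtype.val (MonoidHom.mem_ker.1 hx))
        exact Subtype.ext (mem_center_iff.1 (hz hx') g)
      exact Subgroup.isNilpotent_of_ker_le_center f hf
    set K : Subgroup G := (N.comap π).map (centralizer ({s} : Set G)).subtype with hK
    have hKn : Group.IsNilpotent K :=
      Group.nilpotent_of_mulEquiv ((N.comap π).equivMapOfInjective _ (centralizer ({s} : Set G)).subtype_injective)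
    obtain ⟨R, O, hsp⟩ := exists_split K hKn
    have hmemK : ∀ {x : G}, x ∈ K → ∃ hx : x ∈ centralizer ({s} : Set G), φ ⟨x, hx⟩ = 1 := fun hx => by
      obtain ⟨y, hy, rfl⟩ := hx
      exact ⟨y.2, MonoidHom.mem_ker.1 (hφker ▸ hy)⟩
    have hKnorm : ∀ g, Commute s g → ∀ x ∈ K, cj g x ∈ K := fun g hg x hx => by
      obtain ⟨y, hy, rfl⟩ := hx
      refine ⟨⟨g, mem_L.2 hg⟩ * y * (⟨g, mem_L.2 hg⟩)⁻¹, ?_, rfl⟩
      rw [SetLike.mem_coe, ← hφker, MonoidHom.mem_ker] at hy ⊢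
      rw [map_mul, map_mul, hy, mul_one, map_inv, mul_inv_cancel]
    have hsK : s ∈ K := ⟨⟨s, mem_L.2 (Commute.refl s)⟩, by
      rw [SetLike.mem_coe, mem_comap, (hker _).2 (mem_zpowers s)]; exact one_mem N, rfl⟩
    have hKL : ∀ x ∈ K, Commute s x := fun x hx => mem_L.1 (hmemK hx).1
    have hK3 : ¬ 3 ∣ Nat.card K := fun h3 => by
      have : Fact (Nat.Prime 3) := ⟨Nat.prime_three⟩
      obtain ⟨⟨x, hx⟩, hxo⟩ := exists_prime_orderOf_dvd_card' 3 h3
      rw [orderOf_mk] at hxo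
      obtain ⟨y, hy, rfl⟩ := hx
      have hy3 : y ^ 3 = 1 := Subtype.ext (by
        have := pow_orderOf_eq_one ((centralizer ({s} : Set G)).subtype y)
        rw [hxo] at this
        simpa using this)
      have h1 : π y = 1 := eq_one_of_cube
        (fun h => Nat.prime_three.ne_one (Nat.Coprime.eq_one_of_dvd hcop.symm h)) hy (by
          rw [← map_pow, hy3, map_one])
      rcases (mem_zpowers_invol H.s_sq).1 ((hker y).1 h1) with e' | e'
      · rw [show (centralizer ({s} : Set G)).subtype y = 1 from e', orderOf_one] at hxo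
        omega
      · rw [show (centralizer ({s} : Set G)).subtype y = s from e'] at hxo
        have h2 := pow_orderOf_eq_one s
        rw [hxo] at h2
        exact H.s_ne (eq_one_of_sq_cube H.s_sq h2)
    refine ⟨R, O,
      { core := ⟨H.s_sq, H.s_ne, hsp.memR s hsK (Two.of_sq H.s_sq), fun r hr => hKL r (hsp.leR hr),
          hsp.two, fun g hg r hr => hsp.memR _ (hKnorm g hg r (hsp.leR hr))
            ((Two.of_isPGroup hsp.two hr).conj g)⟩
        Ole := fun w hw => hKL w (hsp.leO hw)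
        Onorm := fun g hg w hw => hsp.memO _ (hKnorm g hg w (hsp.leO hw)) (Nat.card O) hsp.odd (by
          rw [cj_pow, show w ^ Nat.card O = 1 from
            congrArg Subtype.val (pow_card_eq_one' (x := (⟨w, hw⟩ : O))), cj_one])
        Oodd := hsp.odd
        O3 := fun h3 => hK3 (h3.trans (card_dvd_of_le hsp.leO))
        Onil := Group.nilpotent_of_mulEquiv (G := O.subgroupOf K) (subgroupOfEquivOfLe hsp.leO)
        comm := hsp.comm
        hom := ⟨φ, hφs, fun x => ⟨fun hx => ?_, ?_⟩⟩ }⟩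
    · refine hsp.prod _ ⟨x, ?_, rfl⟩
      rw [SetLike.mem_coe, ← hφker]
      exact MonoidHom.mem_ker.2 hx
    · rintro ⟨r, hr, w, hw, he⟩
      obtain ⟨hx', h1⟩ := hmemK (mul_mem (hsp.leR hr) (hsp.leO hw))
      rw [← h1]
      exact congrArg φ (Subtype.ext he)
  · right; left
    refine ⟨(N.comap π).map (centralizer ({s} : Set G)).subtype, ?_⟩
    have hsq : ∀ r ∈ (N.comap π).map (centralizer ({s} : Set G)).subtype, r * r ∈ zpowers s := by
      rintro _ ⟨y, hy, rfl⟩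
      exact (hker (y * y)).1 (by rw [map_mul, ← sq]; exact hN2 _ hy)
    refine { core := ⟨H.s_sq, H.s_ne, ?_, ?_, ?_, ?_⟩, sqR := hsq, hom := ?_ }
    · exact ⟨⟨s, mem_L.2 (Commute.refl s)⟩, by
        rw [SetLike.mem_coe, mem_comap, (hker _).2 (mem_zpowers s)]; exact one_mem N, rfl⟩
    · rintro _ ⟨y, -, rfl⟩
      exact mem_L.1 y.2
    · rintro ⟨r, hr⟩
      refine ⟨2, Subtype.ext ?_⟩
      show r ^ 2 ^ 2 = 1
      obtain ⟨i, hi⟩ := mem_zpowers_iff.1 (hsq r hr)
      rw [show (2 : ℕ) ^ 2 = 2 * 2 from rfl, pow_mul, sq r, ← hi, ← zpow_natCast, ← zpow_mul, mul_comm,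
        zpow_mul, zpow_natCast, sq, H.s_sq, one_zpow]
    · intro g hg x hx
      obtain ⟨y, hy, rfl⟩ := hx
      refine ⟨⟨g, mem_L.2 hg⟩ * y * (⟨g, mem_L.2 hg⟩)⁻¹, ?_, rfl⟩
      rw [SetLike.mem_coe, mem_comap, map_mul, map_mul, map_inv]
      exact hN.conj_mem _ hy _
    · refine ⟨ε.toMonoidHom.comp ((QuotientGroup.mk' N).comp π),
        ε.surjective.comp ((QuotientGroup.mk'_surjective N).comp hπs), fun x => ?_⟩
      show ε _ = 1 ↔ _
      rw [map_eq_one_iff ε ε.injective]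
      refine (QuotientGroup.eq_one_iff _).trans ⟨fun hx => ⟨x, hx, rfl⟩, ?_⟩
      rintro ⟨y, hy, hxy⟩
      rw [← Subtype.ext hxy]
      exact hy
  · right; right
    refine ⟨ε.toMonoidHom.comp π, ε.surjective.comp hπs, fun x => ?_⟩
    show ε _ = 1 ↔ _
    rw [map_eq_one_iff ε ε.injective]
    exact hker x

end Cfg

end Cfsg.Agent.M11ThreeLocal
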