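import Cfsg.Agent.S2530
import Mathlib.GroupTheory.SpecificGroups.Alternating.Simple

/-!
# The symmetric group on six letters as the model
-/

set_option autoImplicit false

namespace Cfsg.Agent.M11ThreeLocal

open Equiv

/-- The symmetric group on six letters. -/
abbrev S6 := Perm (Fin 6)

namespace Md

def s : S6 := swap 0 1
def t : S6 := swap 4 5
def z : S6 := s * t
def te : S6 := swap 3 4
def sh : S6 := swap 1 2
def u : S6 := swap 2 3
def e : S6 := t * te
def h : S6 := s * sh
def f : S6 := z * u
def rev : S6 := swap 0 5 * swap 1 4 * swap 2 3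
/-- The model of the square of `a`. -/
def a2 : S6 := rev * s

theorem rev_facts :
    rev * rev = 1 ∧ rev * s * rev⁻¹ = t ∧ rev * t * rev⁻¹ = s ∧ rev * e * rev⁻¹ = h ∧ rev * h * rev⁻¹ = e ∧
      rev * f * rev⁻¹ = f ∧ t * f * t⁻¹ = f ∧ t * rev = a2 ∧ rev * z = z * rev := by
  decide +kernel

theorem e_h_comm : e * h = h * e := by decide +kernel

end Md

/-- Relations of the images of the five adjacent transpositions. -/
structure Rels {G : Type*} [Group G] (r : Fin 5 → G) : Prop where
  sq : ∀ i, r i * r i = 1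
  br : ∀ i j : Fin 5, (i : ℕ) + 1 = j → (r i * r j) ^ 3 = 1
  cm : ∀ i j : Fin 5, (i : ℕ) + 1 < j → r i * r j = r j * r i

variable {G : Type*} [Group G]

/-- The homomorphism determined by the relations. -/
theorem exists_hom {r : Fin 5 → G} (hr : Rels r) :
    ∃ φ : S6 →* G, ∀ i : Fin 5, φ (swap i.castSucc i.succ) = r i := by
  obtain ⟨cs, hcs⟩ := S2530.result 5
  have hl : (CoxeterMatrix.A 5).IsLiftable r := by
    intro i j
    show (r i * r j) ^ (if i = j then 1 else if (j : ℕ) + 1 = i ∨ (i : ℕ) + 1 = j then 3 else 2) = 1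
    by_cases hij : i = j
    · subst hij; rw [if_pos rfl, pow_one, hr.sq]
    rw [if_neg hij]
    split_ifs with hadj
    · rcases hadj with h1 | h1
      · have h2 := hr.br j i h1
        rw [show r i * r j = (r j * r i)⁻¹ by
          rw [mul_inv_rev, inv_eq_of_mul_eq_one_right (hr.sq i), inv_eq_of_mul_eq_one_right (hr.sq j)],
          inv_pow, h2, inv_one]
      · exact hr.br i j h1
    · push Not at hadj
      have hne : (i : ℕ) ≠ j := fun h => hij (Fin.ext h)
      have hc : Commute (r i) (r j) := by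
        rcases Nat.lt_or_gt_of_ne hne with h1 | h1
        · exact hr.cm i j (by omega)
        · exact (hr.cm j i (by omega)).symm
      rw [hc.mul_pow, sq, sq, hr.sq, hr.sq, one_mul]
  refine ⟨cs.lift ⟨r, hl⟩, fun i => ?_⟩
  rw [← hcs i, CoxeterSystem.lift_apply_simple]

/-- A homomorphism from the model is injective as soon as it does not kill `h`. -/
theorem hom_injective (φ : S6 →* G) (hh : φ Md.h ≠ 1) : Function.Injective φ := by
  rw [injective_iff_map_eq_one]
  intro x hx
  have := alternatingGroup.isSimpleGroup (α := Fin 6) (by simp)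
  have hA : φ.ker.subgroupOf (alternatingGroup (Fin 6)) = ⊥ := by
    rcases IsSimpleGroup.eq_bot_or_eq_top_of_normal (φ.ker.subgroupOf (alternatingGroup (Fin 6)))
      inferInstance with h1 | h1
    · exact h1
    · have hm : Md.h ∈ alternatingGroup (Fin 6) := by
        rw [Perm.mem_alternatingGroup]; decide +kernel
      have h2 : (⟨Md.h, hm⟩ : alternatingGroup (Fin 6)) ∈ φ.ker.subgroupOf (alternatingGroup (Fin 6)) := by
        rw [h1]; exact Subgroup.mem_top _
      exact absurd (MonoidHom.mem_ker.1 (Subgroup.mem_subgroupOf.1 h2)) hh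
  have hall : ∀ y : S6, y * x = x * y := fun y => by
    have hm : y * x * y⁻¹ * x⁻¹ ∈ alternatingGroup (Fin 6) := by
      rw [Perm.mem_alternatingGroup]
      simp only [map_mul, map_inv]
      rw [mul_right_comm (Perm.sign y), mul_inv_cancel, one_mul, mul_inv_cancel]
    have h2 : (⟨y * x * y⁻¹ * x⁻¹, hm⟩ : alternatingGroup (Fin 6)) ∈
        φ.ker.subgroupOf (alternatingGroup (Fin 6)) := by
      rw [Subgroup.mem_subgroupOf, MonoidHom.mem_ker]; simp [hx]
    rw [hA, Subgroup.mem_bot] at h2
    exact mul_inv_eq_iff_eq_mul.1 (mul_inv_eq_one.1 (congrArg Subtype.val h2))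
  refine Equiv.ext fun i => ?_
  by_contra hne
  have hne' : x i ≠ i := hne
  obtain ⟨k, hki, hkx⟩ : ∃ k : Fin 6, k ≠ i ∧ k ≠ x i :=
    (by decide : ∀ i j : Fin 6, ∃ k, k ≠ i ∧ k ≠ j) i (x i)
  have h1 : x (swap i k i) = swap i k (x i) := (congrArg (fun p : S6 => p i) (hall (swap i k))).symm
  rw [swap_apply_left, swap_apply_of_ne_of_ne hne' (Ne.symm hkx)] at h1
  exact hki (x.injective h1)

end Cfsg.Agent.M11ThreeLocal
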