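import Cfsg.Agent.M11ThreeLocal.TwoZero

/-!
# The first shape: two-subgroups of the centraliser
-/

set_option autoImplicit false
set_option linter.unusedSectionVars false

namespace Cfsg.Agent.M11ThreeLocal

open Subgroup

variable {G : Type*} [Group G] [Finite G]

/-- A two-subgroup of the centraliser meets the radical in a subgroup of index at most two. -/
theorem TI.card_two_sub {v : G} {R O : Subgroup G} (h : TI v R O) {P : Subgroup G} (hP : IsPGroup 2 P)
    (hv : ∀ x ∈ P, Commute v x) : Nat.card P ≤ 2 * Nat.card (P ⊓ R : Subgroup G) :=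
  card_le_two_mul fun x hx y hy hxR hyR => ⟨mul_mem hx hy,
    h.mul2 (hv x hx) (hv y hy) (Two.of_isPGroup hP hx) (Two.of_isPGroup hP hy)
      (fun h' => hxR ⟨hx, h'⟩) (fun h' => hyR ⟨hy, h'⟩) (Two.of_isPGroup hP (mul_mem hx hy))⟩

theorem TI.card_two_le {v : G} {R O : Subgroup G} (h : TI v R O) {P : Subgroup G} (hP : IsPGroup 2 P)
    (hv : ∀ x ∈ P, Commute v x) : Nat.card P ≤ 2 * Nat.card R :=
  (h.card_two_sub hP hv).trans (Nat.mul_le_mul_left 2 (card_le_of_le inf_le_right))

variable {M : Subgroup G} {e h s t z a : G} {R O : Subgroup G}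

namespace Cfg

variable (H : Cfg M e h s t z a)

include H

/-- A two-element of the centraliser of `s` lying over the transposition of `t`. -/
theorem I_card_Dt (hT : TI s R O) : Nat.card (Dt t R) ≤ 2 * Nat.card (Dg a R) := by
  have hT' : TI t (R.map (MulAut.conj (a ^ 2)).toMonoidHom) (O.map (MulAut.conj (a ^ 2)).toMonoidHom) := by
    have h1 := hT.map (a ^ 2)
    rwa [H.a2_s] at h1
  have h1 := hT'.card_two_sub (P := Dt t R) (hT.core.two.to_le inf_le_left) fun x hx => (mem_Dt.1 hx).2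
  refine h1.trans (Nat.mul_le_mul_left 2 (card_le_of_le fun x hx => ⟨(mem_Dt.1 hx.1).1, hx.2⟩))

/-- The radical and `t` form a two-subgroup. -/
def Rt (hR : Rad s R) : Subgroup G where
  carrier := {x | x ∈ R ∨ t * x ∈ R}
  one_mem' := Or.inl (one_mem R)
  mul_mem' := by
    have hn : ∀ r ∈ R, cj t r ∈ R := hR.core.norm t H.ts_comm.symm
    rintro x y (hx | hx) (hy | hy)
    · exact Or.inl (mul_mem hx hy)
    · right
      have h1 : t * (x * y) = cj t x * (t * y) := by
        simp only [cj, mul_assoc, inv_mul_cancel_left]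
      rw [h1]; exact mul_mem (hn x hx) hy
    · right
      rw [← mul_assoc]; exact mul_mem hx hy
    · left
      have h1 : x * y = cj t (t * x) * (t * y) := by
        simp only [cj, inv_of_sq H.tt, mul_assoc]
        rw [← mul_assoc t t (x * _), H.tt, one_mul, ← mul_assoc t t y, H.tt, one_mul]
      rw [h1]; exact mul_mem (hn _ hx) hy
  inv_mem' := by
    have hn : ∀ r ∈ R, cj t r ∈ R := hR.core.norm t H.ts_comm.symm
    rintro x (hx | hx)
    · exact Or.inl (inv_mem hx)
    · right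
      have h1 : t * x⁻¹ = cj t (t * x)⁻¹ := by
        simp only [cj, inv_of_sq H.tt, mul_inv_rev, mul_assoc, H.tt, mul_one]
      rw [h1]; exact hn _ (inv_mem hx)

theorem mem_Rt {hR : Rad s R} {x : G} : x ∈ H.Rt hR ↔ x ∈ R ∨ t * x ∈ R := Iff.rfl

theorem Rt_comm (hR : Rad s R) {x : G} (hx : x ∈ H.Rt hR) : Commute s x := by
  rcases hx with h1 | h1
  · exact hR.core.le x h1
  · have h2 := H.ts_comm.symm.mul_right (hR.core.le _ h1)
    rwa [← mul_assoc, H.tt, one_mul] at h2

theorem card_Rt (hR : Rad s R) : Nat.card (H.Rt hR) = 2 * Nat.card R := by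
  classical
  let F : Bool × R → H.Rt hR := fun p => ⟨(if p.1 then t else 1) * p.2, by
    rcases p with ⟨_ | _, r, hr⟩
    · left; simpa using hr
    · right; simpa [← mul_assoc, H.tt] using hr⟩
  have hF : Function.Bijective F := by
    constructor
    · rintro ⟨b, r⟩ ⟨c, r'⟩ hpq
      have h1 := congrArg Subtype.val hpq
      rcases b <;> rcases c <;> simp [F] at h1
      · rw [h1]
      · exact absurd ((mul_mem_cancel_right r'.2).1 (h1 ▸ r.2)) (H.t_notMem hR)
      · exact absurd ((mul_mem_cancel_right r.2).1 (h1.symm ▸ r'.2)) (H.t_notMem hR)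
      · rw [h1]
    · rintro ⟨x, hx | hx⟩
      · exact ⟨(false, ⟨x, hx⟩), Subtype.ext (by simp [F])⟩
      · exact ⟨(true, ⟨t * x, hx⟩), Subtype.ext (by simp [F, ← mul_assoc, H.tt])⟩
  rw [← Nat.card_congr (Equiv.ofBijective F hF)]
  simp

theorem Rt_two (hR : Rad s R) : IsPGroup 2 (H.Rt hR) := by
  haveI : Fact (Nat.Prime 2) := ⟨Nat.prime_two⟩
  obtain ⟨n, hn⟩ := hR.core.two.exists_card_eq
  exact IsPGroup.of_card (n := n + 1) (by rw [H.card_Rt hR, hn, pow_succ'])

/-- A conjugate of `s` in the semidihedral group. -/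
theorem Qgrp_conj_s (hzs : ¬ IsConj s z) {y : G} (hy : y ∈ H.Qgrp) (hc : IsConj s y) :
    ∃ j : Fin 4, y = a ^ (2 * (j : ℕ)) * s := by
  have h1 := H.sq_of_conj hc
  obtain ⟨i, rfl | rfl⟩ := hy
  · exfalso
    rw [← pow_add] at h1
    have h2 := H.pow_eq_one_iff'.1 h1
    rcases (show (i : ℕ) = 0 ∨ (i : ℕ) = 4 by omega) with h3 | h3 <;> rw [h3] at hc
    · exact H.not_s_one hc (pow_zero a)
    · rw [← H.z_eq] at hc; exact hzs hc
  · rw [← mul_assoc, H.pow_mul_s, mul_assoc, H.s_sq, mul_one] at h1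
    have h2 := H.pow_eq_one_iff'.1 h1
    refine ⟨⟨(i : ℕ) / 2, by omega⟩, ?_⟩
    congr 2
    show (i : ℕ) = 2 * ((i : ℕ) / 2)
    omega

end Cfg

/-- A proper two-subgroup is properly contained in its normalizer within a larger two-subgroup. -/
theorem exists_normalizing {P T : Subgroup G} (hT : IsPGroup 2 T) (hPT : P ≤ T)
    (hne : P ≠ T) : ∃ x ∈ T, x ∉ P ∧ x ∈ normalizer (P : Set G) := by
  haveI : Fact (Nat.Prime 2) := ⟨Nat.prime_two⟩
  haveI : Group.IsNilpotent T := hT.isNilpotent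
  have hlt : P.subgroupOf T < ⊤ := by
    rw [lt_top_iff_ne_top]
    intro h0
    refine hne (le_antisymm hPT ?_)
    rwa [subgroupOf_eq_top] at h0
  obtain ⟨y, hy, hyn⟩ := SetLike.exists_of_lt (normalizerCondition_of_isNilpotent _ hlt)
  refine ⟨y, y.2, fun h0 => hyn (mem_subgroupOf.2 h0), ?_⟩
  rw [mem_normalizer_iff]
  intro n
  by_cases hn : n ∈ T
  · have h1 := mem_normalizer_iff.1 hy ⟨n, hn⟩
    simpa [mem_subgroupOf] using h1
  · refine ⟨fun h0 => absurd (hPT h0) hn, fun h0 => absurd ?_ hn⟩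
    have h2 := T.mul_mem (T.mul_mem (T.inv_mem y.2) (hPT h0)) y.2
    simpa [mul_assoc] using h2

end Cfsg.Agent.M11ThreeLocal
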