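import Cfsg.Agent.M11ThreeLocal.Tools
import Cfsg.Agent.CyclicInter.Relations
import Cfsg.Agent.S0197
import Cfsg.Agent.Fg24.M11.Ident
import Cfsg.Agent.Compute.MathieuActions

/-!
# A radical of order eight with `z` conjugate to `s`
-/

set_option autoImplicit false
set_option linter.unusedSectionVars false

namespace Cfsg.Agent.M11ThreeLocal

open Subgroup

variable {G : Type*} [Group G] [Finite G] {M : Subgroup G} {e h s t z a : G} {R O : Subgroup G}

namespace Cfg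

variable (H : Cfg M e h s t z a)

include H

theorem one_quat (hR : Rad s R) (h8 : Nat.card R = 8) (hzs : IsConj s z) :
    ∀ r ∈ R, r ≠ 1 → r ≠ s → r * r = s := by
  obtain ⟨ν, hν, hsq⟩ := H.one_squares hR h8
  obtain ⟨r, hr, hrr⟩ := H.root_sq hR hzs
  have hr1 : r ≠ 1 := fun h0 => H.s_ne (by rw [← hrr, h0, one_mul])
  have hrs : r ≠ s := fun h0 => H.s_ne (by rw [← hrr, h0, H.s_sq])
  intro x hx h1 h2
  exact (hsq x hx h1 h2).trans ((hsq r hr hr1 hrs).symm.trans hrr)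

/-- The odd part is trivial. -/
theorem one_O (hT : TI s R O) (h8 : Nat.card R = 8) (hzs : IsConj s z) : O = ⊥ := by
  by_contra hO
  have hq := H.one_quat hT.rad h8 hzs
  obtain ⟨y, hy, hy1, hty⟩ := H.exists_fixed_ZO hT hO
  have hsy := hT.Ole y (mem_ZO.1 hy).1
  obtain ⟨c, hc⟩ := isConj_iff.1 hzs
  have hTz : TI z (R.map (MulAut.conj c).toMonoidHom) (O.map (MulAut.conj c).toMonoidHom) := by
    have h1 := hT.map c
    rwa [show cj c s = z from hc] at h1
  obtain ⟨Rz, hRz⟩ : ∃ Rz, Rz = R.map (MulAut.conj c).toMonoidHom := ⟨_, rfl⟩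
  obtain ⟨Oz, hOz⟩ : ∃ Oz, Oz = O.map (MulAut.conj c).toMonoidHom := ⟨_, rfl⟩
  rw [← hRz, ← hOz] at hTz
  have hzy : Commute z y := H.st ▸ hsy.mul_left hty
  have hn : y ^ Nat.card O = 1 := congrArg Subtype.val (pow_card_eq_one' (x := (⟨y, (mem_ZO.1 hy).1⟩ : O)))
  have hyO : y ∈ Oz := hTz.oddO hzy hT.Oodd hT.O3 hn
  have hsqz : ∀ x ∈ Rz, x = 1 ∨ x = z ∨ x * x = z := fun x hx => by
    rw [hRz, mem_map_cj] at hx
    by_cases h1 : cj c⁻¹ x = 1
    · exact Or.inl (cj_eq_one.1 h1)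
    by_cases h2 : cj c⁻¹ x = s
    · exact Or.inr (Or.inl (by rw [← cj_cj_inv c x, h2]; exact hc))
    right; right
    have h3 := hq _ hx h1 h2
    rw [← cj_cj_inv c x, ← cj_mul, h3]
    exact hc
  have hsRz : s ∉ Rz := fun hs => by
    rcases hsqz s hs with e' | e' | e'
    exacts [H.s_ne e', H.s_ne_z e', H.z_ne (e'.symm.trans H.s_sq)]
  have haRz : a ∉ Rz := fun ha => by
    have hord : ∀ n, 0 < n → n < 8 → a ^ n ≠ 1 := fun n h1 h2 h0 => by
      have := Nat.le_of_dvd h1 (orderOf_dvd_of_pow_eq_one h0)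
      rw [H.a_ord] at this
      omega
    rcases hsqz a ha with e' | e' | e'
    · exact hord 1 (by norm_num) (by norm_num) (by rw [pow_one]; exact e')
    · refine hord 3 (by norm_num) (by norm_num) (mul_left_cancel (a := a) ?_)
      rw [mul_one, ← pow_succ', ← H.z_eq, e']
    · refine hord 2 (by norm_num) (by norm_num) (mul_left_cancel (a := a ^ 2) ?_)
      rw [mul_one, ← pow_add, ← H.z_eq, sq, e']
  have h2a : Two a := ⟨3, H.a8⟩
  have h2as : Two (a * s) := ⟨2, by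
    have h1 : a * s * (a * s) = z := by
      rw [mul_assoc, ← mul_assoc s a s, H.sas, ← pow_succ', H.z_eq]
    calc (a * s) ^ 2 ^ 2 = a * s * (a * s) * (a * s * (a * s)) := by
          simp only [pow_succ, pow_zero, one_mul, mul_assoc]; norm_num [pow_succ, mul_assoc]
      _ = 1 := by rw [h1, H.zz]⟩
  have has : a * s ∈ Rz := hTz.mul2 H.za H.sz.symm h2a (Two.of_sq H.s_sq) haRz hsRz h2as
  have c1 : Commute (a * s) y := hTz.comm _ has y hyO
  have hay : Commute a y := by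
    have := c1.mul_left hsy
    rwa [mul_assoc, H.s_sq, mul_one] at this
  exact hy1 (H.eq_one_of_fixed hT.O3 hn hay (ZO_comm hy (hT.ZO_norm H.se hy)))

/-- The centraliser of `s` is `GL(2,3)`. -/
theorem one_gl (hT : TI s R O) (h8 : Nat.card R = 8) (hzs : IsConj s z) :
    Nonempty (centralizer ({s} : Set G) ≃* GL (Fin 2) (ZMod 3)) := by
  classical
  have hR := hT.rad
  have hq := H.one_quat hR h8 hzs
  have hO := H.one_O hT h8 hzs
  -- an element of order four inverted by `t`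
  obtain ⟨i₀, hi₀, hi₀t, hi₀1, hi₀s⟩ : ∃ i ∈ R, cj t i = i * s ∧ i ≠ 1 ∧ i ≠ s := by
    have hD : Dg a R = ⊥ := eq_bot_iff.2 fun x hx => by
      rw [mem_bot]
      by_contra hx1
      have hxs : x ≠ s := fun h0 => H.s_notMemD hR (h0 ▸ hx)
      exact H.s_notMemD hR (hq x hx.1 hx1 hxs ▸ mul_mem hx hx)
    have hle : Nat.card (Dt t R) ≤ 2 := by
      have h2 := H.I_card_Dt hT
      rwa [hD, Subgroup.card_bot] at h2
    have hDt : Dt t R = zpowers s := (eq_of_le_of_card_ge (zpowers_le.2 (H.s_mem_Dt hR)) (by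
      rw [Nat.card_zpowers, orderOf_eq_prime (hp := ⟨Nat.prime_two⟩) (by rw [sq, H.s_sq]) H.s_ne]
      exact hle)).symm
    by_contra hc
    push Not at hc
    have h1 : Wfix s R t ≤ zpowers s := fun x hx => by
      obtain ⟨hxR, hx'⟩ := (hR.core.mem_W H.ts_comm.symm).1 hx
      rw [mem_zpowers_invol H.s_sq]
      by_contra hcon
      push Not at hcon
      rcases hx' with e' | e'
      · have h2 : x ∈ Dt t R := mem_Dt.2 ⟨hxR, commute_of_cj e'⟩
        rw [hDt, mem_zpowers_invol H.s_sq] at h2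
        exact h2.elim hcon.1 hcon.2
      · exact hcon.2 (hc x hxR e' hcon.1)
    have h2 := card_le_of_le h1
    rw [H.one_card_W hR h8, Nat.card_zpowers,
      orderOf_eq_prime (hp := ⟨Nat.prime_two⟩) (by rw [sq, H.s_sq]) H.s_ne] at h2
    omega
  have hquad : ∀ r ∈ R, r ≠ 1 → r ≠ s →
      cj e r * r * (cj e r)⁻¹ = r⁻¹ ∧ ∃ σ, (σ = 1 ∨ σ = s) ∧ cj e (cj e r) = σ * (r * cj e r) := by
    intro r hr h1 hs
    obtain ⟨j, hj⟩ : ∃ j, j = cj e r := ⟨_, rfl⟩
    have hjR : j ∈ R := hj ▸ hR.core.norm e H.se r hr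
    have hjs : j ≠ s := fun h0 => hs (cj_injective e ((hj.symm.trans h0).trans (cj_of_commute H.se.symm).symm))
    have hjj := hq j hjR (fun h0 => h1 (cj_eq_one.1 (hj ▸ h0))) hjs
    have hrr := hq r hr h1 hs
    rw [← hj]
    obtain ⟨σ, hσ, hσe⟩ : ∃ σ, (σ = 1 ∨ σ = s) ∧ r * j * cj e j = σ :=
      ⟨_, (mem_zpowers_invol H.s_sq).1 (hj ▸ ((H.bundle hR.core H.e3 H.e_ne H.se).1 r hr).1), rfl⟩
    have hej : cj e j = (r * j)⁻¹ * σ := by rw [← hσe, inv_mul_cancel_left]
    have hrj : (r * j) * (r * j) = s := by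
      have h2 : cj e j * cj e j = s := by rw [← cj_mul, hjj, cj_of_commute H.se.symm]
      have hc : Commute σ (r * j)⁻¹ := by
        rcases hσ with e' | e' <;> rw [e']
        exacts [Commute.one_left _, (hR.core.le _ (mul_mem hr hjR)).inv_right]
      rw [hej, hc.mul_mul_mul_comm, (H.sig hσ).1, mul_one, ← mul_inv_rev] at h2
      rw [← inv_inv (r * j * (r * j)), h2, inv_of_sq H.s_sq]
    have hri : r⁻¹ = r * s := inv_eq_of_mul_eq_one_right (by rw [← mul_assoc, hrr, H.s_sq])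
    have hji : j⁻¹ = j * s := inv_eq_of_mul_eq_one_right (by rw [← mul_assoc, hjj, H.s_sq])
    refine ⟨?_, (σ * s : G), ?_, ?_⟩
    · have h2 : j * (r * j) = r⁻¹ * s := by rw [eq_inv_mul_iff_mul_eq, ← mul_assoc, hrj]
      rw [hji, show j * r * (j * s) = j * (r * j) * s by simp only [mul_assoc], h2, mul_assoc, H.s_sq, mul_one]
    · rcases hσ with e' | e' <;> rw [e']
      exacts [Or.inr (one_mul s), Or.inl H.s_sq]
    · have h3 : (r * j)⁻¹ = s * (r * j) := by
        refine inv_eq_of_mul_eq_one_right ?_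
        rw [← mul_assoc, ← (hR.core.le _ (mul_mem hr hjR)).eq, mul_assoc, hrj, H.s_sq]
      rw [hej, h3]
      rcases hσ with e' | e' <;> rw [e']
      · rw [mul_one, one_mul]
      · rw [H.s_sq, one_mul, mul_assoc, ← (hR.core.le _ (mul_mem hr hjR)).eq, ← mul_assoc, H.s_sq, one_mul]
  -- normalise the sign
  obtain ⟨i, hiR, hit, hi1, his, hej⟩ : ∃ i ∈ R, cj t i = i⁻¹ ∧ i ≠ 1 ∧ i ≠ s ∧
      cj e (cj e i) = i * cj e i := by
    have hinv : ∀ r ∈ R, r ≠ 1 → r ≠ s → r⁻¹ = r * s := fun r hr h1 hs =>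
      inv_eq_of_mul_eq_one_right (by rw [← mul_assoc, hq r hr h1 hs, H.s_sq])
    obtain ⟨-, σ, hσ, he⟩ := hquad i₀ hi₀ hi₀1 hi₀s
    rcases hσ with e' | e' <;> rw [e'] at he
    · exact ⟨i₀, hi₀, by rw [hinv i₀ hi₀ hi₀1 hi₀s, hi₀t], hi₀1, hi₀s, by rw [he, one_mul]⟩
    · refine ⟨i₀ * s, mul_mem hi₀ hR.core.mem, ?_, fun h0 => hi₀s ?_, fun h0 => hi₀1 (mul_eq_right.1 h0), ?_⟩
      · rw [cj_mul, hi₀t, cj_of_commute H.ts_comm, mul_inv_rev, inv_of_sq H.s_sq, hinv i₀ hi₀ hi₀1 hi₀s,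
          mul_assoc i₀ s s, H.s_sq, mul_one, ← mul_assoc, (hR.core.le _ hi₀).eq, mul_assoc, H.s_sq, mul_one]
      · rw [eq_inv_of_mul_eq_one_left h0, inv_of_sq H.s_sq]
      · have hes : cj e s = s := cj_of_commute H.se.symm
        simp only [cj_mul, hes]
        rw [he]
        have hc := hR.core.le (cj e i₀) (hR.core.norm e H.se _ hi₀)
        have hc2 := hR.core.le _ (mul_mem hi₀ (hR.core.norm e H.se _ hi₀))
        calc s * (i₀ * cj e i₀) * s = i₀ * cj e i₀ * (s * s) := by rw [hc2.eq, mul_assoc]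
          _ = i₀ * s * (cj e i₀ * s) := by
            rw [← hc.eq, H.s_sq]
            simp only [mul_assoc]
            rw [← mul_assoc s s, H.s_sq, one_mul, mul_one]
  obtain ⟨hji, -⟩ := hquad i hiR hi1 his
  have hii := hq i hiR hi1 his
  obtain ⟨iL, hiL⟩ : ∃ x : centralizer ({s} : Set G), (x : G) = i := ⟨⟨i, mem_L.2 (hR.core.le i hiR)⟩, rfl⟩
  obtain ⟨eL, heL⟩ : ∃ x : centralizer ({s} : Set G), (x : G) = e := ⟨⟨e, mem_L.2 H.se⟩, rfl⟩
  obtain ⟨tL, htL⟩ : ∃ x : centralizer ({s} : Set G), (x : G) = t := ⟨⟨t, mem_L.2 H.ts_comm.symm⟩, rfl⟩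
  have hjG : ((eL * iL * eL⁻¹ : centralizer ({s} : Set G)) : G) = cj e i := by
    simp only [coe_mul, InvMemClass.coe_inv, heL, hiL, cj]
  have hrel : CyclicInter.Rel iL eL tL := by
    have up : ∀ {x y : centralizer ({s} : Set G)}, (x : G) = y → x = y := fun h => Subtype.ext h
    refine ⟨up ?_, up ?_, up ?_, up ?_, up ?_, up ?_, up ?_, up ?_⟩ <;>
      simp only [coe_mul, InvMemClass.coe_inv, SubgroupClass.coe_pow, OneMemClass.coe_one, heL, hiL, htL]
    · calc i ^ 4 = i * i * (i * i) := by simp only [pow_succ, pow_zero, one_mul, mul_assoc]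
        _ = 1 := by rw [hii, H.s_sq]
    · show cj e i * cj e i = i * i
      rw [← cj_mul, hii, cj_of_commute H.se.symm]
    · exact hji
    · exact hej
    · exact H.e3
    · exact H.tt
    · exact H.te
    · exact hit
  have hgen : Subgroup.closure ({iL, eL, tL} : Set (centralizer ({s} : Set G))) = ⊤ := by
    obtain ⟨C, hC⟩ : ∃ C, C = Subgroup.closure ({iL, eL, tL} : Set (centralizer ({s} : Set G))) := ⟨_, rfl⟩
    rw [← hC]
    have mi : iL ∈ C := hC ▸ subset_closure (by simp)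
    have me : eL ∈ C := hC ▸ subset_closure (by simp)
    have mt : tL ∈ C := hC ▸ subset_closure (by simp)
    have hRC : ∀ r ∈ R, ∀ x : centralizer ({s} : Set G), (x : G) = r → x ∈ C := by
      intro r hr x hx
      have ms : ∀ σ : G, (σ = 1 ∨ σ = s) → ∃ y ∈ C, ((y : centralizer ({s} : Set G)) : G) = σ := by
        rintro σ (e' | e')
        exacts [⟨1, one_mem C, e'.symm⟩,
          ⟨iL * iL, mul_mem mi mi, by rw [coe_mul, hiL, hii, e']⟩]
      rcases H.one_classify hR h8 hiR hi1 his hr with e' | e' | ⟨k, σ, hσ, he⟩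
      · obtain ⟨y, hy, hy'⟩ := ms r (Or.inl e')
        rwa [Subtype.ext (hx.trans hy'.symm)]
      · obtain ⟨y, hy, hy'⟩ := ms r (Or.inr e')
        rwa [Subtype.ext (hx.trans hy'.symm)]
      · obtain ⟨y, hy, hy'⟩ := ms σ hσ
        have h1 : x = eL ^ (k : ℕ) * iL * (eL ^ (k : ℕ))⁻¹ * y := Subtype.ext (by
          simp only [coe_mul, InvMemClass.coe_inv, SubgroupClass.coe_pow, heL, hiL, hy', hx, he, cj])
        rw [h1]
        exact mul_mem (mul_mem (mul_mem (pow_mem me _) mi) (inv_mem (pow_mem me _))) hy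
    obtain ⟨φ, hφs, hk⟩ := hT.hom
    have hker : ∀ x, φ x = 1 → x ∈ C := fun x hx => by
      obtain ⟨r, hr, w, hw, he⟩ := (hk x).1 hx
      rw [hO, mem_bot] at hw
      rw [hw, mul_one] at he
      exact hRC r hr x he
    have hone : ∀ x, φ x = 1 → (x : G) ∈ R := fun x hx => by
      obtain ⟨r, hr, w, hw, he⟩ := (hk x).1 hx
      rw [hO, mem_bot] at hw
      rw [he, hw, mul_one]
      exact hr
    have he3 : eL ^ 3 = 1 := Subtype.ext (by simp [heL, H.e3])
    have hE1 : φ eL ≠ 1 := fun h0 => by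
      have h1 := hone _ h0
      rw [heL] at h1
      exact H.e_ne ((Two.of_isPGroup hR.core.two h1).eq_one_of_odd (n := 3) (by norm_num) H.e3)
    have hT1 : φ tL ≠ 1 := fun h0 => H.t_notMem hR (htL ▸ hone _ h0)
    refine eq_top_iff.2 fun x _ => ?_
    obtain ⟨k, l, hkl⟩ := s3_gen _ _ (by rw [← map_pow, he3, map_one]) hE1
      (by rw [← map_mul, hrel.t2, map_one]) hT1 (φ x)
    have hg : (eL ^ (k : ℕ) * tL ^ (l : ℕ))⁻¹ * x ∈ C := hker _ (by
      rw [map_mul, map_inv, hkl, map_mul, map_pow, map_pow, inv_mul_cancel])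
    have := mul_mem (mul_mem (pow_mem me (k : ℕ)) (pow_mem mt (l : ℕ))) hg
    rwa [mul_inv_cancel_left] at this
  refine CyclicInter.mulEquiv_gl hrel ?_ hgen
  rw [hT.card, h8, hO, Subgroup.card_bot]

/-- Recognition. -/
theorem recognise [IsSimpleGroup G] (hC : Nonempty (centralizer ({s} : Set G) ≃* GL (Fin 2) (ZMod 3))) :
    Cfsg.Spor.IsoM11 G := by
  obtain ⟨ε⟩ := hC
  rcases Cfsg.Agent.S0197.result s (orderOf_eq_prime (hp := ⟨Nat.prime_two⟩) (by rw [sq, H.s_sq]) H.s_ne) ε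
    with hG | hG
  · exact absurd (by rw [hG]; norm_num) H.h27
  · haveI := Cfsg.Agent.Compute.isSimpleGroup_m11
    letI := Fintype.ofFinite G
    haveI : Finite Cfsg.Spor.M11 :=
      Nat.finite_of_card_ne_zero (by rw [Cfsg.Agent.Compute.card_m11]; norm_num)
    letI := Fintype.ofFinite Cfsg.Spor.M11
    exact Fg24.M11.unique_7920 (H := Cfsg.Spor.M11) hG Cfsg.Agent.Compute.card_m11

end Cfg

end Cfsg.Agent.M11ThreeLocal
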