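import Cfsg.Agent.M11ThreeLocal.OneZero

/-!
# The first shape with a radical of order eight, when `z` is not conjugate to `s`
-/

set_option autoImplicit false
set_option linter.unusedSectionVars false

namespace Cfsg.Agent.M11ThreeLocal

open Subgroup

theorem s3_gen : ∀ d τ : Equiv.Perm (Fin 3), d ^ 3 = 1 → d ≠ 1 → τ * τ = 1 → τ ≠ 1 →
    ∀ p : Equiv.Perm (Fin 3), ∃ i : Fin 3, ∃ j : Fin 2, p = d ^ (i : ℕ) * τ ^ (j : ℕ) := by
  decide +kernel

variable {G : Type*} [Group G] [Finite G]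

/-- The elements of a subgroup of odd order inverted by `t` are odd in number. -/
theorem odd_inverted {O : Subgroup G} (hO : ¬ 2 ∣ Nat.card O) (t : G) :
    ¬ 2 ∣ Nat.card {w : O // cj t (w : G) = (w : G)⁻¹} := by
  classical
  letI := Fintype.ofFinite {w : O // cj t (w : G) = (w : G)⁻¹}
  obtain ⟨u, hu⟩ : ∃ u : {w : O // cj t (w : G) = (w : G)⁻¹}, ((u : O) : G) = 1 :=
    ⟨⟨1, by simp [cj]⟩, rfl⟩
  let g : {w : O // cj t (w : G) = (w : G)⁻¹} → {w : O // cj t (w : G) = (w : G)⁻¹} := fun w =>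
    ⟨w.1⁻¹, by
      show cj t ((w.1 : G))⁻¹ = ((w.1 : G))⁻¹⁻¹
      rw [cj_inv, w.2]⟩
  have hgu : ∀ w, w ≠ u → g w ≠ u := fun w hw h0 => hw <| Subtype.ext <| Subtype.ext <| by
    have h1 : ((w.1 : G))⁻¹ = 1 := by rw [← hu, ← h0]; rfl
    rw [hu, inv_eq_one.1 h1]
  have hgw : ∀ w, w ≠ u → g w ≠ w := fun w hw h0 => hw <| Subtype.ext <| Subtype.ext <| by
    have h1 : ((w.1 : G))⁻¹ = (w.1 : G) := congrArg (fun y => ((Subtype.val y : O) : G)) h0
    rw [hu]
    exact (Two.of_sq (by nth_rewrite 1 [← h1]; exact inv_mul_cancel _)).eq_one_of_mem hO w.1.2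
  have hsum : ∑ _w ∈ Finset.univ.erase u, (1 : ZMod 2) = 0 := by
    refine Finset.sum_involution (fun w _ => g w) (fun _ _ => by decide)
      (fun w hw _ => hgw w (Finset.mem_erase.1 hw).1)
      (fun w hw => Finset.mem_erase.2 ⟨hgu w (Finset.mem_erase.1 hw).1, Finset.mem_univ _⟩)
      (fun w _ => Subtype.ext (inv_inv w.1))
  rw [Finset.sum_const, nsmul_one, ZMod.natCast_eq_zero_iff_even,
    Finset.card_erase_of_mem (Finset.mem_univ u), Finset.card_univ, ← Nat.card_eq_fintype_card] at hsum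
  have hpos : 0 < Nat.card {w : O // cj t (w : G) = (w : G)⁻¹} := by
    haveI : Nonempty {w : O // cj t (w : G) = (w : G)⁻¹} := ⟨u⟩
    exact Nat.card_pos
  obtain ⟨k, hk⟩ := hsum
  omega

/-- An element of an odd subgroup inverted by `t` is absorbed by conjugation. -/
theorem conj_inverted {O : Subgroup G} (hO : ¬ 2 ∣ Nat.card O) {t r w : G} (ht : t * t = 1)
    (hw : w ∈ O) (hi : cj t w = w⁻¹) (hrO : ∀ x ∈ O, Commute r x) : IsConj (t * r) (t * r * w) := by
  obtain ⟨m, hm⟩ : ∃ m, Nat.card O + 1 = m + m := ⟨(Nat.card O + 1) / 2, by omega⟩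
  have hn : w ^ Nat.card O = 1 := congrArg Subtype.val (pow_card_eq_one' (x := (⟨w, hw⟩ : O)))
  have h2 : w ^ m * w ^ m = w := by rw [← pow_add, ← hm, pow_add, hn, one_mul, pow_one]
  have hinv : cj t (w ^ m)⁻¹ = w ^ m := by rw [cj_inv, ← cj_pow, hi, inv_pow, inv_inv]
  refine isConj_iff.2 ⟨(w ^ m)⁻¹, ?_⟩
  show (w ^ m)⁻¹ * (t * r) * (w ^ m)⁻¹⁻¹ = t * r * w
  calc (w ^ m)⁻¹ * (t * r) * (w ^ m)⁻¹⁻¹ = t * (t * (w ^ m)⁻¹ * t) * r * w ^ m := by
        rw [inv_inv]
        simp only [mul_assoc]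
        rw [← mul_assoc t t, ht, one_mul]
    _ = t * w ^ m * r * w ^ m := by
        have h3 : t * (w ^ m)⁻¹ * t = w ^ m := by
          conv_rhs => rw [← hinv, cj, inv_of_sq ht]
        rw [h3]
    _ = t * r * (w ^ m * w ^ m) := by
        rw [mul_assoc t, ← ((hrO _ (pow_mem hw m))).eq]
        simp only [mul_assoc]
    _ = _ := by rw [h2]

variable {M : Subgroup G} {e h s t z a : G} {R O : Subgroup G}

namespace Cfg

variable (H : Cfg M e h s t z a)

include H

theorem e_pow3 (i : ℕ) : (e ^ i) ^ 3 = 1 := by rw [← pow_mul, mul_comm, pow_mul, H.e3, one_pow]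

theorem e_pow_inj {i j : Fin 3} (hij : e ^ (i : ℕ) = e ^ (j : ℕ)) : i = j := by
  refine Fin.ext ?_
  have h1 := pow_eq_pow_iff_modEq.1 hij
  rw [orderOf_eq_prime (hp := ⟨Nat.prime_three⟩) H.e3 H.e_ne, Nat.ModEq, Nat.mod_eq_of_lt i.2,
    Nat.mod_eq_of_lt j.2] at h1
  exact h1

theorem cj_t_epow (i : ℕ) : cj t (e ^ i) = (e ^ i)⁻¹ := by rw [← cj_pow, H.te, inv_pow]

/-- The images of `r` under the powers of `e` differ modulo the centre. -/
theorem orbit_inj (hR : Rad s R) {r : G} (hr : r ∈ R) (h1 : r ≠ 1) (hs : r ≠ s) {i j : Fin 3} {σ : G}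
    (hσ : σ = 1 ∨ σ = s) (he : cj (e ^ (i : ℕ)) r = cj (e ^ (j : ℕ)) r * σ) : i = j := by
  by_contra hne
  obtain ⟨d, hd⟩ : ∃ d, d = (e ^ (j : ℕ))⁻¹ * e ^ (i : ℕ) := ⟨_, rfl⟩
  have hd1 : d ≠ 1 := fun h0 => hne (H.e_pow_inj (inv_mul_eq_one.1 (hd ▸ h0)).symm)
  have hc : Commute (e ^ (j : ℕ))⁻¹ (e ^ (i : ℕ)) := ((Commute.refl e).pow_pow _ _).inv_left
  have hd3 : d ^ 3 = 1 := by rw [hd, hc.mul_pow, inv_pow, H.e_pow3, H.e_pow3, inv_one, one_mul]
  have hsd : Commute s d := hd ▸ ((H.se.pow_right _).inv_right).mul_right (H.se.pow_right _)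
  have hdr : cj d r = r * σ := by
    rw [hd, ← cj_cj, he, cj_mul, cj_inv_cj]
    rcases hσ with e' | e' <;> rw [e']
    · rw [cj_one]
    · rw [cj_of_commute (H.se.pow_right _).inv_right.symm]
  rcases hσ with e' | e' <;> rw [e'] at hdr
  · exact (H.fixR hR.core hd3 hd1 hsd hr (Or.inl (hdr.trans (mul_one r)))).elim h1 hs
  · exact (H.fixR hR.core hd3 hd1 hsd hr (Or.inr hdr)).elim h1 hs

theorem sig {σ : G} (hσ : σ = 1 ∨ σ = s) : σ * σ = 1 ∧ Commute s σ ∧ cj t σ = σ ∧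
    (∀ g, Commute s g → cj g σ = σ) ∧ σ⁻¹ = σ := by
  rcases hσ with e' | e' <;> rw [e']
  · exact ⟨one_mul 1, Commute.one_right s, cj_one t, fun g _ => cj_one g, inv_one⟩
  · exact ⟨H.s_sq, Commute.refl s, cj_of_commute H.ts_comm, fun g hg => cj_of_commute hg.symm,
      inv_of_sq H.s_sq⟩

/-- The elements of a radical of order eight. -/
theorem one_classify (hR : Rad s R) (h8 : Nat.card R = 8) {r₀ : G} (hr : r₀ ∈ R) (h1 : r₀ ≠ 1) (hs : r₀ ≠ s)
    {r : G} (hrR : r ∈ R) : r = 1 ∨ r = s ∨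
      ∃ i : Fin 3, ∃ σ : G, (σ = 1 ∨ σ = s) ∧ r = cj (e ^ (i : ℕ)) r₀ * σ := by
  classical
  let v : Option (Fin 3) → G := fun o => Option.elim o 1 fun i => cj (e ^ (i : ℕ)) r₀
  have hv : ∀ o, v o ∈ R := fun o => by
    rcases o with _ | i
    exacts [one_mem R, hR.core.norm _ (H.se.pow_right _) _ hr]
  have hne : ∀ (i : Fin 3) (σ : G), (σ = 1 ∨ σ = s) → cj (e ^ (i : ℕ)) r₀ ≠ σ := fun i σ hσ h0 => by
    have h2 : r₀ = σ := cj_injective (e ^ (i : ℕ)) (by
      rw [h0, (H.sig hσ).2.2.2.1 _ (H.se.pow_right _)])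
    rcases hσ with e' | e'
    exacts [h1 (h2.trans e'), hs (h2.trans e')]
  let F : Option (Fin 3) × Bool → R := fun p =>
    ⟨v p.1 * (if p.2 then s else 1), mul_mem (hv p.1) (by split <;> [exact hR.core.mem; exact one_mem R])⟩
  have key : ∀ o o' : Option (Fin 3), ∀ σ : G, (σ = 1 ∨ σ = s) → v o = v o' * σ → o = o' := by
    intro o o' σ hσ he
    rcases o with _ | i <;> rcases o' with _ | j
    · rfl
    · exfalso
      refine hne j σ hσ ?_
      have h2 : (1 : G) = cj (e ^ (j : ℕ)) r₀ * σ := he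
      rw [eq_inv_of_mul_eq_one_left h2.symm, (H.sig hσ).2.2.2.2]
    · exact absurd (he.trans (one_mul σ)) (hne i σ hσ)
    · rw [H.orbit_inj hR hr h1 hs hσ he]
  have hF : Function.Injective F := by
    rintro ⟨o, b⟩ ⟨o', b'⟩ hpq
    have h2 : v o * (if b then s else 1) = v o' * (if b' then s else 1) := congrArg Subtype.val hpq
    rcases b <;> rcases b' <;> simp only [Bool.false_eq_true, if_false, if_true, mul_one] at h2
    · rw [key o o' 1 (Or.inl rfl) (by rw [h2, mul_one])]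
    · obtain rfl := key o o' s (Or.inr rfl) h2
      exact absurd (mul_eq_left.1 h2.symm) H.s_ne
    · obtain rfl := key o' o s (Or.inr rfl) h2.symm
      exact absurd (mul_eq_left.1 h2) H.s_ne
    · rw [key o o' 1 (Or.inl rfl) (by rw [mul_right_cancel h2, mul_one])]
  obtain ⟨⟨o, b⟩, hp⟩ := (hF.bijective_of_nat_card_le (by simp [h8])).2 ⟨r, hrR⟩
  have h2 : v o * (if b then s else 1) = r := congrArg Subtype.val hp
  rcases o with _ | i
  · rcases b
    · left; simpa [v] using h2.symm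
    · right; left; simpa [v] using h2.symm
  · right; right
    exact ⟨i, _, by rcases b <;> simp, h2.symm⟩

/-- In a radical of order eight all squares outside the centre are equal and central. -/
theorem one_squares (hR : Rad s R) (h8 : Nat.card R = 8) :
    ∃ ν, (ν = 1 ∨ ν = s) ∧ ∀ r ∈ R, r ≠ 1 → r ≠ s → r * r = ν := by
  classical
  obtain ⟨r₀, hr, h1, hs⟩ : ∃ r₀ ∈ R, r₀ ≠ 1 ∧ r₀ ≠ s := by
    by_contra hc
    push Not at hc
    have hle : R ≤ zpowers s := fun r hr => by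
      by_cases hr1 : r = 1
      · rw [hr1]; exact one_mem _
      · rw [hc r hr hr1]; exact mem_zpowers s
    have h2 := card_le_of_le hle
    rw [h8, Nat.card_zpowers, orderOf_eq_prime (hp := ⟨Nat.prime_two⟩) (by rw [sq, H.s_sq]) H.s_ne] at h2
    omega
  have hν : r₀ * r₀ = 1 ∨ r₀ * r₀ = s := by
    obtain ⟨q, hq⟩ : ∃ q, q = r₀ * r₀ := ⟨_, rfl⟩
    rw [← hq]
    rcases H.one_classify hR h8 hr h1 hs (hq ▸ mul_mem hr hr : q ∈ R) with e' | e' | ⟨i, σ, hσ, he⟩
    · exact Or.inl e'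
    · exact Or.inr e'
    · left
      have hσc : Commute σ (cj (e ^ (i : ℕ)) r₀) := by
        rcases hσ with e' | e' <;> rw [e']
        exacts [Commute.one_left _, hR.core.le _ (hR.core.norm _ (H.se.pow_right _) _ hr)]
      have hσ2 : σ * σ = 1 := (H.sig hσ).1
      have h2 : q * q = cj (e ^ (i : ℕ)) q := by
        rw [he, hσc.mul_mul_mul_comm, hσ2, mul_one, ← cj_mul, ← hq, ← he]
      have h8' : r₀ ^ 8 = 1 := by
        have h3 := pow_card_eq_one' (x := (⟨r₀, hr⟩ : R))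
        rw [h8] at h3
        exact congrArg Subtype.val h3
      have h3 : q * q = 1 := cj_eq_one.1 (show cj (e ^ (i : ℕ)) (q * q) = 1 by
        rw [cj_mul, ← h2, ← h8', hq]; simp only [pow_succ, pow_zero, one_mul, mul_assoc])
      rw [h3] at h2
      exact cj_eq_one.1 h2.symm
  refine ⟨r₀ * r₀, hν, fun r hrR hr1 hrs => ?_⟩
  rcases H.one_classify hR h8 hr h1 hs hrR with e' | e' | ⟨i, σ, hσ, he⟩
  · exact absurd e' hr1
  · exact absurd e' hrs
  · have hσc : Commute σ (cj (e ^ (i : ℕ)) r₀) := by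
      rcases hσ with e'' | e'' <;> rw [e'']
      exacts [Commute.one_left _, hR.core.le _ (hR.core.norm _ (H.se.pow_right _) _ hr)]
    have hσ2 : σ * σ = 1 := (H.sig hσ).1
    rw [he, hσc.mul_mul_mul_comm, hσ2, mul_one, ← cj_mul]
    rcases hν with e' | e' <;> rw [e']
    · rw [cj_one]
    · rw [cj_of_commute (H.se.pow_right _).symm]

theorem one_card_W (hR : Rad s R) (h8 : Nat.card R = 8) : Nat.card (Wfix s R t) = 4 := by
  obtain ⟨k, h1, h2, -⟩ := H.sizes hR
  have : k = 1 := by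
    rcases k with _ | _ | k
    · omega
    · rfl
    · rw [h8, pow_succ, pow_succ] at h1
      have : 0 < 4 ^ k := pow_pos (by norm_num) k
      omega
  rw [h2, this]
  rfl

/-- If `z` is not conjugate to `s`, a radical of order eight is elementary. -/
theorem one_elem (hT : TI s R O) (h8 : Nat.card R = 8) (hzs : ¬ IsConj s z) : ∀ r ∈ R, r * r = 1 := by
  classical
  have hR := hT.rad
  obtain ⟨ν, hν, hsq⟩ := H.one_squares hR h8
  rcases hν with hν | hν
  · intro r hr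
    by_cases h1 : r = 1
    · rw [h1, one_mul]
    by_cases h2 : r = s
    · rw [h2, H.s_sq]
    exact (hsq r hr h1 h2).trans hν
  exfalso
  subst ν
  have hall : ∀ r ∈ R, r * r = 1 ∨ r * r = s := fun r hr => by
    by_cases h1 : r = 1
    · left; rw [h1, one_mul]
    by_cases h2 : r = s
    · left; rw [h2, H.s_sq]
    exact Or.inr (hsq r hr h1 h2)
  -- an element of order eight above `t`
  obtain ⟨r, hr, hrW⟩ : ∃ r ∈ R, r ∉ Wfix s R t := by
    by_contra hc
    push Not at hc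
    have h1 := card_le_of_le (show R ≤ Wfix s R t from hc)
    rw [h8, H.one_card_W hR h8] at h1
    omega
  have hW : ∀ {x : G}, x ∈ R → (cj t x = x ∨ cj t x = x * s) → x ∈ Wfix s R t := fun hx hc =>
    (hR.core.mem_W H.ts_comm.symm).2 ⟨hx, hc⟩
  have hr1 : r ≠ 1 := fun h0 => hrW (h0 ▸ one_mem _)
  have hrs : r ≠ s := fun h0 => hrW (hW hr (Or.inl (by rw [h0, cj_of_commute H.ts_comm])))
  have hrr := hsq r hr hr1 hrs
  obtain ⟨w, hw⟩ : ∃ w, w = cj t r * r := ⟨_, rfl⟩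
  have hwR : w ∈ R := hw ▸ mul_mem (hR.core.norm t H.ts_comm.symm r hr) hr
  have hw1 : w ≠ 1 := fun h0 => hrW (hW hr (Or.inr (by
    rw [eq_inv_of_mul_eq_one_left (hw ▸ h0 : cj t r * r = 1)]
    exact inv_eq_of_mul_eq_one_right (by rw [← mul_assoc, hrr, H.s_sq]))))
  have hws : w ≠ s := fun h0 => hrW (hW hr (Or.inl (mul_right_cancel (b := r) (by
    rw [← hw, h0, hrr]))))
  have htr4 : (t * r) ^ 4 = s := by
    have h2 : t * r * (t * r) = w := by
      rw [hw, cj, inv_of_sq H.tt]; simp only [mul_assoc]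
    calc (t * r) ^ 4 = t * r * (t * r) * (t * r * (t * r)) := by
          simp only [pow_succ, pow_zero, one_mul, mul_assoc]
      _ = s := by rw [h2, hsq w hwR hw1 hws]
  have htr : t * r ∈ H.Rt hR := Or.inr (by rwa [← mul_assoc, H.tt, one_mul])
  have h4 : ∀ x ∈ H.Rt hR, x ^ 4 = 1 ∨ x ^ 4 = s := fun x hx => by
    have h1 := hR.sq2 x (H.Rt_comm hR hx) (Two.of_isPGroup (H.Rt_two hR) hx)
    have h2 := hall _ h1
    rwa [show x * x * (x * x) = x ^ 4 by simp only [pow_succ, pow_zero, one_mul, mul_assoc]] at h2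
  obtain ⟨T, hRT⟩ := (H.Rt_two hR).exists_le_sylow
  have hTe : H.Rt hR = (T : Subgroup G) := by
    by_contra hne
    obtain ⟨x, hxT, hxR, hxN⟩ := exists_normalizing T.2 hRT hne
    have h1 : cj x (t * r) ∈ H.Rt hR := (mem_normalizer_iff.1 hxN _).1 htr
    have h2 := h4 _ h1
    rw [cj_pow, htr4] at h2
    have hsx : cj x s = s := h2.resolve_left fun h0 => H.s_ne (cj_eq_one.1 h0)
    obtain ⟨P, hP⟩ : ∃ P, P = (T : Subgroup G) ⊓ centralizer ({s} : Set G) := ⟨_, rfl⟩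
    have hle : H.Rt hR ≤ P := fun y hy => hP ▸ ⟨hRT hy, mem_L.2 (H.Rt_comm hR hy)⟩
    have hcard := hT.card_two_le (P := P) (T.2.to_le (hP ▸ inf_le_left)) fun y hy =>
      mem_L.1 (hP ▸ hy : y ∈ (T : Subgroup G) ⊓ centralizer ({s} : Set G)).2
    rw [← H.card_Rt hR] at hcard
    exact hxR (by
      rw [eq_of_le_of_card_ge hle hcard, hP]
      exact ⟨hxT, mem_L.2 (commute_of_cj hsx).symm⟩)
  have hQ2 : IsPGroup 2 H.Qgrp := by
    haveI : Fact (Nat.Prime 2) := ⟨Nat.prime_two⟩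
    exact IsPGroup.of_card (n := 4) (by rw [H.card_Qgrp]; norm_num)
  haveI : Fact (Nat.Prime 2) := ⟨Nat.prime_two⟩
  obtain ⟨T', hQT⟩ := hQ2.exists_le_sylow
  obtain ⟨c, hc⟩ := MulAction.exists_smul_eq G T' T
  have hca : cj c a ∈ H.Rt hR := by
    rw [hTe, ← hc, Sylow.coe_subgroup_smul]
    exact ⟨a, hQT ⟨1, Or.inl (pow_one a).symm⟩, rfl⟩
  rcases h4 _ hca with h1 | h1 <;> rw [cj_pow, ← H.z_eq] at h1
  · exact H.z_ne (cj_eq_one.1 h1)
  · exact hzs (isConj_iff.2 ⟨c, h1⟩).symm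

/-- A radical of order eight with `z` not conjugate to `s` has a fixed involution. -/
theorem one_iv (hT : TI s R O) (h8 : Nat.card R = 8) (hzs : ¬ IsConj s z) :
    ∃ f, Iv s t e h f ∧ f ∈ R ∧ f ≠ 1 ∧ f ≠ s ∧ ∀ x ∈ Dg a R, Commute f x := by
  classical
  have hR := hT.rad
  have hel := H.one_elem hT h8 hzs
  have hcomm : ∀ x ∈ R, ∀ y ∈ R, Commute x y := fun x hx y hy => by
    have h1 := inv_of_sq (hel _ (mul_mem hx hy))
    rw [mul_inv_rev, inv_of_sq (hel x hx), inv_of_sq (hel y hy)] at h1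
    exact h1.symm
  have hD0 : 3 ≤ Nat.card (Dt t R) := by
    let lam : R →* G := MonoidHom.mk' (fun r => (r : G) * cj t (r : G)) fun x y => by
      show (x : G) * y * cj t ((x : G) * y) = _
      rw [cj_mul, (hcomm _ y.2 _ (hR.core.norm t H.ts_comm.symm _ x.2)).mul_mul_mul_comm]
    have hrange : lam.range ≤ Dt t R := by
      rintro _ ⟨r, rfl⟩
      have hr' := hR.core.norm t H.ts_comm.symm _ r.2
      refine mem_Dt.2 ⟨mul_mem r.2 hr', commute_of_cj ?_⟩
      show cj t ((r : G) * cj t r) = (r : G) * cj t r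
      rw [cj_mul, cj_cj t t, H.tt, cj_one', (hcomm _ r.2 _ hr').eq]
    have hker : lam.ker = (Dt t R).subgroupOf R := by
      ext r
      rw [MonoidHom.mem_ker, mem_subgroupOf, mem_Dt]
      show (r : G) * cj t r = 1 ↔ _
      rw [mul_eq_one_iff_inv_eq, inv_of_sq (hel _ r.2), eq_comm]
      exact ⟨fun h1 => ⟨r.2, commute_of_cj h1⟩, fun h1 => cj_of_commute h1.2⟩
    have h1 := card_eq_card_quotient_mul_card_subgroup lam.ker
    rw [Nat.card_congr (QuotientGroup.quotientKerEquivRange lam).toEquiv, hker,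
      Nat.card_congr (subgroupOfEquivOfLe (inf_le_left : Dt t R ≤ R)).toEquiv, h8] at h1
    have h2 := card_le_of_le hrange
    have h3 := Nat.mul_le_mul_right (Nat.card (Dt t R)) h2
    by_contra h4
    interval_cases (Nat.card (Dt t R)) <;> omega
  obtain ⟨f, hf, hf1⟩ : ∃ f ∈ Dg a R, f ≠ 1 := by
    by_contra hc
    push Not at hc
    have h1 : Dg a R = ⊥ := eq_bot_iff.2 fun x hx => mem_bot.2 (hc x hx)
    have h2 := H.I_card_Dt hT
    rw [h1, Subgroup.card_bot] at h2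
    omega
  have hfs : f ≠ s := fun h0 => H.s_notMemD hR (h0 ▸ hf)
  have hall : ∀ x ∈ Dg a R, x = 1 ∨ x = f := fun x hx => by
    obtain ⟨hsx, htx⟩ := H.D_comm hR hx
    rcases H.one_classify hR h8 hf.1 hf1 hfs hx.1 with e' | e' | ⟨i, σ, hσ, he⟩
    · exact Or.inl e'
    · exact absurd (e' ▸ hx) (H.s_notMemD hR)
    · right
      have hσt : cj t σ = σ := (H.sig hσ).2.2.1
      have h1 := cj_of_commute htx
      rw [he, cj_mul, hσt] at h1
      have h2 := mul_right_cancel h1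
      rw [cj_cj, show t * e ^ (i : ℕ) = (e ^ (i : ℕ))⁻¹ * t by
        rw [← H.cj_t_epow, cj, inv_mul_cancel_right], ← cj_cj, cj_of_commute (H.D_comm hR hf).2] at h2
      obtain ⟨j, hj⟩ : ∃ j : Fin 3, (e ^ (i : ℕ))⁻¹ = e ^ (j : ℕ) :=
        ⟨⟨(3 - (i : ℕ)) % 3, Nat.mod_lt _ (by norm_num)⟩, by
          show _ = e ^ ((3 - (i : ℕ)) % 3)
          rw [← pow_eq_pow_mod _ H.e3]
          exact inv_eq_of_mul_eq_one_right (by rw [← pow_add, show (i : ℕ) + (3 - i) = 3 by omega, H.e3])⟩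
      have hij : j = i := H.orbit_inj hR hf.1 hf1 hfs (σ := 1) (Or.inl rfl) (by rw [← hj, h2, mul_one])
      subst hij
      have h3 : e ^ (j : ℕ) = 1 := eq_one_of_sq_cube (by nth_rewrite 1 [← hj]; exact inv_mul_cancel _)
        (H.e_pow3 _)
      rw [h3, cj_one'] at he
      rcases hσ with e' | e' <;> rw [e'] at he
      · rwa [mul_one] at he
      · exfalso
        have h4 := mul_mem (inv_mem hf) hx
        rw [he, inv_mul_cancel_left] at h4
        exact H.s_notMemD hR h4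
  refine ⟨f, H.fixed_iv hR hf (hel f hf.1) hf1 ?_, hf.1, hf1, hfs, fun x hx => ?_⟩
  · exact ((hall _ (H.D_a2 hR hf).1).resolve_left fun h0 => hf1 (cj_eq_one.1 h0))
  · rcases hall x hx with e' | e' <;> rw [e']
    exact Commute.one_right f

/-- A radical of order eight needs `z` conjugate to `s`. -/
theorem not_I_one [IsSimpleGroup G] (hG : ¬ IsMulCommutative G) (hT : TI s R O) (h8 : Nat.card R = 8)
    (hzs : ¬ IsConj s z) : False := by
  classical
  have hR := hT.rad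
  have hel := H.one_elem hT h8 hzs
  obtain ⟨f, hiv, hfR, hf1, hfs, hfc⟩ := H.one_iv hT h8 hzs
  obtain ⟨hsf, htf, hff⟩ := H.iv_comm hiv
  have hsf_f : IsConj s f := H.conj_s_f hR hiv hfc
  have hsfz : IsConj (s * f) z := H.sf_conj_z hiv
  have htfz : IsConj (t * f) z := (isConj_iff.2 ⟨a ^ 2, show cj (a ^ 2) (s * f) = t * f by
    rw [cj_mul, H.a2_s, H.iv_fix hiv]⟩).symm.trans hsfz
  have hszf : IsConj s (z * f) := hsf_f.trans (isConj_iff.2 ⟨a, H.cja_f hR hiv hfc⟩)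
  have hnot : ∀ {x : G}, IsConj x z → ¬ IsConj s x := fun hx h1 => hzs (h1.trans hx)
  obtain ⟨φ, hφs, hk⟩ := hT.hom
  obtain ⟨eL, heL⟩ : ∃ x : centralizer ({s} : Set G), (x : G) = e := ⟨⟨e, mem_L.2 H.se⟩, rfl⟩
  obtain ⟨tL, htL⟩ : ∃ x : centralizer ({s} : Set G), (x : G) = t := ⟨⟨t, mem_L.2 H.ts_comm.symm⟩, rfl⟩
  have he3 : eL ^ 3 = 1 := Subtype.ext (by simp [heL, H.e3])
  have htt : tL * tL = 1 := Subtype.ext (by simp [htL, H.tt])
  have hE3 : φ eL ^ 3 = 1 := by rw [← map_pow, he3, map_one]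
  have hT2 : φ tL * φ tL = 1 := by rw [← map_mul, htt, map_one]
  have hE1 : φ eL ≠ 1 := fun h0 => by
    obtain ⟨r, hr, w, hw, he⟩ := (hk _).1 h0
    rw [heL] at he
    have h1 := H.e3
    rw [he, (hT.comm r hr w hw).mul_pow, ← mul_one (1 : G)] at h1
    obtain ⟨h2, h3⟩ := hT.unique (pow_mem hr 3) (one_mem R) (pow_mem hw 3) (one_mem O) h1
    rw [eq_one_of_cube hT.O3 hw h3, (Two.of_isPGroup hR.core.two hr).eq_one_of_odd (n := 3)
      (by norm_num) h2, one_mul] at he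
    exact H.e_ne he
  have hT1 : φ tL ≠ 1 := fun h0 => by
    obtain ⟨r, hr, w, hw, he⟩ := (hk _).1 h0
    rw [htL] at he
    refine H.t_notMem hR ?_
    rw [he, hT.memR hr hw (he ▸ Two.of_sq H.tt), mul_one]
    exact hr
  -- the conjugates of `s` in the radical
  let u : Option (Fin 3) → G := fun o => Option.elim o s fun i => cj (e ^ (i : ℕ)) f
  have huR : ∀ o, u o ∈ R := fun o => by
    rcases o with _ | i
    exacts [hR.core.mem, hR.core.norm _ (H.se.pow_right _) _ hfR]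
  have hus : ∀ o, IsConj s (u o) := fun o => by
    rcases o with _ | i
    exacts [IsConj.refl s, hsf_f.trans (isConj_iff.2 ⟨e ^ (i : ℕ), rfl⟩)]
  have hu_surj : ∀ r ∈ R, IsConj s r → ∃ o, r = u o := fun r hr hsr => by
    rcases H.one_classify hR h8 hfR hf1 hfs hr with e' | e' | ⟨i, σ, hσ, he⟩
    · exact absurd e' (H.not_s_one hsr)
    · exact ⟨none, e'⟩
    · rcases hσ with e' | e' <;> rw [e'] at he
      · exact ⟨some i, by rw [he, mul_one]; rfl⟩
      · exfalso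
        refine hnot hsfz (hsr.trans (isConj_iff.2 ⟨(e ^ (i : ℕ))⁻¹, ?_⟩))
        show cj (e ^ (i : ℕ))⁻¹ r = s * f
        rw [he, cj_mul, cj_inv_cj, cj_of_commute (H.se.pow_right _).inv_right.symm, hsf.eq]
  have hu_inj : Function.Injective u := by
    have hne : ∀ i : Fin 3, cj (e ^ (i : ℕ)) f ≠ s := fun i h0 => hfs (cj_injective (e ^ (i : ℕ))
      (h0.trans (cj_of_commute (H.se.pow_right _).symm).symm))
    rintro (_ | i) (_ | j) hij
    · rfl
    · exact absurd hij.symm (hne j)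
    · exact absurd hij (hne i)
    · rw [H.orbit_inj hR hfR hf1 hfs (σ := 1) (Or.inl rfl)
        (show cj (e ^ (i : ℕ)) f = cj (e ^ (j : ℕ)) f * 1 by rw [mul_one]; exact hij)]
  -- the conjugates of `s` above a transposition
  let rb : Bool → G := fun b => if b then s * f else 1
  have hrbR : ∀ b, rb b ∈ R := fun b => by
    rcases b
    exacts [one_mem R, mul_mem hR.core.mem hfR]
  have hrbs : ∀ b, IsConj s (t * rb b) := fun b => by
    rcases b
    · simpa [rb] using H.conj_s_t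
    · simpa [rb, ← mul_assoc, H.ts] using hszf
  let I := {w : O // cj t (w : G) = (w : G)⁻¹}
  have hPs : ∀ b (w : I), IsConj s (t * rb b * (w.1 : G)) := fun b w =>
    (hrbs b).trans (conj_inverted hT.Oodd H.tt w.1.2 w.2 fun x hx => hT.comm _ (hrbR b) x hx)
  have hfib : ∀ y : centralizer ({s} : Set G), φ y = φ tL → IsConj s (y : G) →
      ∃ b, ∃ w : I, (y : G) = t * rb b * (w.1 : G) := fun y hy hys => by
    obtain ⟨r, hr, w, hw, he⟩ := (hk (tL * y)).1 (by rw [map_mul, hy, hT2])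
    have hy' : (y : G) = t * r * w := by
      rw [coe_mul, htL] at he
      rw [mul_assoc, ← he, ← mul_assoc, H.tt, one_mul]
    have hyy := H.sq_of_conj hys
    have htw : cj t w ∈ O := hT.Onorm t H.ts_comm.symm w hw
    have h1 : cj t r * r * (cj t w * w) = 1 * 1 := by
      rw [one_mul, ← (hT.comm r hr _ htw).symm.mul_mul_mul_comm, ← cj_mul, cj, inv_of_sq H.tt]
      rw [hy'] at hyy
      simpa only [mul_assoc] using hyy
    obtain ⟨h2, h3⟩ := hT.unique (mul_mem (hR.core.norm t H.ts_comm.symm r hr) hr) (one_mem R)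
      (mul_mem htw hw) (one_mem O) h1
    have hwI : cj t w = w⁻¹ := eq_inv_of_mul_eq_one_left h3
    have htr : cj t r = r := by rw [eq_inv_of_mul_eq_one_left h2, inv_of_sq (hel r hr)]
    have hyr : IsConj s (t * r) := hys.trans (hy' ▸ (conj_inverted hT.Oodd H.tt hw hwI
      fun x hx => hT.comm r hr x hx).symm)
    have hrcase : ∃ b, r = rb b := by
      rcases H.one_classify hR h8 hfR hf1 hfs hr with e' | e' | ⟨i, σ, hσ, he'⟩
      · exact ⟨false, e'⟩
      · rw [e', H.ts] at hyr; exact absurd hyr hzs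
      · have hσt : cj t σ = σ := by
          rcases hσ with rfl | rfl
          exacts [cj_one t, cj_of_commute H.ts_comm]
        rw [he', cj_mul, hσt] at htr
        have h4 := mul_right_cancel htr
        rw [cj_cj, show t * e ^ (i : ℕ) = (e ^ (i : ℕ))⁻¹ * t by
          rw [← H.cj_t_epow, cj, inv_mul_cancel_right], ← cj_cj, cj_of_commute htf] at h4
        obtain ⟨d, hd⟩ : ∃ d, d = e ^ (i : ℕ) * e ^ (i : ℕ) := ⟨_, rfl⟩
        have hdf : cj d f = f := by rw [hd, ← cj_cj, ← h4, cj_cj_inv]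
        have hd1 : d = 1 := by
          by_contra hd1
          have hd3 : d ^ 3 = 1 := by rw [hd, (Commute.refl _).mul_pow, H.e_pow3, one_mul]
          exact (H.fixR hR.core hd3 hd1 (hd ▸ (H.se.pow_right _).mul_right (H.se.pow_right _)) hfR
            (Or.inl hdf)).elim hf1 hfs
        rw [eq_one_of_sq_cube (hd ▸ hd1) (H.e_pow3 _), cj_one'] at he'
        rcases hσ with e'' | e'' <;> rw [e''] at he'
        · rw [he', mul_one] at hyr; exact absurd hyr (hnot htfz)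
        · exact ⟨true, by rw [he', hsf.eq.symm]; rfl⟩
    obtain ⟨b, rfl⟩ := hrcase
    exact ⟨b, ⟨⟨w, hw⟩, hwI⟩, hy'⟩
  -- counting
  let S := {x : centralizer ({s} : Set G) // IsConj s (x : G)}
  have hmem : ∀ (i : Fin 3) b (w : I), Commute s (cj (e ^ (i : ℕ))⁻¹ (t * rb b * (w.1 : G))) := fun i b w => by
    have h1 := cj_commute (e ^ (i : ℕ))⁻¹
      ((H.ts_comm.symm.mul_right (hR.core.le _ (hrbR b))).mul_right (hT.Ole _ w.1.2))
    rwa [cj_of_commute (H.se.pow_right _).inv_right.symm] at h1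
  let Ψ : Option (Fin 3) ⊕ (Fin 3 × Bool × I) → S := fun p => Sum.elim
    (fun o => ⟨⟨u o, mem_L.2 (hR.core.le _ (huR o))⟩, hus o⟩)
    (fun q => ⟨⟨cj (e ^ (q.1 : ℕ))⁻¹ (t * rb q.2.1 * (q.2.2.1 : G)), mem_L.2 (hmem q.1 q.2.1 q.2.2)⟩,
      (hPs q.2.1 q.2.2).trans (isConj_iff.2 ⟨(e ^ (q.1 : ℕ))⁻¹, rfl⟩)⟩) p
  have himg : ∀ q : Fin 3 × Bool × I, φ (Ψ (Sum.inr q)).1 =
      (φ eL ^ (q.1 : ℕ))⁻¹ * φ tL * φ eL ^ (q.1 : ℕ) := by
    rintro ⟨i, b, w⟩
    have hc : Commute s (rb b * (w.1 : G)) := (hR.core.le _ (hrbR b)).mul_right (hT.Ole _ w.1.2)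
    have h1 : φ ⟨_, mem_L.2 hc⟩ = 1 := (hk _).2 ⟨_, hrbR b, _, w.1.2, rfl⟩
    have h2 : (Ψ (Sum.inr (i, b, w))).1 =
        (eL ^ (i : ℕ))⁻¹ * (tL * ⟨_, mem_L.2 hc⟩) * eL ^ (i : ℕ) := Subtype.ext (by
      simp only [Ψ, Sum.elim_inr, coe_mul, InvMemClass.coe_inv, SubgroupClass.coe_pow, heL, htL, cj,
        inv_inv, mul_assoc])
    rw [h2]
    simp only [map_mul, map_inv, map_pow, h1, mul_one]
  have hne1 : ∀ i : ℕ, (φ eL ^ i)⁻¹ * φ tL * φ eL ^ i ≠ 1 := fun i h0 => hT1 (by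
    rw [mul_assoc, inv_mul_eq_one, eq_comm, mul_eq_right] at h0
    exact h0)
  have hu1 : ∀ o, φ (Ψ (Sum.inl o)).1 = 1 := fun o =>
    (hk _).2 ⟨u o, huR o, 1, one_mem O, (mul_one _).symm⟩
  have hΨ : Function.Bijective Ψ := by
    constructor
    · rintro (o | q) (o' | q') hpq
      · rw [hu_inj (congrArg (fun x : S => ((x.1 : centralizer ({s} : Set G)) : G)) hpq)]
      · exact absurd ((himg q').symm.trans ((congrArg (fun x : S => φ x.1) hpq.symm).trans (hu1 o))) (hne1 _)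
      · exact absurd ((himg q).symm.trans ((congrArg (fun x : S => φ x.1) hpq).trans (hu1 o'))) (hne1 _)
      · obtain ⟨i, b, w⟩ := q
        obtain ⟨j, b', w'⟩ := q'
        have hij := s3_conj_unique _ _ hE3 hE1 hT2 hT1 i j
          ((himg (i, b, w)).symm.trans ((congrArg (fun x : S => φ x.1) hpq).trans (himg (j, b', w'))))
        subst hij
        have h1 : t * rb b * (w.1 : G) = t * rb b' * (w'.1 : G) := cj_injective _
          (congrArg (fun x : S => ((x.1 : centralizer ({s} : Set G)) : G)) hpq)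
        rw [mul_assoc, mul_assoc] at h1
        obtain ⟨h2, h3⟩ := hT.unique (hrbR b) (hrbR b') w.1.2 w'.1.2 (mul_left_cancel h1)
        obtain rfl : b = b' := by
          rcases b <;> rcases b' <;> simp [rb] at h2 ⊢
          · exact hfs ((inv_of_sq H.s_sq) ▸ eq_inv_of_mul_eq_one_right h2.symm)
          · exact hfs ((inv_of_sq H.s_sq) ▸ eq_inv_of_mul_eq_one_right h2)
        rw [show w = w' from Subtype.ext (Subtype.ext h3)]
    · rintro ⟨x, hx⟩
      by_cases hx1 : φ x = 1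
      · obtain ⟨r, hr, w, hw, he⟩ := (hk x).1 hx1
        rw [hT.memR hr hw (he ▸ Two.of_sq (H.sq_of_conj hx)), mul_one] at he
        obtain ⟨o, ho⟩ := hu_surj r hr (he ▸ hx)
        exact ⟨Sum.inl o, Subtype.ext (Subtype.ext (ho.symm.trans he.symm))⟩
      · obtain ⟨i, hi⟩ := s3_conj _ _ (φ x) hE3 hE1 hT2 hT1
          (by rw [← map_mul, show x * x = 1 from Subtype.ext (H.sq_of_conj hx), map_one]) hx1
        obtain ⟨y, hy⟩ : ∃ y, y = eL ^ (i : ℕ) * x * (eL ^ (i : ℕ))⁻¹ := ⟨_, rfl⟩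
        have hy' : (y : G) = cj (e ^ (i : ℕ)) x := by
          rw [hy]; simp only [coe_mul, InvMemClass.coe_inv, SubgroupClass.coe_pow, heL, cj]
        obtain ⟨b, w, hw⟩ := hfib y (by rw [hy, map_mul, map_mul, map_inv, map_pow, hi])
          (hx.trans (isConj_iff.2 ⟨e ^ (i : ℕ), hy'.symm⟩))
        refine ⟨Sum.inr (i, b, w), Subtype.ext (Subtype.ext ?_)⟩
        show cj (e ^ (i : ℕ))⁻¹ (t * rb b * (w.1 : G)) = (x : G)
        rw [← hw, hy', cj_inv_cj]
  have hS : Nat.card S = 4 + 3 * (2 * Nat.card I) := by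
    rw [← Nat.card_congr (Equiv.ofBijective Ψ hΨ), Nat.card_sum, Nat.card_prod, Nat.card_prod]
    simp
  have hI : ¬ 2 ∣ Nat.card I := odd_inverted hT.Oodd t
  obtain ⟨fN, hfN, hmN⟩ := H.fixed_N hG hzs
  obtain ⟨fK, hfK, hmK⟩ := exists_fixed hG H.s_sq (centralizer ({s} : Set G))
  have hL := hT.card
  rw [h8] at hL
  have hfK' : fK = Nat.card S := Nat.eq_of_mul_eq_mul_left Nat.card_pos ((mul_comm _ fK).trans hfK)
  have hGc := (centralizer ({s} : Set G)).card_mul_index.trans H.index_N.symm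
  rw [hL] at hGc hfN
  rw [hfK', hS] at hmK
  have h4 : 4 ∣ Nat.card O * (centralizer ({s} : Set G)).index := by
    refine ⟨3 * ((normalizer (M : Set G)).index / 4), ?_⟩
    have h5 : (normalizer (M : Set G)).index % 4 = 0 := by omega
    rw [show 6 * (8 * Nat.card O) * (centralizer ({s} : Set G)).index =
      48 * (Nat.card O * (centralizer ({s} : Set G)).index) by ring] at hGc
    omega
  have h6 := Nat.Coprime.dvd_of_dvd_mul_left
    (show Nat.Coprime 4 (Nat.card O) from Nat.Coprime.pow_left 2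
      (Nat.prime_two.coprime_iff_not_dvd.2 hT.Oodd)) h4
  omega

end Cfg

end Cfsg.Agent.M11ThreeLocal
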