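import Cfsg.Agent.M11ThreeLocal.OneBase

/-!
# The first shape with the smallest radical
-/

set_option autoImplicit false
set_option linter.unusedSectionVars false

namespace Cfsg.Agent.M11ThreeLocal

open Subgroup

variable {G : Type*} [Group G] [Finite G] {M : Subgroup G} {e h s t z a : G} {R O : Subgroup G}

namespace Cfg

variable (H : Cfg M e h s t z a)

include H

/-- The case of a radical of order two does not occur. -/
theorem not_I_zero [IsSimpleGroup G] (hG : ¬ IsMulCommutative G) (hT : TI s R O) (hR2 : Nat.card R = 2) :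
    False := by
  classical
  haveI : Fact (Nat.Prime 2) := ⟨Nat.prime_two⟩
  have hRs : ∀ r ∈ R, r = 1 ∨ r = s := by
    have h1 : zpowers s = R := eq_of_le_of_card_ge (zpowers_le.2 hT.core.mem) (by
      rw [hR2, Nat.card_zpowers, orderOf_eq_prime (by rw [sq, H.s_sq]) H.s_ne])
    intro r hr
    rw [← h1] at hr
    exact (mem_zpowers_invol H.s_sq).1 hr
  have hzs : ¬ IsConj s z := fun hsz => by
    obtain ⟨r, hr, hrr⟩ := H.root_sq hT.rad hsz
    rcases hRs r hr with rfl | rfl
    · exact H.s_ne ((one_mul 1).symm.trans hrr).symm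
    · exact H.s_ne (hrr.symm.trans H.s_sq)
  have hGc := H.index_N
  have hQ2 : IsPGroup 2 H.Qgrp := IsPGroup.of_card (n := 4) (by rw [H.card_Qgrp]; norm_num)
  obtain ⟨T, hQT⟩ := hQ2.exists_le_sylow
  have hTQ : H.Qgrp = (T : Subgroup G) := by
    by_contra hne
    obtain ⟨x, hxT, hxQ, hxN⟩ := exists_normalizing T.2 hQT hne
    obtain ⟨P, hP⟩ : ∃ P, P = (T : Subgroup G) ⊓ normalizer (H.Qgrp : Set G) := ⟨_, rfl⟩
    have hP2 : IsPGroup 2 P := T.2.to_le (hP ▸ inf_le_left)
    have hQP : H.Qgrp ≤ P := hP ▸ le_inf hQT le_normalizer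
    have hxP : x ∈ P := hP ▸ ⟨hxT, hxN⟩
    have h16 : 16 < Nat.card P := by
      have h1 := card_le_of_le hQP
      rw [H.card_Qgrp] at h1
      refine lt_of_le_of_ne h1 fun h2 => hxQ ?_
      rw [eq_of_le_of_card_ge hQP (by rw [H.card_Qgrp, ← h2])]
      exact hxP
    have h4 : Nat.card (P ⊓ centralizer ({s} : Set G) : Subgroup G) ≤ 4 := by
      have h1 := hT.card_two_le (P := P ⊓ centralizer ({s} : Set G)) (hP2.to_le inf_le_left)
        fun y hy => mem_L.1 hy.2
      rw [hR2] at h1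
      exact h1
    have horb : Nat.card {y : G // ∃ k ∈ P, cj k s = y} ≤ 4 := by
      have hmem : ∀ y : {y : G // ∃ k ∈ P, cj k s = y}, ∃ j : Fin 4, y.1 = a ^ (2 * (j : ℕ)) * s := by
        rintro ⟨y, k, hk, rfl⟩
        refine H.Qgrp_conj_s hzs ?_ (isConj_iff.2 ⟨k, rfl⟩)
        rw [hP] at hk
        exact (mem_normalizer_iff.1 hk.2 s).1 ⟨0, Or.inr (by simp)⟩
      choose j hj using hmem
      calc _ ≤ Nat.card (Fin 4) :=
            Nat.card_le_card_of_injective j fun u w huw => Subtype.ext (by rw [hj, hj, huw])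
        _ = 4 := Nat.card_fin 4
    have h1 := card_orbit_mul P s
    have := Nat.mul_le_mul horb h4
    omega
  have hodd : ¬ 2 ∣ (normalizer (M : Set G)).index := by
    intro hd
    have h1 := (T : Subgroup G).card_mul_index
    rw [← hTQ, H.card_Qgrp, ← hGc] at h1
    refine T.not_dvd_index ?_
    rw [← hTQ]
    omega
  -- the subgroup without conjugates of s
  let Q0 : Subgroup G :=
    { carrier := {x | ∃ i : ℕ, x = a ^ (2 * i) ∨ x = a ^ (2 * i + 1) * s}
      one_mem' := ⟨0, Or.inl (by simp)⟩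
      mul_mem' := by
        rintro x y ⟨i, rfl | rfl⟩ ⟨j, rfl | rfl⟩
        · exact ⟨i + j, Or.inl (by rw [← pow_add, mul_add])⟩
        · exact ⟨i + j, Or.inr (by rw [← mul_assoc, ← pow_add, mul_add, add_assoc])⟩
        · exact ⟨i + 3 * j, Or.inr (by rw [H.pow_mul_s]; congr 2; ring)⟩
        · refine ⟨i + 3 * j + 2, Or.inl ?_⟩
          rw [← mul_assoc, H.pow_mul_s, mul_assoc, H.s_sq, mul_one]
          congr 1; ring
      inv_mem' := by
        rintro x ⟨i, rfl | rfl⟩
        · refine ⟨7 * i, Or.inl (inv_eq_of_mul_eq_one_right ?_)⟩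
          rw [← pow_add, show 2 * i + 2 * (7 * i) = 8 * (2 * i) by omega, pow_mul, H.a8, one_pow]
        · refine ⟨5 * i + 2, Or.inr (inv_eq_of_mul_eq_one_right ?_)⟩
          rw [← mul_assoc, H.pow_mul_s, mul_assoc, H.s_sq, mul_one,
            show 2 * i + 1 + 3 * (2 * (5 * i + 2) + 1) = 8 * (4 * i + 2) by omega, pow_mul, H.a8, one_pow] }
  have hQ0N : Q0 ≤ normalizer (M : Set G) := by
    rintro x ⟨i, rfl | rfl⟩
    · exact pow_mem H.aN _
    · exact mul_mem (pow_mem H.aN _) H.sN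
  have hQ0card : Nat.card Q0 = 8 := by
    let F : Fin 4 × Bool → Q0 := fun p =>
      ⟨if p.2 then a ^ (2 * (p.1 : ℕ) + 1) * s else a ^ (2 * (p.1 : ℕ)), ⟨p.1, by rcases p.2 <;> simp⟩⟩
    have hF : Function.Bijective F := by
      constructor
      · rintro ⟨i, b⟩ ⟨j, c⟩ hij
        have h1 := congrArg Subtype.val hij
        simp only [F] at h1
        have key : ∀ i j : ℕ, j < 8 → a ^ i ≠ a ^ j * s := fun i j hj h2 => H.s_ne_pow ((8 - j) + i) (by
          rw [pow_add, h2, ← mul_assoc, ← pow_add, show 8 - j + j = 8 by omega, H.a8, one_mul])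
        have inj : ∀ u w : ℕ, u < 8 → w < 8 → a ^ u = a ^ w → u = w := fun u w hu hw huw =>
          congrArg Fin.val (H.pow_inj (i := ⟨u, hu⟩) (j := ⟨w, hw⟩) huw)
        rcases b <;> rcases c <;> simp only [Bool.false_eq_true, if_false, if_true] at h1
        · have := inj _ _ (by omega) (by omega) h1
          rw [Fin.ext (show (i : ℕ) = j by omega)]
        · exact absurd h1 (key _ _ (by omega))
        · exact absurd h1.symm (key _ _ (by omega))
        · have := inj _ _ (by omega) (by omega) (mul_right_cancel h1)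
          rw [Fin.ext (show (i : ℕ) = j by omega)]
      · rintro ⟨x, i, rfl | rfl⟩
        · refine ⟨(⟨i % 4, Nat.mod_lt _ (by norm_num)⟩, false), Subtype.ext ?_⟩
          show a ^ (2 * (i % 4)) = a ^ (2 * i)
          rw [pow_eq_pow_mod (2 * i) H.a8]
          congr 1; omega
        · refine ⟨(⟨i % 4, Nat.mod_lt _ (by norm_num)⟩, true), Subtype.ext ?_⟩
          show a ^ (2 * (i % 4) + 1) * s = a ^ (2 * i + 1) * s
          rw [pow_eq_pow_mod (2 * i + 1) H.a8]
          congr 2; omega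
    rw [← Nat.card_congr (Equiv.ofBijective F hF)]
    simp
  let K : Subgroup G :=
    { carrier := {x | ∃ q ∈ Q0, ∃ m ∈ M, x = q * m}
      one_mem' := ⟨1, one_mem _, 1, one_mem _, (one_mul 1).symm⟩
      mul_mem' := by
        rintro _ _ ⟨q, hq, m, hm, rfl⟩ ⟨q', hq', m', hm', rfl⟩
        refine ⟨q * q', Q0.mul_mem hq hq', cj q'⁻¹ m * m',
          M.mul_mem (H.cjM (inv_mem (hQ0N hq')) hm) hm', ?_⟩
        simp only [cj]; group
      inv_mem' := by
        rintro _ ⟨q, hq, m, hm, rfl⟩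
        refine ⟨q⁻¹, Q0.inv_mem hq, cj q m⁻¹, H.cjM (hQ0N hq) (M.inv_mem hm), ?_⟩
        simp only [cj]; group }
  have hQM : ∀ q ∈ Q0, q ∈ M → q = 1 := by
    intro q hq hm
    have h8 := pow_card_eq_one' (x := (⟨q, hq⟩ : Q0))
    rw [hQ0card] at h8
    have h8' : q ^ 8 = 1 := congrArg Subtype.val h8
    calc q = (q ^ 3) ^ 3 * (q ^ 8)⁻¹ := by group
      _ = 1 := by rw [H.cube q hm, h8']; group
  have hK72 : Nat.card K = 72 := by
    let F : Q0 × M → K := fun p => ⟨p.1 * p.2, p.1, p.1.2, p.2, p.2.2, rfl⟩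
    have hF : Function.Bijective F := by
      constructor
      · rintro ⟨⟨q, hq⟩, ⟨m, hm⟩⟩ ⟨⟨q', hq'⟩, ⟨m', hm'⟩⟩ hij
        have h1 : q * m = q' * m' := congrArg Subtype.val hij
        have h2 : q'⁻¹ * q = m' * m⁻¹ := by
          rw [eq_mul_inv_iff_mul_eq, mul_assoc, h1, inv_mul_cancel_left]
        have h3 := hQM _ (Q0.mul_mem (Q0.inv_mem hq') hq) (h2 ▸ M.mul_mem hm' (M.inv_mem hm))
        obtain rfl : q' = q := inv_mul_eq_one.1 h3
        obtain rfl : m = m' := mul_left_cancel h1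
        rfl
      · rintro ⟨x, q, hq, m, hm, rfl⟩
        exact ⟨(⟨q, hq⟩, ⟨m, hm⟩), rfl⟩
    rw [← Nat.card_congr (Equiv.ofBijective F hF), Nat.card_prod, hQ0card, H.card]
  have hnone : IsEmpty {y : K // IsConj s (y : G)} := by
    refine ⟨?_⟩
    rintro ⟨⟨_, q, hq, m, hm, rfl⟩, hy⟩
    have hy' : IsConj s (q * m) := hy
    have hxx := H.sq_of_conj hy'
    have hqq : q * q = 1 := by
      have h1 : cj q m * (q * q) * m = 1 := by rw [← hxx, cj]; group
      refine hQM _ (Q0.mul_mem hq hq) ?_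
      have h2 : q * q = (cj q m)⁻¹ * m⁻¹ := by
        rw [eq_mul_inv_iff_mul_eq]
        exact eq_inv_of_mul_eq_one_right (by rw [← mul_assoc]; exact h1)
      rw [h2]
      exact mul_mem (inv_mem (H.cjM (hQ0N hq) hm)) (inv_mem hm)
    obtain ⟨i, rfl | rfl⟩ := hq
    · rw [← pow_add] at hqq
      have h2 := H.pow_eq_one_iff'.1 hqq
      rcases (show 2 * i % 8 = 0 ∨ 2 * i % 8 = 4 by omega) with e' | e' <;>
        rw [pow_eq_pow_mod (2 * i) H.a8, e'] at hy' hxx
      · rw [pow_zero, one_mul] at hy' hxx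
        exact H.not_s_one hy' (eq_one_of_sq_cube hxx (H.cube m hm))
      · rw [← H.z_eq] at hy'
        refine hzs (hy'.trans (isConj_iff.2 ⟨m, ?_⟩).symm)
        show cj m z = z * m
        have h3 : cj z m⁻¹ = m := by rw [cj_inv, H.z_inv m hm, inv_inv]
        have hmm : m * m = m⁻¹ := eq_inv_of_mul_eq_one_left (by rw [← pow_three']; exact H.cube m hm)
        calc cj m z = m * cj z m⁻¹ * z := by simp only [cj]; group
          _ = m⁻¹ * z := by rw [h3, hmm]
          _ = z * m := by rw [← H.z_inv m hm, cj, inv_mul_cancel_right]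
    · rw [← mul_assoc, H.pow_mul_s, mul_assoc, H.s_sq, mul_one] at hqq
      have h2 := H.pow_eq_one_iff'.1 hqq
      omega
  obtain ⟨f, hf, hfm⟩ := exists_fixed hG H.s_sq K
  rw [hK72, Nat.card_eq_zero.2 (Or.inl hnone), mul_zero] at hf
  have h1 := K.card_mul_index
  rw [hK72, ← hGc] at h1
  omega

end Cfg

end Cfsg.Agent.M11ThreeLocal
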