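import Cfsg.Agent.M11ThreeLocal.Basic
import Cfsg.Agent.M11ThreeLocal.Model

/-!
# Planes, and the symmetric group on six letters
-/

set_option autoImplicit false
set_option linter.unusedSectionVars false

namespace Cfsg.Agent.M11ThreeLocal

open Subgroup

variable {G : Type*} [Group G]

/-- `p` and its images under `e` form a four group centralised by `s` and by `t` on `p`. -/
structure Plane (s t e p : G) : Prop where
  ne : p ≠ 1
  sq : p * p = 1
  cs : Commute s p
  ct : Commute t p
  cc : Commute p (cj e p)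
  prod : p * cj e p * cj e (cj e p) = 1

theorem plane_iff {s t e p : G} : Plane s t e p ↔ p ≠ 1 ∧ p * p = 1 ∧ s * p = p * s ∧ t * p = p * t ∧
    p * cj e p = cj e p * p ∧ p * cj e p * cj e (cj e p) = 1 :=
  ⟨fun h => ⟨h.ne, h.sq, h.cs.eq, h.ct.eq, h.cc.eq, h.prod⟩,
    fun ⟨a, b, c, d, e, f⟩ => ⟨a, b, c, d, e, f⟩⟩

namespace Plane

variable {s t e p : G}

theorem third (h : Plane s t e p) : cj e (cj e p) = p * cj e p := by
  have h1 := h.prod
  have h2 : cj e p * cj e p = 1 := by rw [← cj_mul, h.sq, cj_one]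
  rw [mul_eq_one_iff_inv_eq, mul_inv_rev, inv_of_sq h.sq, inv_of_sq h2] at h1
  rw [← h1, h.cc.eq]

theorem map_hom {G' : Type*} [Group G'] (φ : G →* G') (hφ : Function.Injective φ) (h : Plane s t e p) :
    Plane (φ s) (φ t) (φ e) (φ p) := by
  have hc : ∀ a b : G, cj (φ a) (φ b) = φ (cj a b) := fun a b => by simp [cj]
  refine ⟨fun h0 => h.ne (hφ (h0.trans (map_one φ).symm)), by rw [← map_mul, h.sq, map_one],
    h.cs.map φ, h.ct.map φ, by rw [hc]; exact h.cc.map φ, ?_⟩
  rw [hc, hc, ← map_mul, ← map_mul, h.prod, map_one]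

theorem map (g : G) (h : Plane s t e p) : Plane (cj g s) (cj g t) (cj g e) (cj g p) := by
  simpa [cj, MulAut.conj_apply] using h.map_hom (MulAut.conj g).toMonoidHom (MulAut.conj g).injective

theorem inv (he : e ^ 3 = 1) (h : Plane s t e p) : Plane s t e⁻¹ p := by
  have hee : e * e = e⁻¹ := eq_inv_of_mul_eq_one_left (by rw [← pow_three']; exact he)
  have h1 : cj e⁻¹ p = p * cj e p := by rw [← h.third, cj_cj, hee]
  have h2 : cj e⁻¹ (cj e⁻¹ p) = cj e p := by
    rw [cj_cj, show e⁻¹ * e⁻¹ = e by rw [← mul_inv_rev, hee, inv_inv]]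
  refine ⟨h.ne, h.sq, h.cs, h.ct, ?_, ?_⟩
  · rw [h1]; exact (Commute.refl p).mul_right h.cc
  · rw [h2, h1, ← mul_assoc p p, h.sq, one_mul, ← cj_mul, h.sq, cj_one]

end Plane

variable [Finite G] {M : Subgroup G} {e h s t z a : G}

/-- The involutions which are of the second type on both sides. -/
def Iv (s t e h f : G) : Prop := Plane s t e (s * f) ∧ Plane t s h (t * f)

theorem brk_cancel {a b w : G} (h1 : Commute a w) (h2 : Commute b w) (hw : w * w = 1) :
    a * (b * w) * a * (b * w) = a * b * a * b := by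
  calc a * (b * w) * a * (b * w) = a * b * (w * a) * b * w := by simp only [mul_assoc]
    _ = a * b * a * (w * b) * w := by rw [← h1.eq]; simp only [mul_assoc]
    _ = a * b * a * b * (w * w) := by rw [← h2.eq]; simp only [mul_assoc]
    _ = _ := by rw [hw, mul_one]

theorem brk_left {a x w : G} (h1 : Commute a x) (h2 : Commute x w) (hx : x * x = 1) :
    a * x * w * (a * x) * w = a * w * a * w := by
  calc a * x * w * (a * x) * w = a * (x * w) * a * x * w := by simp only [mul_assoc]
    _ = a * w * (x * a) * x * w := by rw [h2.eq]; simp only [mul_assoc]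
    _ = a * w * a * (x * x) * w := by rw [← h1.eq]; simp only [mul_assoc]
    _ = _ := by rw [hx, mul_one]

theorem cj_e_cube {e : G} (he : e ^ 3 = 1) (x : G) : cj e (cj e (cj e x)) = x := by
  rw [cj_cj, cj_cj, ← pow_three', he, cj_one']

namespace Cfg

variable (H : Cfg M e h s t z a)

include H

theorem plane_a2 {p : G} (hp : Plane s t e p) : Plane t s h (cj (a ^ 2) p) := by
  have h1 := hp.map (a ^ 2)
  rwa [H.a2_s, H.a2_t, H.a2_e] at h1

theorem plane_a2' {p : G} (hp : Plane t s h p) : Plane s t e (cj (a ^ 2) p) := by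
  have h1 := hp.map (a ^ 2)
  rw [H.a2_s, H.a2_t, H.a2_h] at h1
  have h2 := h1.inv (by rw [inv_pow, H.e3, inv_one])
  rwa [inv_inv] at h2

/-- No involution is of the first type on both sides. -/
theorem double {f : G} (h1 : Plane s t e f) (h2 : Plane t s h f) : False := by
  obtain ⟨fe, hfe⟩ : ∃ x, x = cj e f := ⟨_, rfl⟩
  obtain ⟨fh, hfh⟩ : ∃ x, x = cj h f := ⟨_, rfl⟩
  obtain ⟨w, hw⟩ : ∃ x, x = cj e fh := ⟨_, rfl⟩
  have hw' : w = cj h fe := by rw [hw, hfh, hfe, cj_cj, cj_cj, H.eh.eq]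
  have c1 : Commute f fe := hfe ▸ h1.cc
  have c2 : Commute f fh := hfh ▸ h2.cc
  have c3 : Commute fe w := by rw [hfe, hw]; exact cj_commute e c2
  have c4 : Commute fh w := by rw [hw', hfh]; exact cj_commute h c1
  have qfe : fe * fe = 1 := by rw [hfe, ← cj_mul, h1.sq, cj_one]
  have qfh : fh * fh = 1 := by rw [hfh, ← cj_mul, h2.sq, cj_one]
  have qw : w * w = 1 := by rw [hw, ← cj_mul, qfh, cj_one]
  have e_fe : cj e fe = f * fe := by rw [hfe]; exact h1.third
  have h_fh : cj h fh = f * fh := by rw [hfh]; exact h2.third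
  have e_w : cj e w = fh * w := by
    rw [hw', hfh, cj_cj, H.eh.eq, ← cj_cj, e_fe, cj_mul]
  have h_w : cj h w = fe * w := by
    rw [hw, hfe, cj_cj, ← H.eh.eq, ← cj_cj, h_fh, cj_mul]
  have conj_swap : ∀ u x : G, cj u (cj x f) = cj (cj u x) (cj u f) := fun u x => by
    simp only [cj]; group
  have hs_fe : cj s fe = fe := by rw [hfe, conj_swap, cj_of_commute H.se, cj_of_commute h1.cs]
  have hs_fh : cj s fh = fh * f := by
    rw [hfh, conj_swap, H.sh, cj_of_commute h1.cs,
      show h⁻¹ = h * h from inv_eq_of_mul_eq_one_right (by rw [← pow_three]; exact H.h3), ← cj_cj,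
      h2.third, ← hfh, c2.eq]
  have ht_fe : cj t fe = fe * f := by
    rw [hfe, conj_swap, H.te, cj_of_commute h1.ct,
      show e⁻¹ = e * e from inv_eq_of_mul_eq_one_right (by rw [← pow_three]; exact H.e3), ← cj_cj,
      h1.third, ← hfe, c1.eq]
  have ht_fh : cj t fh = fh := by rw [hfh, conj_swap, cj_of_commute H.th, cj_of_commute h1.ct]
  obtain ⟨c, hc⟩ : ∃ x, x = fe * fh * fe * fh := ⟨_, rfl⟩
  have hcs : cj s c = c := by
    rw [hc, cj_mul, cj_mul, cj_mul, hs_fe, hs_fh, brk_cancel c1.symm c2.symm h1.sq]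
  have hct : cj t c = c := by
    rw [hc, cj_mul, cj_mul, cj_mul, ht_fe, ht_fh, brk_left c1.symm c2 h1.sq]
  have hc1 : cj e c = f * w * f * w := by
    rw [hc, cj_mul, cj_mul, cj_mul, e_fe, ← hw, brk_left c1 c3 qfe]
  have hc2 : cj e (cj e c) = c := by
    rw [hc1, cj_mul, cj_mul, cj_mul, ← hfe, e_w, brk_cancel c3 c4 qw, hc]
  have hce : cj e c = c := by
    conv_rhs => rw [← cj_e_cube H.e3 c, hc2]
  have hcN : c ∈ normalizer (M : Set G) := H.centN e H.eM H.e_ne
    (mem_centralizer_singleton_iff.2 (commute_of_cj hce).symm.eq)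
  have hc0 : c = 1 := by
    have ne_inv : e⁻¹ ≠ e := fun h0 =>
      H.e_ne (eq_one_of_sq_cube (by nth_rewrite 1 [← h0]; exact inv_mul_cancel e) H.e3)
    have hec : cj c e = e := cj_of_commute (commute_of_cj hce).symm
    rcases H.four hcN (commute_of_cj hcs).symm (commute_of_cj hct).symm with h0 | h0 | h0 | h0
    · exact h0
    · exfalso
      have hinv : cj fh c = c⁻¹ := by
        rw [hc, cj, inv_of_sq qfh, mul_inv_rev, mul_inv_rev, mul_inv_rev, inv_of_sq qfe, inv_of_sq qfh]
        simp only [mul_assoc, qfh, mul_one]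
      rw [h0, inv_of_sq H.s_sq] at hinv
      have h3 := cj_of_commute (commute_of_cj hinv).symm
      rw [hs_fh] at h3
      exact h1.ne (mul_left_cancel (h3.trans (mul_one fh).symm))
    · rw [h0, H.te] at hec; exact absurd hec ne_inv
    · rw [h0, H.z_inv e H.eM] at hec; exact absurd hec ne_inv
  have c5 : Commute fe fh := by
    have h3 : (fe * fh) * (fe * fh) = 1 := by rw [← mul_assoc, ← hc, hc0]
    have h4 := inv_of_sq h3
    rw [mul_inv_rev, inv_of_sq qfe, inv_of_sq qfh] at h4
    exact h4.symm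
  have c6 : Commute f w := by
    have h3 : (f * w) * (f * w) = 1 := by rw [← mul_assoc, ← hc1, hce, hc0]
    have h4 := inv_of_sq h3
    rw [mul_inv_rev, inv_of_sq h1.sq, inv_of_sq qw] at h4
    exact h4.symm
  set S := closure ({f, fe, fh, w} : Set G) with hS
  have mf : f ∈ S := subset_closure (by simp)
  have mfe : fe ∈ S := subset_closure (by simp)
  have mfh : fh ∈ S := subset_closure (by simp)
  have mw : w ∈ S := subset_closure (by simp)
  have hab : IsMulCommutative S := Subgroup.isMulCommutative_closure (by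
    rintro x (rfl | rfl | rfl | rfl) y (rfl | rfl | rfl | rfl) <;>
      first | rfl | assumption | exact c1 | exact c1.symm | exact c2 | exact c2.symm | exact c3 |
        exact c3.symm | exact c4 | exact c4.symm | exact c5 | exact c5.symm | exact c6 | exact c6.symm)
  have hsq : ∀ x ∈ S, x * x = 1 := fun x hx => by
    induction hx using closure_induction with
    | mem x hx => rcases hx with rfl | rfl | rfl | rfl; exacts [h1.sq, qfe, qfh, qw]
    | one => exact one_mul 1
    | mul x y hx hy ihx ihy =>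
      rw [(show Commute y x from congrArg Subtype.val (hab.is_comm.comm ⟨y, hy⟩ ⟨x, hx⟩)).mul_mul_mul_comm,
        ihx, ihy, one_mul]
    | inv x _ ih => rw [← mul_inv_rev, ih, inv_one]
  have h3 : ¬ 3 ∣ Nat.card S := fun hd => by
    have : Fact (Nat.Prime 3) := ⟨Nat.prime_three⟩
    obtain ⟨⟨x, hx⟩, hxo⟩ := exists_prime_orderOf_dvd_card' 3 hd
    rw [Subgroup.orderOf_mk] at hxo
    have h23 := orderOf_dvd_of_pow_eq_one (show x ^ 2 = 1 by rw [sq, hsq x hx])
    rw [hxo] at h23
    omega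
  have hgen : ∀ g : G, cj g f ∈ S → cj g fe ∈ S → cj g fh ∈ S → cj g w ∈ S → ∀ y ∈ S, cj g y ∈ S := by
    intro g g1 g2 g3 g4
    have hle : S ≤ S.comap (MulAut.conj g).toMonoidHom :=
      (closure_le _).2 (by rintro x (rfl | rfl | rfl | rfl); exacts [g1, g2, g3, g4])
    exact fun y hy => hle hy
  have hbot := H.eq_bot hab h3
    (hgen e (hfe ▸ mfe) (e_fe ▸ mul_mem mf mfe) (hw ▸ mw) (e_w ▸ mul_mem mfh mw))
    (hgen h (hfh ▸ mfh) (hw' ▸ mw) (h_fh ▸ mul_mem mf mfh) (h_w ▸ mul_mem mfe mw))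
  rw [hbot] at mf
  exact h1.ne mf

end Cfg

/-- The homomorphism from the model attached to an involution of the second type. -/
structure Psi (s t e h z a f : G) (φ : S6 →* G) : Prop where
  inj : Function.Injective φ
  s : φ Md.s = s
  t : φ Md.t = t
  z : φ Md.z = z
  e : φ Md.e = e
  h : φ Md.h = h
  f : φ Md.f = f
  a2 : φ Md.a2 = a ^ 2

end Cfsg.Agent.M11ThreeLocal
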