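import Cfsg.Agent.M11ThreeLocal.Plane

/-!
# The symmetric group attached to an involution of the second type
-/

set_option autoImplicit false
set_option linter.unusedSectionVars false

namespace Cfsg.Agent.M11ThreeLocal

open Equiv

/-- The defining conditions of a plane, decidably. -/
abbrev Md.planeP (x y m p : S6) : Prop :=
  p ≠ 1 ∧ p * p = 1 ∧ x * p = p * x ∧ y * p = p * y ∧ p * (m * p * m⁻¹) = m * p * m⁻¹ * p ∧
    p * (m * p * m⁻¹) * (m * (m * p * m⁻¹) * m⁻¹) = 1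

/-- The model facts behind `τ`, first half. -/
theorem Md.tau_x : ∀ i j : Fin 3, Md.e ^ (i : ℕ) * Md.h ^ (j : ℕ) = 1 ∨
    ¬ (Md.a2 * Md.t * (Md.e ^ (i : ℕ) * Md.h ^ (j : ℕ)) = Md.e ^ (i : ℕ) * Md.h ^ (j : ℕ) * (Md.a2 * Md.t)) ∨
      Md.planeP (Md.a2 * Md.t) (Md.a2 * Md.s) (Md.e ^ (i : ℕ) * Md.h ^ (j : ℕ))
        (Md.a2 * Md.t * (Md.z * Md.f)) := by
  decide +kernel

/-- The model facts behind `τ`, second half. -/
theorem Md.tau_y : ∀ i j : Fin 3, Md.e ^ (i : ℕ) * Md.h ^ (j : ℕ) = 1 ∨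
    ¬ (Md.a2 * Md.s * (Md.e ^ (i : ℕ) * Md.h ^ (j : ℕ)) = Md.e ^ (i : ℕ) * Md.h ^ (j : ℕ) * (Md.a2 * Md.s)) ∨
      Md.planeP (Md.a2 * Md.s) (Md.a2 * Md.t) (Md.e ^ (i : ℕ) * Md.h ^ (j : ℕ))
        (Md.a2 * Md.s * (Md.z * Md.f)) := by
  decide +kernel

variable {G : Type*} [Group G] [Finite G] {M : Subgroup G} {e h s t z a : G}

namespace Cfg

variable (H : Cfg M e h s t z a)

include H

theorem cja_s : cj a s = a ^ 2 * t := by
  have h1 : cj s a⁻¹ = (a ^ 3)⁻¹ := by rw [cj_inv, H.sa]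
  calc cj a s = a * (cj s a⁻¹) * s := by
        simp only [cj, mul_assoc, inv_mul_cancel, mul_one]
    _ = a ^ 2 * (a ^ 4)⁻¹ * s := by rw [h1]; group
    _ = a ^ 2 * t := by rw [H.t_eq', ← H.z_eq, inv_of_sq H.zz, mul_assoc]

theorem cja_t : cj a t = a ^ 2 * s := by
  rw [H.t_eq', cj_mul, cj_of_commute H.za.symm, H.cja_s, H.t_eq', ← mul_assoc, (H.za.pow_right 2).eq,
    mul_assoc, ← mul_assoc z z, H.zz, one_mul]

theorem iv_comm {f : G} (hf : Iv s t e h f) : Commute s f ∧ Commute t f ∧ f * f = 1 := by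
  have h1 : Commute s f := by
    have h := (Commute.refl s).mul_right hf.1.cs
    rwa [← mul_assoc, H.s_sq, one_mul] at h
  have h2 : Commute t f := by
    have h := (Commute.refl t).mul_right hf.2.cs
    rwa [← mul_assoc, H.tt, one_mul] at h
  refine ⟨h1, h2, ?_⟩
  have h := hf.1.sq
  rwa [h1.symm.mul_mul_mul_comm, H.s_sq, one_mul] at h

/-- The homomorphism exists. -/
theorem exists_psi {f : G} (hf : Iv s t e h f) : ∃ φ : S6 →* G, Psi s t e h z a f φ := by
  obtain ⟨hsf, htf, hff⟩ := H.iv_comm hf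
  have hzf : Commute z f := H.st ▸ hsf.mul_left htf
  have hszf : Commute s (z * f) := H.sz.mul_right hsf
  have htzf : Commute t (z * f) := H.zt.symm.mul_right htf
  have qsh : s * h * (s * h) = 1 := by
    have := H.sh
    rw [cj, inv_of_sq H.s_sq] at this
    rw [← mul_assoc, this, inv_mul_cancel]
  have qte : t * e * (t * e) = 1 := by
    have := H.te
    rw [cj, inv_of_sq H.tt] at this
    rw [← mul_assoc, this, inv_mul_cancel]
  have qzf : z * f * (z * f) = 1 := by rw [hzf.symm.mul_mul_mul_comm, H.zz, hff, one_mul]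
  have cube : ∀ {p k : G}, k ^ 3 = 1 → p * p = 1 → p * cj k p * cj k (cj k p) = 1 → (p * k) ^ 3 = 1 := by
    intro p k hk hp hprod
    calc (p * k) ^ 3 = p * cj k p * cj k (cj k p) * k ^ 3 := by
          simp only [cj, pow_three', mul_assoc, inv_mul_cancel_left, mul_one, inv_mul_cancel]
      _ = 1 := by rw [hprod, hk, one_mul]
  have b12 : (s * h * (z * f)) ^ 3 = 1 := by
    have h1 : z * f * (s * h) = t * f * h := by
      rw [← mul_assoc, mul_assoc z f s, ← hsf.eq, ← mul_assoc z s, ← H.t_eq']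
    have h2 : s * h * (z * f) = cj (z * f) (z * f * (s * h)) := by
      rw [cj, inv_of_sq qzf, ← mul_assoc (z * f) (z * f), qzf, one_mul]
    rw [h2, cj_pow, h1, cube H.h3 hf.2.sq hf.2.prod, cj_one]
  have b23 : (z * f * (t * e)) ^ 3 = 1 := by
    have h1 : z * f * (t * e) = s * f * e := by
      rw [← mul_assoc, mul_assoc z f t, ← htf.eq, ← mul_assoc z t, H.t_eq', ← mul_assoc z z, H.zz,
        one_mul]
    rw [h1, cube H.e3 hf.1.sq hf.1.prod]
  have b34 : (t * e * t) ^ 3 = 1 := by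
    rw [show t * e * t = t * e * t⁻¹ by rw [inv_of_sq H.tt], conj_pow, H.e3, mul_one, mul_inv_cancel]
  obtain ⟨φ, hφ⟩ := exists_hom (r := ![s, s * h, z * f, t * e, t])
    { sq := fun i => by fin_cases i; exacts [H.s_sq, qsh, qzf, qte, H.tt]
      br := fun i j hij => by
        fin_cases i <;> fin_cases j <;> simp at hij
        · show (s * (s * h)) ^ 3 = 1
          rw [← mul_assoc, H.s_sq, one_mul, H.h3]
        · exact b12
        · exact b23
        · exact b34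
      cm := fun i j hij => by
        fin_cases i <;> fin_cases j <;> simp at hij
        · exact hszf.eq
        · exact (H.ts_comm.symm.mul_right H.se).eq
        · exact H.ts_comm.symm.eq
        · exact ((H.ts_comm.symm.mul_right H.se).mul_left
            ((H.th.symm).mul_right H.eh.symm)).eq
        · exact (H.ts_comm.symm.mul_left H.th.symm).eq
        · exact htzf.symm.eq }
  have v0 : φ Md.s = s := hφ 0
  have v1 : φ Md.sh = s * h := hφ 1
  have v2 : φ Md.u = z * f := hφ 2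
  have v3 : φ Md.te = t * e := hφ 3
  have v4 : φ Md.t = t := hφ 4
  have vz : φ Md.z = z := by rw [Md.z, map_mul, v0, v4, H.st]
  have ve : φ Md.e = e := by rw [Md.e, map_mul, v4, v3, ← mul_assoc, H.tt, one_mul]
  have vh : φ Md.h = h := by rw [Md.h, map_mul, v0, v1, ← mul_assoc, H.s_sq, one_mul]
  have vf : φ Md.f = f := by rw [Md.f, map_mul, vz, v2, ← mul_assoc, H.zz, one_mul]
  refine ⟨φ, hom_injective φ (by rw [vh]; exact H.h_ne), v0, v4, vz, ve, vh, vf, ?_⟩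
  obtain ⟨-, hs', ht', he', hh', -, -, ha2, -⟩ := Md.rev_facts
  rw [← ha2, map_mul, v4]
  obtain ⟨R, hR⟩ : ∃ x, x = φ Md.rev := ⟨_, rfl⟩
  have cR : ∀ {x y : S6}, Md.rev * x * Md.rev⁻¹ = y → cj R (φ x) = φ y := fun hxy => by
    rw [hR, ← hxy, map_mul, map_mul, map_inv, cj]
  have es := cR hs'
  have et := cR ht'
  have ee := cR he'
  have eh := cR hh'
  rw [v0, v4] at es et
  rw [ve, vh] at ee eh
  rw [← hR]
  have pull : ∀ {x y : G}, cj R x = y → ∀ {y'}, cj t y = y' → cj (a ^ 2) x = y' →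
      cj ((t * R)⁻¹ * a ^ 2) x = x := fun h1 _ h2 h3 => by
    rw [← cj_cj, h3, ← h2, ← h1, cj_cj t R, cj_inv_cj]
  have k1 := pull es (cj_of_commute (Commute.refl t)) H.a2_s
  have k2 := pull et (cj_of_commute H.ts_comm) H.a2_t
  have k3 := pull ee (cj_of_commute H.th) H.a2_e
  have k4 := pull eh H.te H.a2_h
  have hv : (t * R)⁻¹ * a ^ 2 ∈ M := H.self _ fun m hm => by
    obtain ⟨i, j, rfl⟩ := H.M_cases hm
    exact (((commute_of_cj k3).pow_right _).mul_right ((commute_of_cj k4).pow_right _)).eq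
  have h2 : (t * R)⁻¹ * a ^ 2 * ((t * R)⁻¹ * a ^ 2) = 1 := by
    rcases H.four (Subgroup.le_normalizer hv) (commute_of_cj k1) (commute_of_cj k2) with h | h | h | h <;>
      rw [h]
    exacts [one_mul 1, H.s_sq, H.tt, H.zz]
  exact inv_mul_eq_one.1 (eq_one_of_sq_cube h2 (H.cube _ hv))

theorem a2_f {f : G} {φ : S6 →* G} (hφ : Psi s t e h z a f φ) : cj (a ^ 2) f = f := by
  have h1 : Md.a2 * Md.f * Md.a2⁻¹ = Md.f := by decide +kernel
  rw [← hφ.a2, ← hφ.f]
  show φ Md.a2 * φ Md.f * (φ Md.a2)⁻¹ = φ Md.f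
  rw [← map_inv, ← map_mul, ← map_mul, h1]

theorem iv_fix {f : G} (hf : Iv s t e h f) : cj (a ^ 2) f = f := by
  obtain ⟨φ, hφ⟩ := H.exists_psi hf
  exact H.a2_f hφ

theorem mem_range {f : G} {φ : S6 →* G} (hφ : Psi s t e h z a f φ) {m : G} (hm : m ∈ M) :
    ∃ i j : Fin 3, m = φ (Md.e ^ (i : ℕ) * Md.h ^ (j : ℕ)) := by
  obtain ⟨i, j, rfl⟩ := H.M_cases hm
  exact ⟨i, j, by rw [map_mul, map_pow, map_pow, hφ.e, hφ.h]⟩

/-- The second involution. -/
theorem iv_tau {f : G} (hf : Iv s t e h f) : Iv s t e h (z * cj a f) := by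
  obtain ⟨φ, hφ⟩ := H.exists_psi hf
  obtain ⟨hsf, htf, hff⟩ := H.iv_comm hf
  have hx : φ (Md.a2 * Md.t) = cj a s := by rw [map_mul, hφ.a2, hφ.t, H.cja_s]
  have hy : φ (Md.a2 * Md.s) = cj a t := by rw [map_mul, hφ.a2, hφ.s, H.cja_t]
  have hzf : φ (Md.z * Md.f) = z * f := by rw [map_mul, hφ.z, hφ.f]
  have haa : cj a (z * cj a f) = z * f := by
    rw [cj_mul, cj_of_commute H.za.symm, cj_cj, ← sq, H.iv_fix hf]
  have key : ∀ {x y m p : S6}, p ≠ 1 ∧ p * p = 1 ∧ x * p = p * x ∧ y * p = p * y ∧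
      p * (m * p * m⁻¹) = m * p * m⁻¹ * p ∧ p * (m * p * m⁻¹) * (m * (m * p * m⁻¹) * m⁻¹) = 1 →
      Plane (φ x) (φ y) (φ m) (φ p) := fun hp => (plane_iff.2 hp).map_hom φ hφ.inj
  have back : ∀ {u v w p : G}, Plane (cj a u) (cj a v) (cj a w) (cj a p) → Plane u v w p := fun hp => by
    simpa only [cj_inv_cj] using hp.map a⁻¹
  have haM : ∀ w ∈ M, cj a w ∈ M := fun w hw => H.cjM H.aN hw
  constructor
  · obtain ⟨i, j, hij⟩ := H.mem_range hφ (haM e H.eM)
    refine back ?_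
    rw [cj_mul, haa, ← hx, ← hy, ← hzf, ← map_mul, hij]
    refine key (((Md.tau_x i j).resolve_left ?_).resolve_left (not_not.2 (hφ.inj ?_)))
    · intro h0; rw [h0, map_one] at hij; exact H.e_ne (cj_eq_one.1 hij)
    · rw [map_mul φ (Md.a2 * Md.t), map_mul φ _ (Md.a2 * Md.t), hx, ← hij]
      exact (cj_commute a H.se).eq
  · obtain ⟨i, j, hij⟩ := H.mem_range hφ (haM h H.hM)
    refine back ?_
    rw [cj_mul, haa, ← hx, ← hy, ← hzf, ← map_mul, hij]
    refine key (((Md.tau_y i j).resolve_left ?_).resolve_left (not_not.2 (hφ.inj ?_)))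
    · intro h0; rw [h0, map_one] at hij; exact H.h_ne (cj_eq_one.1 hij)
    · rw [map_mul φ (Md.a2 * Md.s), map_mul φ _ (Md.a2 * Md.s), hy, ← hij]
      exact (cj_commute a H.th).eq

end Cfg

end Cfsg.Agent.M11ThreeLocal
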