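import Cfsg.Agent.M11ThreeLocal.TypeThree

/-!
# Sizes of fixed subgroups in the radical
-/

set_option autoImplicit false
set_option linter.unusedSectionVars false
set_option synthInstance.maxSize 1000

namespace Cfsg.Agent.M11ThreeLocal

open Subgroup

theorem Md.sf_conj : (Equiv.swap 0 2 * Equiv.swap 1 3 : S6) * (Md.s * Md.f) * (Equiv.swap 0 2 * Equiv.swap 1 3 : S6)⁻¹
    = Md.z := by decide +kernel

/-- The elements used to place `s` and `t` in the radical at `f`. -/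
def Md.d6 : S6 := (Equiv.swap 0 4 * Equiv.swap 0 2) * (Equiv.swap 1 5 * Equiv.swap 1 3)

/-- The elements used to place `s` and `t` in the radical at `f`. -/
def Md.τ6 : S6 := Equiv.swap 2 4 * Equiv.swap 3 5

/-- The conditions on a pair used to place an involution in the radical at `f`. -/
abbrev Md.radP (q : S6 × S6) : Prop :=
  Md.f * q.2 = q.2 * Md.f ∧ q.2 * Md.d6 * q.2⁻¹ = Md.d6⁻¹ ∧
    Md.f * q.1 = q.1 * Md.f ∧ q.1 * q.1 = 1 ∧ q.2 * q.1 = q.1 * q.2 ∧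
    q.1 * (Md.d6 * q.1 * Md.d6⁻¹) = Md.d6 * q.1 * Md.d6⁻¹ * q.1 ∧
    q.1 * (Md.d6 * q.1 * Md.d6⁻¹) * (Md.d6 * (Md.d6 * q.1 * Md.d6⁻¹) * Md.d6⁻¹) = 1

theorem Md.radF_facts : Md.d6 ^ 3 = 1 ∧ Md.d6 ≠ 1 ∧ Md.f * Md.d6 = Md.d6 * Md.f := by
  decide +kernel

theorem Md.radF_s : Md.radP (Md.s * Md.f, Md.τ6) := by decide +kernel

theorem Md.radF_t : Md.radP (Md.t * Md.f, (Equiv.swap 0 2 * Equiv.swap 1 3 : S6)) := by decide +kernel

variable {G : Type*} [Group G] [Finite G]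

/-- A subgroup of index at most two. -/
theorem card_le_two_mul {A B : Subgroup G}
    (h : ∀ x ∈ A, ∀ y ∈ A, x ∉ B → y ∉ B → x * y ∈ B) : Nat.card A ≤ 2 * Nat.card B := by
  classical
  by_cases hc : ∃ c ∈ A, c ∉ B
  · obtain ⟨c, hcA, hcB⟩ := hc
    let F : A → Bool × B := fun x =>
      if hx : (x : G) ∈ B then (true, ⟨x, hx⟩) else (false, ⟨(x : G) * c, h x x.2 c hcA hx hcB⟩)
    have hF : Function.Injective F := by
      intro x y hxy
      by_cases hx : (x : G) ∈ B <;> by_cases hy : (y : G) ∈ B <;> simp [F, hx, hy] at hxy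
      · exact hxy
      · exact hxy
    calc Nat.card A ≤ Nat.card (Bool × B) := Nat.card_le_card_of_injective F hF
      _ = 2 * Nat.card B := by simp
  · push Not at hc
    have := card_le_of_le (show A ≤ B from hc)
    omega

/-- The fixed points of `t` in the radical. -/
abbrev Dt (t : G) (R : Subgroup G) : Subgroup G := R ⊓ centralizer ({t} : Set G)

theorem mem_Dt {t x : G} {R : Subgroup G} : x ∈ Dt t R ↔ x ∈ R ∧ Commute t x := by
  rw [mem_inf, mem_L]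

variable {M : Subgroup G} {e h s t z a : G} {R : Subgroup G}

namespace Cfg

variable (H : Cfg M e h s t z a)

include H

theorem Dt_le_W (hR : Rad s R) : Dt t R ≤ Wfix s R t := fun x hx =>
  (hR.core.mem_W H.ts_comm.symm).2 ⟨(mem_Dt.1 hx).1, Or.inl (cj_of_commute (mem_Dt.1 hx).2)⟩

theorem card_W_le (hR : Rad s R) : Nat.card (Wfix s R t) ≤ 2 * Nat.card (Dt t R) := by
  refine card_le_two_mul fun x hx y hy hxD hyD => ?_
  obtain ⟨hxR, hx'⟩ := (hR.core.mem_W H.ts_comm.symm).1 hx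
  obtain ⟨hyR, hy'⟩ := (hR.core.mem_W H.ts_comm.symm).1 hy
  have ex : cj t x = x * s := hx'.resolve_left fun h0 => hxD (mem_Dt.2 ⟨hxR, commute_of_cj h0⟩)
  have ey : cj t y = y * s := hy'.resolve_left fun h0 => hyD (mem_Dt.2 ⟨hyR, commute_of_cj h0⟩)
  refine mem_Dt.2 ⟨mul_mem hxR hyR, commute_of_cj ?_⟩
  rw [cj_mul, ex, ey, mul_assoc x s, ← mul_assoc s y, (hR.core.le y hyR).eq, mul_assoc y s, H.s_sq, mul_one]

theorem s_mem_Dt (hR : Rad s R) : s ∈ Dt t R := mem_Dt.2 ⟨hR.core.mem, H.ts_comm⟩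

/-- The orders of the radical and of the fixed subgroups. -/
theorem sizes (hR : Rad s R) : ∃ k : ℕ, Nat.card R = 2 * 4 ^ k ∧ Nat.card (Wfix s R t) = 2 * 2 ^ k ∧
    2 ^ k ≤ Nat.card (Dt t R) := by
  haveI : Fact (Nat.Prime 2) := ⟨Nat.prime_two⟩
  have h1 := (H.bundle hR.core H.e3 H.e_ne H.se).2 t H.tt H.ts_comm.symm H.te
  have hW : Wfix s R t ≤ R := fun x hx => ((hR.core.mem_W H.ts_comm.symm).1 hx).1
  obtain ⟨j, hj⟩ := (hR.core.two.to_le hW).exists_card_eq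
  have hj1 : 1 ≤ j := by
    rcases Nat.eq_zero_or_pos j with rfl | h0
    · exfalso
      have hs : s ∈ Wfix s R t := H.Dt_le_W hR (H.s_mem_Dt hR)
      rw [eq_bot_of_card_eq (Wfix s R t) (by simpa using hj)] at hs
      exact H.s_ne hs
    · exact h0
  obtain ⟨k, rfl⟩ : ∃ k, j = k + 1 := ⟨j - 1, by omega⟩
  have h2 := H.card_W_le hR
  rw [hj, sq, pow_succ'] at h1
  rw [hj, pow_succ'] at h2
  refine ⟨k, ?_, by rw [hj, pow_succ'], by omega⟩
  have h4 : (4 : ℕ) ^ k = (2 ^ k) ^ 2 := by rw [← pow_mul, mul_comm, pow_mul]; norm_num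
  have h3 : 2 * 2 ^ k * (2 * 2 ^ k) = 2 * (2 * 4 ^ k) := by rw [h4]; ring
  rw [h3] at h1
  omega

/-- `s` is a fourth power in its centraliser only if some square in `R` is `s`. -/
theorem root_sq (hR : Rad s R) (hsz : IsConj s z) : ∃ r ∈ R, r * r = s := by
  obtain ⟨y, hy, h2, hy4⟩ := H.exists_root hsz
  exact ⟨y * y, hR.sq2 y hy h2, by rw [← hy4]; simp only [pow_succ, pow_zero, one_mul, mul_assoc]⟩

/-- `s f` is conjugate to `z`. -/
theorem sf_conj_z {f : G} (hf : Iv s t e h f) : IsConj (s * f) z := by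
  obtain ⟨φ, hφ⟩ := H.exists_psi hf
  refine isConj_iff.2 ⟨φ (Equiv.swap 0 2 * Equiv.swap 1 3), ?_⟩
  rw [← hφ.s, ← hφ.f, ← hφ.z, ← map_mul, ← map_inv, ← map_mul, ← map_mul, Md.sf_conj]

/-- `s` and `t` lie in the radical at `f`. -/
theorem st_mem {f : G} (hf : Iv s t e h f) {Rf : Subgroup G} (hRf : Rad f Rf) : s ∈ Rf ∧ t ∈ Rf := by
  obtain ⟨φ, hφ⟩ := H.exists_psi hf
  obtain ⟨h3, hne, hfd⟩ := Md.radF_facts
  have key : ∀ q : S6 × S6, Md.radP q → φ q.1 ∈ Rf := fun q hq' => by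
    obtain ⟨hft, hinv, q1, q2, q3, q4, q5⟩ := hq'
    have hc : ∀ {x y : S6}, x * y = y * x → Commute (φ x) (φ y) := fun hxy =>
      (show Commute _ _ from hxy).map φ
    have hcj : ∀ x y : S6, cj (φ x) (φ y) = φ (x * y * x⁻¹) := fun x y => by simp [cj]
    refine hRf.inner (φ Md.d6) (φ q.2) (φ q.1) (by rw [← map_pow, h3, map_one])
      (fun h0 => hne (hφ.inj (h0.trans (map_one φ).symm))) (hφ.f ▸ hc hfd) (hφ.f ▸ hc hft)
      (by rw [hcj, hinv, map_inv]) (hφ.f ▸ hc q1) (by rw [← map_mul, q2, map_one]) (hc q3)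
      (by rw [hcj]; exact hc q4) (by rw [hcj, hcj, ← map_mul, ← map_mul, q5, map_one])
  obtain ⟨-, -, hff⟩ := H.iv_comm hf
  constructor
  · have h1 := key _ Md.radF_s
    simp only at h1
    rw [map_mul, hφ.s, hφ.f] at h1
    have h2 := mul_mem h1 hRf.core.mem
    rwa [mul_assoc, hff, mul_one] at h2
  · have h1 := key _ Md.radF_t
    simp only at h1
    rw [map_mul, hφ.t, hφ.f] at h1
    have h2 := mul_mem h1 hRf.core.mem
    rwa [mul_assoc, hff, mul_one] at h2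

end Cfg

end Cfsg.Agent.M11ThreeLocal
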