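import Cfsg.Agent.M11ThreeLocal.Local

/-!
# The intersection of the two radicals and its involutions
-/

set_option autoImplicit false
set_option linter.unusedSectionVars false

namespace Cfsg.Agent.M11ThreeLocal

open Subgroup

theorem Md.mixed_fact :
    Md.t * (Md.h * (Md.s * Md.f) * Md.h⁻¹) * (Md.e * (Md.t * (Md.h * (Md.s * Md.f) * Md.h⁻¹)) * Md.e⁻¹) *
      (Md.e * (Md.e * (Md.t * (Md.h * (Md.s * Md.f) * Md.h⁻¹)) * Md.e⁻¹) * Md.e⁻¹) ≠ 1 := by
  decide +kernel

theorem Md.u_conj : (Equiv.swap 0 2 * Equiv.swap 1 3) * Md.s * (Equiv.swap 0 2 * Equiv.swap 1 3)⁻¹ = Md.z * Md.f := by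
  decide +kernel

variable {G : Type*} [Group G] [Finite G]

/-- What both shapes with a two-radical provide. -/
structure Rad (v : G) (R : Subgroup G) : Prop where
  core : Core v R
  sq2 : ∀ x, Commute v x → Two x → x * x ∈ R
  inner : ∀ d τ p : G, d ^ 3 = 1 → d ≠ 1 → Commute v d → Commute v τ → cj τ d = d⁻¹ → Commute v p →
    p * p = 1 → Commute τ p → Commute p (cj d p) → p * cj d p * cj d (cj d p) = 1 → p ∈ R

theorem TI.rad {v : G} {R O : Subgroup G} (h : TI v R O) : Rad v R :=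
  ⟨h.core, fun _ hx h2 => h.sq2 hx h2, fun _ _ _ h1 h2 h3 h4 h5 h6 h7 h8 h9 h10 =>
    h.inner h1 h2 h3 h4 h5 h6 h7 h8 h9 h10⟩

theorem TII.rad {v : G} {R : Subgroup G} (h : TII v R) : Rad v R :=
  ⟨h.core, fun _ hx h2 => h.sq2 hx h2, fun _ _ _ h1 h2 h3 h4 h5 h6 h7 h8 h9 h10 =>
    h.inner h1 h2 h3 h4 h5 h6 h7 h8 h9 h10⟩

theorem Rad.map {v : G} {R : Subgroup G} (h : Rad v R) (c : G) :
    Rad (cj c v) (R.map (MulAut.conj c).toMonoidHom) where
  core := h.core.map c
  sq2 := fun x hx h2 => by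
    rw [mem_map_cj, cj_mul]
    refine h.sq2 _ ?_ (h2.conj c⁻¹)
    have h1 := cj_commute c⁻¹ hx
    rwa [cj_inv_cj] at h1
  inner := fun d τ p h1 h2 h3 h4 h5 h6 h7 h8 h9 h10 => by
    have pull : ∀ {x : G}, Commute (cj c v) x → Commute v (cj c⁻¹ x) := fun hx => by
      have h := cj_commute c⁻¹ hx
      rwa [cj_inv_cj] at h
    have hcc : ∀ x y : G, cj (cj c⁻¹ x) (cj c⁻¹ y) = cj c⁻¹ (cj x y) := fun x y => by
      simp only [cj]; group
    rw [mem_map_cj]
    refine h.inner (cj c⁻¹ d) (cj c⁻¹ τ) (cj c⁻¹ p) (by rw [cj_pow, h1, cj_one])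
      (fun h0 => h2 (cj_eq_one.1 h0)) (pull h3) (pull h4) (by rw [hcc, h5, cj_inv]) (pull h6)
      (by rw [← cj_mul, h7, cj_one]) (cj_commute _ h8) (by rw [hcc]; exact cj_commute _ h9)
      (by rw [hcc, hcc, ← cj_mul, ← cj_mul, h10, cj_one])

variable {M : Subgroup G} {e h s t z a : G} {R : Subgroup G}

/-- The intersection of the radicals of the centralisers of `s` and `t`. -/
abbrev Dg (a : G) (R : Subgroup G) : Subgroup G := R ⊓ R.map (MulAut.conj (a ^ 2)).toMonoidHom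

namespace Cfg

variable (H : Cfg M e h s t z a)

include H

theorem radT (hR : Rad s R) : Rad t (R.map (MulAut.conj (a ^ 2)).toMonoidHom) := by
  have h1 := hR.map (a ^ 2)
  rwa [H.a2_s] at h1

theorem t_notMem (hR : Rad s R) : t ∉ R := fun ht => by
  have h1 : t * cj e t ∈ R := mul_mem ht (hR.core.norm e H.se t ht)
  have h2 : t * cj e t = e := by
    have h3 := H.te
    rw [cj, inv_of_sq H.tt] at h3
    calc t * cj e t = (t * e * t) * e⁻¹ := by simp only [cj, mul_assoc]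
      _ = e⁻¹ * e⁻¹ := by rw [h3]
      _ = (e ^ 3)⁻¹ * e := by group
      _ = e := by rw [H.e3, inv_one, one_mul]
  rw [h2] at h1
  exact H.e_ne ((Two.of_isPGroup hR.core.two h1).eq_one_of_odd (n := 3) (by norm_num) H.e3)

theorem z_notMem (hR : Rad s R) : z ∉ R := fun hz => H.t_notMem hR (by
  have h1 := mul_mem hz hR.core.mem
  rwa [← H.t_eq'] at h1)

theorem s_notMemT (hR : Rad s R) : s ∉ R.map (MulAut.conj (a ^ 2)).toMonoidHom := fun hs => by
  rw [mem_map_cj] at hs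
  have h1 : cj (a ^ 2)⁻¹ s = t := cj_injective (a ^ 2) (by rw [cj_cj_inv, H.a2_t])
  rw [h1] at hs
  exact H.t_notMem hR hs

theorem D_comm {x : G} (hR : Rad s R) (hx : x ∈ Dg a R) : Commute s x ∧ Commute t x :=
  ⟨hR.core.le x hx.1, (H.radT hR).core.le x hx.2⟩

theorem D_z {x : G} (hR : Rad s R) (hx : x ∈ Dg a R) : Commute z x := by
  rw [← H.st]; exact (H.D_comm hR hx).1.mul_left (H.D_comm hR hx).2

theorem D_a2 {x : G} (hR : Rad s R) (hx : x ∈ Dg a R) :
    cj (a ^ 2) x ∈ Dg a R ∧ cj (a ^ 2) (cj (a ^ 2) x) = x := by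
  have h4 : cj (a ^ 2) (cj (a ^ 2) x) = x := by
    rw [cj_cj, ← pow_add, ← H.z_eq, cj_of_commute (H.D_z hR hx)]
  refine ⟨⟨?_, mem_map_cj.2 (by rw [cj_inv_cj]; exact hx.1)⟩, h4⟩
  obtain ⟨r, hr, he⟩ := hx.2
  have he' : cj (a ^ 2) r = x := he
  rw [← he', cj_cj, ← pow_add, ← H.z_eq]
  exact hR.core.norm z H.sz r hr

theorem s_notMemD (hR : Rad s R) : s ∉ Dg a R := fun hs => H.s_notMemT hR hs.2

/-- An involution of `R` commuting with `t` generates a plane, possibly after multiplying by `s`. -/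
theorem plane_cases (hR : Rad s R) {f : G} (hf : f ∈ R) (hff : f * f = 1) (hf1 : f ≠ 1) (hfs : f ≠ s)
    (htf : Commute t f) : Plane s t e f ∨ Plane s t e (s * f) := by
  have hsf := hR.core.le f hf
  have hfe : cj e f * cj e f = 1 := by rw [← cj_mul, hff, cj_one]
  have hfee : cj e (cj e f) * cj e (cj e f) = 1 := by rw [← cj_mul, hfe, cj_one]
  have hsfe : Commute s (cj e f) := hR.core.le _ (hR.core.norm e H.se f hf)
  have hprod := (mem_zpowers_invol H.s_sq).1 ((H.bundle hR.core H.e3 H.e_ne H.se).1 f hf).1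
  have hcc : Commute f (cj e f) := by
    obtain ⟨σ, hσc, hσ, he⟩ : ∃ σ, Commute σ (f * cj e f) ∧ σ * σ = 1 ∧
        f * cj e f * cj e (cj e f) = σ := by
      rcases hprod with h1 | h1
      exacts [⟨1, Commute.one_left _, one_mul 1, h1⟩, ⟨s, hsf.mul_right hsfe, H.s_sq, h1⟩]
    have h2 : f * cj e f = σ * cj e (cj e f) := by
      rw [← he, mul_assoc, hfee, mul_one]
    have h4 : cj e (cj e f) = σ * (f * cj e f) := by rw [h2, ← mul_assoc, hσ, one_mul]
    have h5 : (f * cj e f) * (f * cj e f) = 1 := by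
      rw [h4, hσc.symm.mul_mul_mul_comm, hσ, one_mul] at hfee
      exact hfee
    have h6 := inv_of_sq h5
    rw [mul_inv_rev, inv_of_sq hff, inv_of_sq hfe] at h6
    exact h6.symm
  rcases hprod with h1 | h1
  · exact Or.inl ⟨hf1, hff, hsf, htf, hcc, h1⟩
  · right
    have hes : cj e (s * f) = s * cj e f := by rw [cj_mul, cj_of_commute H.se.symm]
    refine ⟨fun h0 => hfs ?_, ?_, (Commute.refl s).mul_right hsf, H.ts_comm.mul_right htf, ?_, ?_⟩
    · rw [eq_inv_of_mul_eq_one_right h0, inv_of_sq H.s_sq]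
    · rw [hsf.symm.mul_mul_mul_comm, H.s_sq, hff, one_mul]
    · rw [hes]
      exact ((Commute.refl s).mul_right hsfe).mul_left (hsf.symm.mul_right hcc)
    · rw [hes, cj_mul, cj_of_commute H.se.symm, hsf.symm.mul_mul_mul_comm, H.s_sq, one_mul,
        ← mul_assoc, ← (hsf.mul_right hsfe).eq, mul_assoc, h1, H.s_sq]

theorem plane_mem (hR : Rad s R) {p : G} (hp : Plane s t e p) : p ∈ R :=
  hR.inner e t p H.e3 H.e_ne H.se H.ts_comm.symm H.te hp.cs hp.sq hp.ct hp.cc hp.prod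

theorem plane_memT (hR : Rad s R) {p : G} (hp : Plane t s h p) :
    p ∈ R.map (MulAut.conj (a ^ 2)).toMonoidHom :=
  (H.radT hR).inner h s p H.h3 H.h_ne H.th H.ts_comm H.sh hp.cs hp.sq hp.ct hp.cc hp.prod

theorem iv_mem (hR : Rad s R) {f : G} (hf : Iv s t e h f) : f ∈ Dg a R ∧ f ≠ 1 := by
  refine ⟨⟨?_, ?_⟩, ?_⟩
  · have h1 := mul_mem hR.core.mem (H.plane_mem hR hf.1)
    rwa [← mul_assoc, H.s_sq, one_mul] at h1
  · have h1 := mul_mem (H.radT hR).core.mem (H.plane_memT hR hf.2)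
    rwa [← mul_assoc, H.tt, one_mul] at h1
  · rintro rfl
    have h1 := hf.1.prod
    rw [mul_one, cj_of_commute H.se.symm, cj_of_commute H.se.symm, H.s_sq, one_mul] at h1
    exact H.s_ne h1

/-- The plane types of an involution of `D`. -/
theorem D_types (hR : Rad s R) {f : G} (hf : f ∈ Dg a R) (hff : f * f = 1) (hf1 : f ≠ 1) :
    (Plane s t e f ∨ Plane s t e (s * f)) ∧ (Plane t s h f ∨ Plane t s h (t * f)) := by
  obtain ⟨hsf, htf⟩ := H.D_comm hR hf
  refine ⟨H.plane_cases hR hf.1 hff hf1 (fun h0 => H.s_notMemD hR (h0 ▸ hf)) htf, ?_⟩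
  obtain ⟨hf', hf''⟩ := H.D_a2 hR hf
  have h1 := H.plane_cases hR hf'.1 (by rw [← cj_mul, hff, cj_one])
    (fun h0 => hf1 (cj_eq_one.1 h0)) (fun h0 => H.s_notMemD hR (h0 ▸ hf')) (H.D_comm hR hf').2
  rcases h1 with h1 | h1
  · left; have := H.plane_a2 h1; rwa [hf''] at this
  · right; have := H.plane_a2 h1; rwa [cj_mul, H.a2_s, hf''] at this

/-- A fixed involution of `D` is of the second type on both sides. -/
theorem fixed_iv (hR : Rad s R) {f : G} (hf : f ∈ Dg a R) (hff : f * f = 1) (hf1 : f ≠ 1)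
    (hfix : cj (a ^ 2) f = f) : Iv s t e h f := by
  rcases (H.D_types hR hf hff hf1).1 with h1 | h1
  · have h2 := H.plane_a2 h1
    rw [hfix] at h2
    exact (H.double h1 h2).elim
  · have h2 := H.plane_a2 h1
    rw [cj_mul, H.a2_s, hfix] at h2
    exact ⟨h1, h2⟩

/-- The case of mixed types. -/
theorem mixed_aux {f g : G} (hff : f * f = 1) (hgg : g * g = 1) (hsf : Commute s f) (htf : Commute t f)
    (hsg : Commute s g) (htg : Commute t g) (hBf : Plane s t e (s * f)) (hAf : Plane t s h f)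
    (hAg : Plane s t e g) (hBg : Plane t s h (t * g)) (hfg : cj (a ^ 2) f = g) (hgf : cj (a ^ 2) g = f)
    (c0 : Commute f g) (c1 : Commute g (cj e f)) (c2 : Commute f (cj e g)) (hk : Iv s t e h (f * g)) :
    False := by
  obtain ⟨φ, hφ⟩ := H.exists_psi hk
  have c1' : Commute f (cj h g) := by
    have h1 := cj_commute (a ^ 2) c1
    rwa [hgf, cj_cj, show a ^ 2 * e = cj (a ^ 2) e * a ^ 2 by simp [cj], H.a2_e, ← cj_cj, hfg] at h1
  have c2' : Commute g (cj h f) := by
    have h1 := cj_commute (a ^ 2) c2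
    rwa [hfg, cj_cj, show a ^ 2 * e = cj (a ^ 2) e * a ^ 2 by simp [cj], H.a2_e, ← cj_cj, hgf] at h1
  obtain ⟨x, hx⟩ : ∃ x, x = cj e g := ⟨_, rfl⟩
  obtain ⟨y, hy⟩ : ∃ y, y = cj h f := ⟨_, rfl⟩
  obtain ⟨fe, hfe⟩ : ∃ fe, fe = cj e f := ⟨_, rfl⟩
  obtain ⟨w, hw⟩ : ∃ w, w = cj e y := ⟨_, rfl⟩
  obtain ⟨gh, hgh⟩ : ∃ gh, gh = cj h g := ⟨_, rfl⟩
  obtain ⟨σ, hσ⟩ : ∃ σ, σ = cj h s := ⟨_, rfl⟩
  have qx : x * x = 1 := by rw [hx, ← cj_mul, hgg, cj_one]
  have qy : y * y = 1 := by rw [hy, ← cj_mul, hff, cj_one]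
  have qw : w * w = 1 := by rw [hw, ← cj_mul, qy, cj_one]
  have qσ : σ * σ = 1 := by rw [hσ, ← cj_mul, H.s_sq, cj_one]
  have hes : cj e s = s := cj_of_commute H.se.symm
  have hht : cj h t = t := cj_of_commute H.th.symm
  have hw' : w = cj h fe := by rw [hw, hy, hfe, cj_cj, cj_cj, H.eh.eq]
  have hfe' : cj e (s * f) = s * fe := by rw [cj_mul, hes, hfe]
  have hsfe : Commute s fe := by
    have h1 := cj_commute e hsf
    rwa [hes, ← hfe] at h1
  have hffe : Commute f fe := by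
    have h1 := hBf.cc
    rw [hfe'] at h1
    have h2 : Commute (s * (s * f)) (s * (s * fe)) :=
      (((Commute.refl s).mul_right ((Commute.refl s).mul_right hsfe)).mul_left
        (((Commute.refl s).mul_right hsf).symm.mul_right h1))
    rwa [← mul_assoc, ← mul_assoc, H.s_sq, one_mul, one_mul] at h2
  have e_fe : cj e fe = s * (f * fe) := by
    have h1 := hBf.third
    rw [hfe', cj_mul, hes, hsf.symm.mul_mul_mul_comm, H.s_sq, one_mul] at h1
    calc cj e fe = s * (s * cj e fe) := by rw [← mul_assoc, H.s_sq, one_mul]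
      _ = _ := by rw [h1]
  have e_x : cj e x = g * x := by rw [hx]; exact hAg.third
  have h_y : cj h y = f * y := by rw [hy]; exact hAf.third
  have h_gh : cj h gh = t * (g * gh) := by
    have h1 := hBg.third
    rw [cj_mul, hht, ← hgh, cj_mul, hht, htg.symm.mul_mul_mul_comm, H.tt, one_mul] at h1
    calc cj h gh = t * (t * cj h gh) := by rw [← mul_assoc, H.tt, one_mul]
      _ = _ := by rw [h1]
  have e_w : cj e w = σ * (y * w) := by
    rw [hw', hσ, hy, cj_cj, H.eh.eq, ← cj_cj, e_fe, cj_mul, cj_mul]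
  -- the commutations
  have cxf : Commute f x := hx ▸ c2
  have cgy : Commute g y := hy ▸ c2'
  have cgx : Commute g x := hx ▸ hAg.cc
  have cfy : Commute f y := hy ▸ hAf.cc
  have cxw : Commute x w := by rw [hx, hw]; exact cj_commute e cgy
  have cσy : Commute σ y := by rw [hσ, hy]; exact cj_commute h hsf
  have cσw : Commute σ w := by rw [hσ, hw']; exact cj_commute h hsfe
  have cyw : Commute y w := by rw [hy, hw']; exact cj_commute h hffe
  have cghw : Commute gh w := by rw [hgh, hw', hfe]; exact cj_commute h c1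
  obtain ⟨c, hc⟩ : ∃ c, c = x * y * x * y := ⟨_, rfl⟩
  have conj_swap : ∀ u v p : G, cj u (cj v p) = cj (cj u v) (cj u p) := fun u v p => by
    simp only [cj]; group
  have hce : cj e c = g * w * g * w := by
    rw [hc, cj_mul, cj_mul, cj_mul, e_x, ← hw, brk_left cgx cxw qx]
  have hcee : cj e (cj e c) = g * (σ * (y * w)) * g * (σ * (y * w)) := by
    have h1 : cj e c = g * x * w * (g * x) * w := by rw [hc, cj_mul, cj_mul, cj_mul, e_x, ← hw]
    have h2 : cj e (g * x) = g := by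
      rw [cj_mul, ← hx, e_x, ← mul_assoc, ← cgx.eq, mul_assoc, qx, mul_one]
    rw [h1, cj_mul, cj_mul, cj_mul, h2, e_w]
  obtain ⟨T, hT⟩ : ∃ T, T = (cj e c)⁻¹ * cj e (cj e c) := ⟨_, rfl⟩
  have hTval : T = t * cj h (s * (f * g)) := by
    have hgσ : g * σ * g * σ = t * gh := by
      have h1 : σ * g * σ = t * (g * gh) := by
        have h2 : cj h⁻¹ g = cj h gh := by
          rw [hgh, cj_cj]
          congr 1
          exact (inv_eq_of_mul_eq_one_right (by rw [← pow_three]; exact H.h3))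
        have h3 : cj h (s * cj h⁻¹ g * s) = σ * g * σ := by rw [cj_mul, cj_mul, cj_cj_inv, hσ]
        have h4 : s * cj h⁻¹ g * s = cj h g := by
          have h5 := conj_swap s h⁻¹ g
          rw [cj_inv, H.sh, inv_inv, cj_of_commute hsg] at h5
          rw [← h5, cj, cj, inv_of_sq H.s_sq]
        rw [← h3, h4, ← hgh, h_gh]
      calc g * σ * g * σ = g * (σ * g * σ) := by simp only [mul_assoc]
        _ = t * gh := by rw [h1, ← mul_assoc, ← htg.eq, mul_assoc t g, ← mul_assoc g g, hgg, one_mul]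
    have hwt : w * t * w = t * (σ * y) := by
      have h1 : cj t w = σ * (y * w) := by
        rw [← e_w, hw', hfe]
        rw [conj_swap t h, cj_of_commute H.th, conj_swap t e, H.te, cj_of_commute htf,
          show e⁻¹ = e * e from inv_eq_of_mul_eq_one_right (by rw [← pow_three]; exact H.e3),
          ← cj_cj, cj_cj e h, H.eh.eq, ← cj_cj]
      calc w * t * w = t * cj t w * w := by
            simp only [cj, inv_of_sq H.tt, ← mul_assoc, H.tt, one_mul]
        _ = t * (σ * y) := by rw [h1]; simp only [mul_assoc, qw, mul_one]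
    rw [hT, hcee, hce]
    calc (g * w * g * w)⁻¹ * (g * (σ * (y * w)) * g * (σ * (y * w)))
        = w * g * (w * (σ * (y * w))) * g * (σ * (y * w)) := by
          rw [mul_inv_rev, mul_inv_rev, mul_inv_rev, inv_of_sq hgg, inv_of_sq qw]
          simp only [mul_assoc]
          rw [← mul_assoc g g, hgg, one_mul]
      _ = w * g * (σ * y) * g * (σ * (y * w)) := by
          rw [show w * (σ * (y * w)) = σ * y by
            rw [← mul_assoc, ← cσw.eq, mul_assoc, ← mul_assoc w y, ← cyw.eq, mul_assoc y w, qw, mul_one]]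
      _ = w * (g * σ * (y * g)) * (σ * (y * w)) := by simp only [mul_assoc]
      _ = w * (g * σ * g) * (y * σ * y) * w := by rw [← cgy.eq]; simp only [mul_assoc]
      _ = w * (g * σ * g * σ) * w := by
          rw [show y * σ * y = σ by rw [← cσy.eq, mul_assoc, qy, mul_one]]; simp only [mul_assoc]
      _ = w * t * w * gh := by rw [hgσ, mul_assoc w, mul_assoc t, cghw.eq]; simp only [mul_assoc]
      _ = t * (σ * y * gh) := by rw [hwt]; simp only [mul_assoc]
      _ = _ := by rw [hσ, hy, hgh, ← cj_mul, ← cj_mul, mul_assoc]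
  have hprod : T * cj e T * cj e (cj e T) = 1 := by
    have h3 := cj_e_cube H.e3 c
    simp only [hT, cj_mul, cj_inv, h3]
    group
  refine Md.mixed_fact (hφ.inj ?_)
  simp only [map_mul, map_inv, map_one, hφ.t, hφ.h, hφ.s, hφ.f, hφ.e]
  rw [hTval] at hprod
  exact hprod

/-- An involution of `D` satisfying the commutator conditions is fixed. -/
theorem mixed (hR : Rad s R) {q : G} (hq : q ∈ Dg a R) (hqq : q * q = 1)
    (hqg : Commute q (cj (a ^ 2) q))
    (hcr : cj (a ^ 2) q * cj e q * (cj e q * cj (a ^ 2) q)⁻¹ ∈ zpowers s) : cj (a ^ 2) q = q := by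
  by_contra hne
  have hq1 : q ≠ 1 := fun h0 => hne (by rw [h0, cj_one])
  obtain ⟨g, hg⟩ : ∃ g, g = cj (a ^ 2) q := ⟨_, rfl⟩
  rw [← hg] at hne hqg hcr
  obtain ⟨hgD, hgq⟩ := H.D_a2 hR hq
  rw [← hg] at hgD hgq
  have hgg : g * g = 1 := by rw [hg, ← cj_mul, hqq, cj_one]
  have hg1 : g ≠ 1 := fun h0 => hq1 (by rw [← hgq, h0, cj_one])
  obtain ⟨hsq, htq⟩ := H.D_comm hR hq
  obtain ⟨hsg, htg⟩ := H.D_comm hR hgD
  have hkfix : cj (a ^ 2) (q * g) = q * g := by rw [cj_mul, ← hg, hgq, hqg.eq]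
  have hk : Iv s t e h (q * g) := H.fixed_iv hR (mul_mem hq hgD)
    (by rw [hqg.symm.mul_mul_mul_comm, hqq, hgg, one_mul])
    (fun h0 => hne (by rw [eq_inv_of_mul_eq_one_left h0, inv_of_sq hgg])) hkfix
  have prodA : ∀ {p : G}, Plane s t e p → p * cj e p * cj e (cj e p) = 1 := fun hp => hp.prod
  have prodB : ∀ {p : G}, Commute s p → Plane s t e (s * p) → p * cj e p * cj e (cj e p) = s := fun {p} hsp hp => by
    have h1 := hp.prod
    have hes : cj e s = s := cj_of_commute H.se.symm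
    rw [cj_mul, cj_mul, hes, hes, hsp.symm.mul_mul_mul_comm, H.s_sq, one_mul, ← mul_assoc] at h1
    have hse' : Commute s (p * cj e p) := hsp.mul_right (by
      have := cj_commute e hsp
      rwa [hes] at this)
    rw [← hse'.eq, mul_assoc, ← inv_eq_iff_mul_eq_one, inv_of_sq H.s_sq] at h1
    exact h1.symm
  have types : (Plane s t e q ∧ Plane t s h (t * q)) ∨ (Plane s t e (s * q) ∧ Plane t s h q) := by
    obtain ⟨h1 | h1, h2 | h2⟩ := H.D_types hR hq hqq hq1
    · exact (H.double h1 h2).elim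
    · exact Or.inl ⟨h1, h2⟩
    · exact Or.inr ⟨h1, h2⟩
    · exact absurd (H.iv_fix (f := q) ⟨h1, h2⟩) (fun h0 => hne (hg.trans h0))
  have hprod : q * cj e q * cj e (cj e q) * (g * cj e g * cj e (cj e g)) = s := by
    rcases types with ⟨h1, h2⟩ | ⟨h1, h2⟩
    · have h3 := H.plane_a2' h2
      rw [cj_mul, H.a2_t, ← hg] at h3
      rw [prodA h1, prodB hsg h3, one_mul]
    · have h3 := H.plane_a2' h2
      rw [← hg] at h3
      rw [prodB hsq h1, prodA h3, mul_one]
  -- the cross commutator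
  obtain ⟨qe, hqe⟩ : ∃ x, x = cj e q := ⟨_, rfl⟩
  obtain ⟨qee, hqee⟩ : ∃ x, x = cj e qe := ⟨_, rfl⟩
  obtain ⟨ge, hge⟩ : ∃ x, x = cj e g := ⟨_, rfl⟩
  obtain ⟨gee, hgee⟩ : ∃ x, x = cj e ge := ⟨_, rfl⟩
  rw [← hqe, ← hqee, ← hge, ← hgee] at hprod
  rw [← hqe] at hcr
  obtain ⟨σ, hσ, hσe, hσc⟩ : ∃ σ, g * qe = qe * g * σ ∧ cj e σ = σ ∧
      ∀ x ∈ R, Commute σ x := by
    rcases (mem_zpowers_invol H.s_sq).1 hcr with h1 | h1
    · exact ⟨1, by rw [mul_one]; exact mul_inv_eq_one.1 h1, cj_one e, fun x _ => Commute.one_left x⟩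
    · refine ⟨s, ?_, cj_of_commute H.se.symm, fun x hx => hR.core.le x hx⟩
      rw [mul_inv_eq_iff_eq_mul] at h1
      rw [h1]
      exact (hR.core.le _ (mul_mem (hqe ▸ hR.core.norm e H.se q hq.1) hgD.1)).eq
  have mqe : qe ∈ R := hqe ▸ hR.core.norm e H.se q hq.1
  have mqee : qee ∈ R := hqee ▸ hR.core.norm e H.se qe mqe
  have mge : ge ∈ R := hge ▸ hR.core.norm e H.se g hgD.1
  have mgee : gee ∈ R := hgee ▸ hR.core.norm e H.se ge mge
  have hqp : ∃ π, π * π = 1 ∧ (∀ x ∈ R, Commute π x) ∧ qee = qe * q * π := by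
    have hπ := (mem_zpowers_invol H.s_sq).1 ((H.bundle hR.core H.e3 H.e_ne H.se).1 q hq.1).1
    rw [← hqe, ← hqee] at hπ
    have qqe : qe * qe = 1 := by rw [hqe, ← cj_mul, hqq, cj_one]
    rcases hπ with h1 | h1
    · exact ⟨1, one_mul 1, fun x _ => Commute.one_left x, by
        rw [mul_one, ← inv_of_sq qqe, ← inv_of_sq hqq, ← mul_inv_rev]
        exact eq_inv_of_mul_eq_one_right h1⟩
    · refine ⟨s, H.s_sq, hR.core.le, ?_⟩
      calc qee = qe * q * (q * qe * qee) := by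
            simp only [mul_assoc]; rw [← mul_assoc q q, hqq, one_mul, ← mul_assoc qe qe, qqe, one_mul]
        _ = _ := by rw [h1]
  obtain ⟨π, -, hπc, hqee'⟩ := hqp
  have hgqee : g * qee = qee * g * σ := by
    rw [hqee']
    calc g * (qe * q * π) = (g * qe) * (q * π) := by simp only [mul_assoc]
      _ = qe * g * (σ * (q * π)) := by rw [hσ]; simp only [mul_assoc]
      _ = qe * (g * (q * π)) * σ := by
          rw [(hσc (q * π) ?_).eq]; · simp only [mul_assoc]
          have : π = q⁻¹ * qe⁻¹ * qee := by rw [hqee']; group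
          rw [this]
          exact mul_mem hq.1 (mul_mem (mul_mem (inv_mem hq.1) (inv_mem mqe)) mqee)
      _ = qe * (q * π * g) * σ := by
          rw [(hqg.symm.mul_right (hπc g hgD.1).symm).eq]
      _ = _ := by simp only [mul_assoc]
  have hgeqee : ge * qee = qee * ge * σ := by
    have h1 := congrArg (cj e) hσ
    rwa [cj_mul, cj_mul, cj_mul, hσe, ← hqee, ← hge] at h1
  have hkp := prodB (hsq.mul_right hsg) hk.1
  rw [cj_mul, cj_mul, ← hqe, ← hge, ← hqee, ← hgee] at hkp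
  have hσ1 : σ = 1 := by
    have m1 : qee * gee ∈ R := mul_mem mqee mgee
    have hsplit : q * g * (qe * ge) * (qee * gee) = q * qe * qee * (g * ge * gee) * (σ * σ * σ) := by
      calc q * g * (qe * ge) * (qee * gee) = q * (g * qe) * (ge * qee) * gee := by simp only [mul_assoc]
        _ = q * qe * g * σ * (qee * ge * σ) * gee := by rw [hσ, hgeqee]; simp only [mul_assoc]
        _ = q * qe * (g * qee) * ge * gee * (σ * σ) := by
            simp only [mul_assoc]
            rw [← mul_assoc σ qee, (hσc qee mqee).eq, mul_assoc qee σ, ← mul_assoc σ ge, (hσc ge mge).eq,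
              mul_assoc ge σ, ← mul_assoc σ σ gee, ((hσc gee mgee).mul_left (hσc gee mgee)).eq]
        _ = q * qe * qee * g * σ * ge * gee * (σ * σ) := by rw [hgqee]; simp only [mul_assoc]
        _ = _ := by
            simp only [mul_assoc]
            rw [← mul_assoc σ ge, (hσc ge mge).eq, mul_assoc ge σ, ← mul_assoc σ gee, (hσc gee mgee).eq,
              mul_assoc gee σ]
    rw [hsplit, hprod] at hkp
    have h3 : σ * σ * σ = 1 := mul_left_cancel (hkp.trans (mul_one s).symm)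
    refine eq_one_of_sq_cube ?_ (by rw [pow_succ, sq]; exact h3)
    rcases (mem_zpowers_invol H.s_sq).1 hcr with h1 | h1
    · have h4 : qe * g * σ = qe * g := by rw [← hσ]; exact mul_inv_eq_one.1 h1
      rw [mul_eq_left] at h4
      rw [h4, one_mul]
    · rw [mul_inv_eq_iff_eq_mul] at h1
      rw [h1, (hR.core.le _ (mul_mem mqe hgD.1)).eq] at hσ
      rw [← mul_left_cancel hσ, H.s_sq]
  have cA : Commute g qe := by rw [hσ1, mul_one] at hσ; exact hσ
  have cB : Commute q ge := by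
    rw [hσ1, mul_one] at hgqee
    have h1 := cj_commute e (show Commute g qee from hgqee)
    rw [hqee, hqe, cj_e_cube H.e3, ← hge] at h1
    exact h1.symm
  rcases types with ⟨h1, h2⟩ | ⟨h1, h2⟩
  · have h3 := H.plane_a2 h1
    have h4 := H.plane_a2' h2
    rw [← hg] at h3
    rw [cj_mul, H.a2_t, ← hg] at h4
    exact H.mixed_aux hgg hqq hsg htg hsq htq h4 h3 h1 h2 hgq hg.symm hqg.symm (hge ▸ cB) (hqe ▸ cA)
      (hqg.eq ▸ hk)
  · have h3 := H.plane_a2 h1
    have h4 := H.plane_a2' h2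
    rw [cj_mul, H.a2_s, ← hg] at h3
    rw [← hg] at h4
    exact H.mixed_aux hqq hgg hsq htq hsg htg h1 h2 h4 h3 hg.symm hgq hqg (hqe ▸ cA) (hge ▸ cB) hk

/-- Commuting involutions of the second type coincide. -/
theorem uniq (hR : Rad s R) {f f' : G} (hf : Iv s t e h f) (hf' : Iv s t e h f') (hc : Commute f f') :
    f = f' := by
  by_contra hne
  obtain ⟨hfD, -⟩ := H.iv_mem hR hf
  obtain ⟨hfD', -⟩ := H.iv_mem hR hf'
  obtain ⟨p, hp⟩ : ∃ p, p = f * f' := ⟨_, rfl⟩
  obtain ⟨-, -, hff⟩ := H.iv_comm hf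
  obtain ⟨-, -, hff'⟩ := H.iv_comm hf'
  have hz : Commute z (cj a f) := by
    have h1 := cj_commute a (H.D_z hR hfD)
    rwa [cj_of_commute H.za.symm] at h1
  have hprod : z * cj a f * (z * cj a f') = cj a p := by
    rw [hz.symm.mul_mul_mul_comm, H.zz, one_mul, ← cj_mul, hp]
  have hD : cj a p ∈ Dg a R :=
    hprod ▸ mul_mem (H.iv_mem hR (H.iv_tau hf)).1 (H.iv_mem hR (H.iv_tau hf')).1
  have hpp : p * p = 1 := by rw [hp, hc.symm.mul_mul_mul_comm, hff, hff', one_mul]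
  have hp1 : p ≠ 1 := fun h0 => hne (by
    rw [hp] at h0; rw [eq_inv_of_mul_eq_one_left h0, inv_of_sq hff'])
  have hpfix : cj (a ^ 2) p = p := by rw [hp, cj_mul, H.iv_fix hf, H.iv_fix hf']
  have hiv : Iv s t e h (cj a p) := H.fixed_iv hR hD (by rw [← cj_mul, hpp, cj_one])
    (fun h0 => hp1 (cj_eq_one.1 h0)) (by
      rw [cj_cj, show a ^ 2 * a = a * a ^ 2 by group, ← cj_cj, hpfix])
  have h2 := (H.iv_mem hR (H.iv_tau hiv)).1.1
  rw [cj_cj, ← sq, hpfix] at h2
  have hpR : p ∈ R := hp ▸ mul_mem hfD.1 hfD'.1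
  have h3 : z * p * p⁻¹ ∈ R := mul_mem h2 (inv_mem hpR)
  rw [mul_inv_cancel_right] at h3
  exact H.z_notMem hR h3

/-- The action of `a` on the fixed involution. -/
theorem cja_f (hR : Rad s R) {f : G} (hf : Iv s t e h f) (hc : ∀ x ∈ Dg a R, Commute f x) :
    cj a f = z * f := by
  have h1 := H.uniq hR hf (H.iv_tau hf) (hc _ (H.iv_mem hR (H.iv_tau hf)).1)
  nth_rewrite 2 [h1]
  rw [← mul_assoc, H.zz, one_mul]

theorem conj_s_f (hR : Rad s R) {f : G} (hf : Iv s t e h f) (hc : ∀ x ∈ Dg a R, Commute f x) :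
    IsConj s f := by
  obtain ⟨φ, hφ⟩ := H.exists_psi hf
  have h1 := congrArg φ Md.u_conj
  simp only [map_mul, map_inv, hφ.s, hφ.z, hφ.f] at h1
  refine isConj_iff.2 ⟨a⁻¹ * (φ (Equiv.swap 0 2) * φ (Equiv.swap 1 3)), ?_⟩
  show cj (a⁻¹ * (φ (Equiv.swap 0 2) * φ (Equiv.swap 1 3))) s = f
  rw [← cj_cj]
  show cj a⁻¹ (φ (Equiv.swap 0 2) * φ (Equiv.swap 1 3) * s *
    (φ (Equiv.swap 0 2) * φ (Equiv.swap 1 3))⁻¹) = f
  rw [h1, ← H.cja_f hR hf hc, cj_inv_cj]

end Cfg

end Cfsg.Agent.M11ThreeLocal
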