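import Cfsg.Agent.M11ThreeLocal.OneOne

/-!
# Tools for the odd part of the centraliser
-/

set_option autoImplicit false
set_option linter.unusedSectionVars false

namespace Cfsg.Agent.M11ThreeLocal

open Subgroup

variable {G : Type*} [Group G] [Finite G]

/-- The centre of the odd part of the centraliser. -/
abbrev ZO (O : Subgroup G) : Subgroup G := O ⊓ centralizer (O : Set G)

theorem mem_ZO {O : Subgroup G} {y : G} : y ∈ ZO O ↔ y ∈ O ∧ ∀ w ∈ O, Commute w y := by
  rw [mem_inf, mem_centralizer_iff]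
  exact Iff.rfl

theorem ZO_comm {O : Subgroup G} {y y' : G} (hy : y ∈ ZO O) (hy' : y' ∈ ZO O) : Commute y y' :=
  (mem_ZO.1 hy').2 y (mem_ZO.1 hy).1

namespace TI

variable {v : G} {R O : Subgroup G}

theorem ZO_norm (h : TI v R O) {g y : G} (hg : Commute v g) (hy : y ∈ ZO O) : cj g y ∈ ZO O := by
  obtain ⟨h1, h2⟩ := mem_ZO.1 hy
  refine mem_ZO.2 ⟨h.Onorm g hg y h1, fun w hw => ?_⟩
  have h3 := cj_commute g (h2 _ (h.Onorm g⁻¹ hg.inv_right w hw))
  rwa [cj_cj_inv] at h3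

theorem ZO_ne_bot (h : TI v R O) (hO : O ≠ ⊥) : ∃ y ∈ ZO O, y ≠ 1 := by
  haveI := h.Onil
  haveI : Nontrivial O := nontrivial_iff_ne_bot O |>.2 hO
  have hc : center O ≠ ⊥ := fun hc => by
    have hall : ∀ n, Subgroup.upperCentralSeries O n = ⊥ := fun n => by
      induction n with
      | zero => rfl
      | succ n ih =>
        rw [← hc, ← Subgroup.upperCentralSeries_one]
        ext x
        rw [Subgroup.mem_upperCentralSeries_succ_iff, Subgroup.mem_upperCentralSeries_succ_iff, ih, Subgroup.upperCentralSeries_zero]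
    obtain ⟨n, hn⟩ := Group.IsNilpotent.nilpotent' (G := O)
    rw [hall n] at hn
    exact bot_ne_top hn
  obtain ⟨y, hy, hy1⟩ := (bot_or_exists_ne_one (center O)).resolve_left hc
  exact ⟨y, mem_ZO.2 ⟨y.2, fun w hw => congrArg Subtype.val (mem_center_iff.1 hy ⟨w, hw⟩)⟩,
    fun h0 => hy1 (Subtype.ext h0)⟩

end TI

variable {M : Subgroup G} {e h s t z a : G} {R O : Subgroup G}

namespace Cfg

variable (H : Cfg M e h s t z a)

include H

/-- An element of `O` centralised by an element of order three is trivial. -/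
theorem fix_O {v : G} {R O : Subgroup G} (hT : TI v R O) {d w : G} (hd : d ^ 3 = 1) (hd1 : d ≠ 1) (hw : w ∈ O)
    (hc : Commute w d) : w = 1 := by
  have h1 : orderOf w ∣ 18 := by
    rw [← H.card_cent hd hd1, ← orderOf_mk w (mem_centralizer_singleton_iff.2 hc.eq)]
    exact orderOf_dvd_natCard _
  have h2 : orderOf w ∣ Nat.card O := by rw [← orderOf_mk w hw]; exact orderOf_dvd_natCard _
  have h3 : (Nat.card O).Coprime 18 := by
    have c2 : (Nat.card O).Coprime 2 := (Nat.prime_two.coprime_iff_not_dvd.2 hT.Oodd).symm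
    have c3 : (Nat.card O).Coprime 3 := (Nat.prime_three.coprime_iff_not_dvd.2 hT.O3).symm
    rw [show 18 = 2 * (3 * 3) by norm_num]
    exact c2.mul_right (c3.mul_right c3)
  have h4 := Nat.dvd_gcd h2 h1
  rw [h3.gcd_eq_one, Nat.dvd_one, orderOf_eq_one_iff] at h4
  exact h4

/-- A non-trivial odd part has a central element fixed by `s` and `t`. -/
theorem exists_fixed_ZO (hT : TI s R O) (hO : O ≠ ⊥) : ∃ y ∈ ZO O, y ≠ 1 ∧ Commute t y := by
  obtain ⟨y₀, hy₀, hy₀1⟩ := hT.ZO_ne_bot hO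
  have hab : ∀ k ∈ ZO O, ∀ k' ∈ ZO O, Commute k k' := fun k hk k' hk' => ZO_comm hk hk'
  have htri : Tri e (ZO O) := by
    refine ⟨H.e3, fun k hk => hT.ZO_norm H.se hk, fun k hk => hab k hk _ (hT.ZO_norm H.se hk), fun k hk => ?_⟩
    have he2 : e⁻¹ * k * e = cj e⁻¹ k := by rw [cj, inv_inv]
    show k * cj e k * (e⁻¹ * k * e) = 1
    have hk1 := hT.ZO_norm H.se hk
    have hk2 := hT.ZO_norm H.se.inv_right hk
    rw [he2]
    refine H.fix_O hT H.e3 H.e_ne (mem_ZO.1 (mul_mem (mul_mem hk hk1) hk2)).1 ?_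
    refine (commute_of_cj ?_).symm
    have h3 : cj e (cj e k) = cj e⁻¹ k := by
      rw [cj_cj, show e * e = e⁻¹ from eq_inv_of_mul_eq_one_left (by rw [← pow_three']; exact H.e3)]
    rw [cj_mul, cj_mul, cj_cj_inv, h3, (hab _ (mul_mem hk1 hk2) _ hk).eq, mul_assoc]
  have h3 : ¬ 3 ∣ Nat.card (ZO O) := fun hd => hT.O3 (hd.trans (card_dvd_of_le inf_le_left))
  have hcard := htri.card_eq_sq h3 H.tt H.te fun k hk => hT.ZO_norm H.ts_comm.symm hk
  have hne : ZO O ⊓ centralizer ({t} : Set G) ≠ ⊥ := fun h0 => by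
    rw [h0, Subgroup.card_bot, one_pow] at hcard
    have h1 := eq_bot_of_card_eq (ZO O) hcard
    rw [h1, mem_bot] at hy₀
    exact hy₀1 hy₀
  obtain ⟨y, hy, hy1⟩ := (bot_or_exists_ne_one _).resolve_left hne
  exact ⟨y, hy.1, hy1, mem_L.1 hy.2⟩

/-- An odd-order element commuting with `s`, `t` and `a`, whose translates under `e` commute, is trivial. -/
theorem eq_one_of_fixed {y : G} {n : ℕ} (hn : ¬ 3 ∣ n) (hy : y ^ n = 1)
    (hay : Commute a y) (hey : Commute y (cj e y)) : y = 1 := by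
  have hall : ∀ m ∈ M, Commute y (cj m y) := fun m hm => by
    by_cases h1 : m = 1
    · rw [h1, cj_one']
    obtain ⟨i, rfl⟩ := H.conjM hm h1
    have h2 := cj_commute (a ^ i) hey
    have h3 : cj (a ^ i) y = y := cj_of_commute (hay.pow_left i)
    rwa [h3, show cj (a ^ i) (cj e y) = cj (cj (a ^ i) e) (cj (a ^ i) y) by simp only [cj]; group, h3] at h2
  obtain ⟨S, hS⟩ : ∃ S, S = closure {x | ∃ m ∈ M, x = cj m y} := ⟨_, rfl⟩
  have hgen : ∀ {x : G}, (∃ m ∈ M, x = cj m y) → x ∈ S := fun hx => hS ▸ subset_closure hx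
  have hab : IsMulCommutative S := by
    rw [hS]
    refine Subgroup.isMulCommutative_closure ?_
    rintro _ ⟨m, hm, rfl⟩ _ ⟨m', hm', rfl⟩
    have h2 := cj_commute m (hall _ (mul_mem (inv_mem hm) hm'))
    rw [cj_cj, mul_inv_cancel_left] at h2
    exact h2.eq
  have hexp : ∀ x ∈ S, x ^ n = 1 := fun x hx => by
    rw [hS] at hx
    induction hx using closure_induction with
    | mem x hx => obtain ⟨m, -, rfl⟩ := hx; rw [cj_pow, hy, cj_one]
    | one => exact one_pow n
    | mul x w hx hw ihx ihw =>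
      have hc : Commute x w := congrArg Subtype.val (hab.is_comm.comm ⟨x, hS ▸ hx⟩ ⟨w, hS ▸ hw⟩)
      rw [hc.mul_pow, ihx, ihw, one_mul]
    | inv x _ ih => rw [inv_pow, ih, inv_one]
  have h3 : ¬ 3 ∣ Nat.card S := fun hd => by
    haveI : Fact (Nat.Prime 3) := ⟨Nat.prime_three⟩
    obtain ⟨⟨x, hx⟩, hxo⟩ := exists_prime_orderOf_dvd_card' 3 hd
    rw [Subgroup.orderOf_mk] at hxo
    exact hn (hxo ▸ orderOf_dvd_of_pow_eq_one (hexp x hx))
  have hnorm : ∀ g ∈ M, ∀ x ∈ S, cj g x ∈ S := fun g hg => by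
    have hle : S ≤ S.comap (MulAut.conj g).toMonoidHom := by
      conv_lhs => rw [hS]
      rw [closure_le]
      rintro _ ⟨m, hm, rfl⟩
      exact hgen ⟨g * m, mul_mem hg hm, cj_cj g m y⟩
    exact fun x hx => hle hx
  have hbot := H.eq_bot hab h3 (hnorm e H.eM) (hnorm h H.hM)
  have hyS : y ∈ S := hgen ⟨1, one_mem M, (cj_one' y).symm⟩
  rwa [hbot, mem_bot] at hyS

end Cfg

end Cfsg.Agent.M11ThreeLocal
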