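import Cfsg.Agent.M11ThreeLocal.Radical

/-!
# The second shape: bounds
-/

set_option autoImplicit false
set_option linter.unusedSectionVars false

namespace Cfsg.Agent.M11ThreeLocal

open Subgroup

variable {G : Type*} [Group G] [Finite G]

namespace TII

variable {v : G} {R : Subgroup G}

theorem comm_mem (h : TII v R) {x y : G} (hx : x ∈ R) (hy : y ∈ R) : x * y * (y * x)⁻¹ ∈ zpowers v := by
  have cv : ∀ {σ : G}, σ ∈ zpowers v → ∀ {w : G}, w ∈ R → Commute σ w := by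
    intro σ hσ w hw
    obtain ⟨i, rfl⟩ := mem_zpowers_iff.1 hσ
    exact (h.core.le w hw).zpow_left i
  have h1 := h.sqR _ (mul_mem hx hy)
  have key : x * y * (y * x)⁻¹ = x * y * (x * y) * ((y * y)⁻¹ * (x * x)⁻¹) := by
    have e1 : (x * x)⁻¹ * (y * y)⁻¹ = (y * y)⁻¹ * (x * x)⁻¹ :=
      ((cv (h.sqR _ hx) (mul_mem hy hy)).inv_left.inv_right).eq
    have e2 : y * ((y * y)⁻¹ * (x * x)⁻¹) = y⁻¹ * (x * x)⁻¹ := by group
    have e3 : x * (y⁻¹ * (x * x)⁻¹) = x⁻¹ * y⁻¹ := by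
      rw [(((cv (h.sqR _ hx) hy).inv_left).inv_right).symm.eq]; group
    calc x * y * (y * x)⁻¹ = x * y * (x⁻¹ * y⁻¹) := by rw [mul_inv_rev]
      _ = x * y * (x * (y * ((y * y)⁻¹ * (x * x)⁻¹))) := by rw [e2, e3]
      _ = _ := by simp only [mul_assoc]
  rw [key]
  exact mul_mem h1 (mul_mem (inv_mem (h.sqR _ hy)) (inv_mem (h.sqR _ hx)))

/-- Elements of order five act without fixed points on the radical. -/
theorem fpf5 {M : Subgroup G} {e h₀ s t z a : G} (H : Cfg M e h₀ s t z a) (h : TII v R) {ρ : G}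
    (hρ : Commute v ρ) (hρR : ρ ∉ R) (hρ5 : ρ ^ 5 ∈ R) {r : G} (hr : r ∈ R)
    (hfix : cj ρ r * r⁻¹ ∈ zpowers v) : r ∈ zpowers v := by
  classical
  obtain ⟨φ, hφs, hk⟩ := h.hom
  obtain ⟨P, hP⟩ : ∃ P : centralizer ({v} : Set G), (P : G) = ρ := ⟨⟨ρ, mem_L.2 hρ⟩, rfl⟩
  have hP5 : φ P ^ 5 = 1 := by
    rw [← map_pow, hk, SubmonoidClass.coe_pow, hP]; exact hρ5
  have hP1 : φ P ≠ 1 := fun h0 => hρR (hP ▸ (hk P).1 h0)
  obtain ⟨c, hc3, hc3', hc5⟩ := a5_five (φ P) hP5 hP1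
  have hlift : ∀ c : alternatingGroup (Fin 5), c ^ 3 = 1 →
      ∃ x : centralizer ({v} : Set G), φ x = c ∧ (x : G) ^ 3 = 1 := by
    intro c hc
    obtain ⟨g, rfl⟩ := hφs c
    obtain ⟨n, hn⟩ := Two.of_isPGroup h.core.two ((hk (g ^ 3)).1 (by rw [map_pow, hc]))
    refine ⟨g ^ (4 ^ n), ?_, ?_⟩
    · rw [map_pow, pow_eq_pow_mod (4 ^ n) hc, Nat.pow_mod]; simp
    · rw [SubmonoidClass.coe_pow, ← pow_mul, mul_comm, pow_mul, show (4 : ℕ) ^ n = 2 ^ n * 2 ^ n by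
        rw [← mul_pow]; norm_num, pow_mul, ← SubmonoidClass.coe_pow, hn, one_pow]
  obtain ⟨X, hX, hX3⟩ := hlift c hc3
  obtain ⟨Y, hY, hY3⟩ := hlift (c⁻¹ * φ P) hc3'
  -- modulo the centre
  obtain ⟨π, hπ⟩ : ∃ π, π = QuotientGroup.mk' (Zc v) := ⟨_, rfl⟩
  have hπ1 : ∀ x : centralizer ({v} : Set G), π x = 1 ↔ (x : G) ∈ zpowers v := fun x => by
    rw [hπ, QuotientGroup.mk'_apply, QuotientGroup.eq_one_iff, mem_subgroupOf]
  have hRL : R ≤ centralizer ({v} : Set G) := fun w hw => mem_L.2 (h.core.le w hw)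
  obtain ⟨V, hV⟩ : ∃ V : centralizer ({v} : Set G), (V : G) = r := ⟨⟨r, hRL hr⟩, rfl⟩
  have triv : ∀ g : centralizer ({v} : Set G), φ g = 1 → cj (π g) (π V) = π V := fun g hg => by
    show π g * π V * (π g)⁻¹ = π V
    rw [mul_inv_eq_iff_eq_mul, ← mul_inv_eq_one, ← map_mul, ← map_mul, ← map_inv, ← map_mul, hπ1,
      coe_mul, InvMemClass.coe_inv, coe_mul, coe_mul, hV]
    exact h.comm_mem ((hk g).1 hg) hr
  have hP' : cj (π P) (π V) = π V := by
    show π P * π V * (π P)⁻¹ = π V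
    rw [← map_inv, ← map_mul, ← map_mul, ← mul_inv_eq_one, ← map_inv, ← map_mul, hπ1]
    simp only [coe_mul, InvMemClass.coe_inv, hP, hV]
    exact hfix
  have hXY : cj (π X) (cj (π Y) (π V)) = π V := by
    have h1 : φ (P⁻¹ * (X * Y)) = 1 := by rw [map_mul, map_mul, map_inv, hX, hY]; group
    have h2 := triv _ h1
    rw [cj_cj, ← map_mul, show X * Y = P * (P⁻¹ * (X * Y)) by group, map_mul, ← cj_cj, h2, hP']
  have cyc : ∀ (g : centralizer ({v} : Set G)), (g : G) ^ 3 = 1 → φ g ≠ 1 → ∀ w : centralizer ({v} : Set G),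
      (w : G) ∈ R → π w * cj (π g) (π w) * cj (π g) (cj (π g) (π w)) = 1 := by
    intro g hg3 hg1 w hw
    have hg0 : (g : G) ≠ 1 := fun h0 => hg1 (by rw [show g = 1 from Subtype.ext h0, map_one])
    have h1 := ((H.bundle h.core hg3 hg0 (mem_L.1 g.2)).1 w hw).1
    simp only [cj, ← map_inv, ← map_mul]
    rw [hπ1]
    simpa [cj] using h1
  have hc0 : φ X ≠ 1 := fun h0 => by
    rw [hX] at h0
    rw [h0, inv_one, one_mul] at hc3'
    exact hP1 (calc φ P = φ P ^ 3 * φ P ^ 3 * (φ P ^ 5)⁻¹ := by group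
      _ = 1 := by rw [hc3', hP5, inv_one, one_mul, one_mul])
  have hc0' : φ Y ≠ 1 := fun h0 => by
    rw [hY] at h0
    rw [inv_mul_eq_one] at h0
    rw [h0] at hc3
    exact hP1 (calc φ P = φ P ^ 3 * φ P ^ 3 * (φ P ^ 5)⁻¹ := by group
      _ = 1 := by rw [hc3, hP5, inv_one, one_mul, one_mul])
  have abel : ∀ A B : centralizer ({v} : Set G), (A : G) ∈ R → (B : G) ∈ R → π A * π B = π B * π A := fun A B hA hB => by
    rw [← mul_inv_eq_one, ← map_mul, ← map_mul, ← map_inv, ← map_mul, hπ1]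
    simpa using h.comm_mem hA hB
  have sq1 : ∀ A : centralizer ({v} : Set G), (A : G) ∈ R → π A * π A = 1 := fun A hA => by
    rw [← map_mul, hπ1]; simpa using h.sqR _ hA
  have memc : ∀ g w : centralizer ({v} : Set G), (w : G) ∈ R → ((g * w * g⁻¹ : centralizer ({v} : Set G)) : G) ∈ R :=
    fun g w hw => by
      have h1 := h.core.norm (g : G) (mem_L.1 g.2) (w : G) hw
      simpa [cj] using h1
  have toπ : ∀ g w : centralizer ({v} : Set G), cj (π g) (π w) = π (g * w * g⁻¹) := fun g w => by simp [cj]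
  -- the orbit
  obtain ⟨v1, hv1⟩ : ∃ v1, v1 = π V := ⟨_, rfl⟩
  obtain ⟨w, hw⟩ : ∃ w, w = cj (π X) (cj (π X) v1) := ⟨_, rfl⟩
  have hVR : (V : G) ∈ R := hV.symm ▸ hr
  have hWR : ((X * (X * V * X⁻¹) * X⁻¹ : centralizer ({v} : Set G)) : G) ∈ R := memc _ _ (memc _ _ hVR)
  have hwπ : w = π (X * (X * V * X⁻¹) * X⁻¹) := by rw [hw, hv1, toπ, toπ]
  have hXV3 : ∀ q, cj (π X) (cj (π X) (cj (π X) q)) = q := fun q => cj_e_cube (by
    rw [← map_pow, show X ^ 3 = 1 from Subtype.ext (by simpa using hX3), map_one]) q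
  have hY3' : π Y ^ 3 = 1 := by
    rw [← map_pow, show Y ^ 3 = 1 from Subtype.ext (by simpa using hY3), map_one]
  have vsq : v1 * v1 = 1 := hv1 ▸ sq1 V hVR
  have wsq : w * w = 1 := hwπ ▸ sq1 _ hWR
  have xv : cj (π X) v1 = v1 * w := by
    have h1 := cyc X hX3 hc0 V hVR
    rw [← hv1, ← hw] at h1
    have h2 : v1 * w = w * v1 := by rw [hv1, hwπ]; exact abel _ _ hVR hWR
    have h3 : cj (π X) v1 = v1⁻¹ * w⁻¹ := by
      rw [eq_inv_mul_iff_mul_eq]; exact eq_inv_of_mul_eq_one_left h1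
    rw [h3, inv_of_sq vsq, inv_of_sq wsq]
  have xw : cj (π X) w = v1 := by rw [hw, hXV3]
  have yv : cj (π Y) v1 = w := by
    have h1 := congrArg (fun q => cj (π X) (cj (π X) q)) hXY
    simp only [hXV3] at h1
    rw [hv1, h1, hw, hv1]
  have yw : cj (π Y) w = v1 * w := by
    have h1 := cyc Y hY3 hc0' V hVR
    rw [← hv1, yv] at h1
    have h3 : cj (π Y) w = w⁻¹ * v1⁻¹ := by
      rw [eq_inv_mul_iff_mul_eq]
      refine eq_inv_of_mul_eq_one_right ?_
      rw [← mul_assoc]; exact h1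
    rw [h3, inv_of_sq vsq, inv_of_sq wsq, hv1, hwπ, abel _ _ hWR hVR]
  have yinv : ∀ q, cj (π Y)⁻¹ q = cj (π Y) (cj (π Y) q) := fun q => by
    rw [cj_cj, show (π Y)⁻¹ = π Y * π Y from inv_eq_of_mul_eq_one_right (by rw [← pow_three]; exact hY3')]
  have hvw : v1 * w = w * v1 := by rw [hv1, hwπ]; exact abel _ _ hVR hWR
  obtain ⟨g, hg⟩ : ∃ g, g = π X * (π Y)⁻¹ := ⟨_, rfl⟩
  have gv : cj g v1 = w := by
    rw [hg, ← cj_cj, yinv, yv, yw, cj_mul, xv, xw, hvw, mul_assoc, vsq, mul_one]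
  have gw : cj g w = v1 * w := by
    rw [hg, ← cj_cj, yinv, yw, cj_mul, yv, yw, ← mul_assoc, ← hvw, mul_assoc, wsq, mul_one, xv]
  have h5 : cj (g ^ 5) v1 = v1 := by
    have h1 : φ ((X * Y⁻¹) ^ 5) = 1 := by rw [map_pow, map_mul, map_inv, hX, hY, hc5]
    have h2 := triv _ h1
    rwa [map_pow, map_mul, map_inv, ← hg, ← hv1] at h2
  have h3 : cj g (cj g (cj g v1)) = v1 := by
    rw [gv, gw, cj_mul, gv, gw, ← mul_assoc, ← hvw, mul_assoc, wsq, mul_one]
  have h2 : cj g (cj g v1) = v1 := by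
    have h6 : cj (g ^ 5) v1 = cj g (cj g (cj g (cj g (cj g v1)))) := by
      simp only [cj_cj]; congr 1; simp only [pow_succ, pow_zero, one_mul, mul_assoc]
    rw [h6, h3] at h5
    exact h5
  rw [gv, gw] at h2
  have hw1 : w = 1 := mul_left_cancel (h2.trans (mul_one v1).symm)
  rw [hw1, cj_one] at xw
  rw [← hV]
  exact (hπ1 V).1 (hv1 ▸ xw.symm)

end TII

variable {M : Subgroup G} {e h s t z a : G} {R : Subgroup G}

namespace Cfg

variable (H : Cfg M e h s t z a)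

include H

theorem II_D_elem (hT : TII s R) {x : G} (hx : x ∈ Dg a R) : x * x = 1 := by
  have h1 := hT.sqR x hx.1
  rcases (mem_zpowers_invol H.s_sq).1 h1 with e' | e'
  · exact e'
  · exact absurd (e' ▸ mul_mem hx hx : s ∈ Dg a R) (H.s_notMemD hT.rad)

theorem II_D_comm (hT : TII s R) {x y : G} (hx : x ∈ Dg a R) (hy : y ∈ Dg a R) : Commute x y := by
  have h1 := H.II_D_elem hT (mul_mem hx hy)
  have h2 := inv_of_sq h1
  rw [mul_inv_rev, inv_of_sq (H.II_D_elem hT hx), inv_of_sq (H.II_D_elem hT hy)] at h2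
  exact h2.symm

theorem II_D_fixed (hT : TII s R) {x : G} (hx : x ∈ Dg a R) (hx1 : x ≠ 1) : Iv s t e h x := by
  refine H.fixed_iv hT.rad hx (H.II_D_elem hT hx) hx1 ?_
  exact H.mixed hT.rad hx (H.II_D_elem hT hx) (H.II_D_comm hT hx (H.D_a2 hT.rad hx).1)
    (hT.comm_mem (H.D_a2 hT.rad hx).1.1 (hT.core.norm e H.se x hx.1))

theorem II_D_unique (hT : TII s R) {x y : G} (hx : x ∈ Dg a R) (hy : y ∈ Dg a R) (hx1 : x ≠ 1)
    (hy1 : y ≠ 1) : x = y :=
  H.uniq hT.rad (H.II_D_fixed hT hx hx1) (H.II_D_fixed hT hy hy1) (H.II_D_comm hT hx hy)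

theorem II_card_D (hT : TII s R) : Nat.card (Dg a R) ≤ 2 := by
  classical
  let F : Dg a R → Bool := fun x => decide ((x : G) = 1)
  calc Nat.card (Dg a R) ≤ Nat.card Bool := Nat.card_le_card_of_injective F (by
        rintro ⟨x, hx⟩ ⟨y, hy⟩ hxy
        simp only [F, decide_eq_decide] at hxy
        refine Subtype.ext ?_
        by_cases h1 : x = 1
        · exact h1.trans (hxy.1 h1).symm
        · exact H.II_D_unique hT hx hy h1 fun h2 => h1 (hxy.2 h2))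
    _ = 2 := by simp

theorem II_card_Dt (hT : TII s R) : Nat.card (Dt t R) ≤ 8 := by
  classical
  have hT' : TII t (R.map (MulAut.conj (a ^ 2)).toMonoidHom) := by
    have h1 := hT.map (a ^ 2)
    rwa [H.a2_s] at h1
  obtain ⟨φ, -, hk⟩ := hT'.hom
  have hle : Dt t R ≤ centralizer ({t} : Set G) := inf_le_right
  let ψ : Dt t R →* alternatingGroup (Fin 5) := φ.comp (inclusion hle)
  have hker : ψ.ker = (Dg a R).subgroupOf (Dt t R) := by
    ext x
    rw [MonoidHom.mem_ker, mem_subgroupOf]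
    refine (hk _).trans ⟨fun hx => ⟨(mem_Dt.1 x.2).1, hx⟩, fun hx => hx.2⟩
  have h1 := card_eq_card_quotient_mul_card_subgroup ψ.ker
  rw [Nat.card_congr (QuotientGroup.quotientKerEquivRange ψ).toEquiv, hker] at h1
  have hD : Dg a R ≤ Dt t R := fun x hx => mem_Dt.2 ⟨hx.1, (H.D_comm hT.rad hx).2⟩
  rw [Nat.card_congr (subgroupOfEquivOfLe hD).toEquiv] at h1
  have hr : Nat.card ψ.range ≤ 4 := by
    haveI : Fact (Nat.Prime 2) := ⟨Nat.prime_two⟩
    have h2 : IsPGroup 2 ψ.range :=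
      (hT.core.two.to_le (inf_le_left : Dt t R ≤ R)).of_surjective ψ.rangeRestrict ψ.rangeRestrict_surjective
    obtain ⟨i, hi⟩ := h2.exists_card_eq
    have h60 : Nat.card ψ.range ∣ 60 := (card_subgroup_dvd_card _).trans
      (dvd_of_eq (by rw [nat_card_alternatingGroup, Nat.card_fin]; rfl))
    rw [hi] at h60 ⊢
    by_contra h4
    have : 3 ≤ i := by
      by_contra h3
      interval_cases i <;> simp at h4
    exact absurd ((pow_dvd_pow 2 this).trans h60) (by norm_num)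
  have := H.II_card_D hT
  calc Nat.card (Dt t R) = Nat.card ψ.range * Nat.card (Dg a R) := h1
    _ ≤ 4 * 2 := Nat.mul_le_mul hr this
    _ = 8 := rfl

/-- The radical has order two or thirty-two. -/
theorem II_card_R (hT : TII s R) : Nat.card R = 2 ∨ Nat.card R = 32 := by
  classical
  obtain ⟨k, hR, hW, hD⟩ := H.sizes hT.rad
  have h8 := H.II_card_Dt hT
  have hk3 : k ≤ 3 := by
    by_contra hk
    have : 2 ^ 4 ≤ 2 ^ k := Nat.pow_le_pow_right two_pos (by omega)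
    omega
  haveI : Fact (Nat.Prime 5) := ⟨by norm_num⟩
  obtain ⟨⟨ρ, hρL⟩, hρo⟩ := exists_prime_orderOf_dvd_card' (G := centralizer ({s} : Set G)) 5
    (by rw [hT.card]; exact dvd_mul_of_dvd_left (by norm_num) _)
  rw [orderOf_mk] at hρo
  have hρ5 : ρ ^ 5 = 1 := by rw [← hρo, pow_orderOf_eq_one]
  have hρR : ρ ∉ R := fun h0 => by
    have h1 := (Two.of_isPGroup hT.core.two h0).eq_one_of_odd (n := 5) (by norm_num) hρ5
    rw [h1, orderOf_one] at hρo
    omega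
  have hsρ : Commute s ρ := mem_L.1 hρL
  -- the permutation of the cosets
  let Z : Subgroup R := (zpowers s).subgroupOf R
  have hcj : ∀ r : R, cj ρ (r : G) ∈ R := fun r => hT.core.norm ρ hsρ r r.2
  have hwell : ∀ a b : R, QuotientGroup.leftRel Z a b →
      (QuotientGroup.mk ⟨cj ρ (a : G), hcj a⟩ : R ⧸ Z) = QuotientGroup.mk ⟨cj ρ (b : G), hcj b⟩ := by
    intro x y hxy
    rw [QuotientGroup.leftRel_apply, mem_subgroupOf] at hxy
    rw [QuotientGroup.eq, mem_subgroupOf]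
    obtain ⟨i, hi⟩ := mem_zpowers_iff.1 hxy
    simp only [coe_mul, InvMemClass.coe_inv] at hi ⊢
    rw [← cj_inv, ← cj_mul, ← hi, cj_of_commute (hsρ.symm.zpow_right i)]
    exact ⟨i, rfl⟩
  let f : R ⧸ Z → R ⧸ Z := Quotient.lift (fun r => (QuotientGroup.mk ⟨cj ρ (r : G), hcj r⟩ : R ⧸ Z)) hwell
  have hf5 : ∀ q, f^[5] q = q := fun q => by
    induction q using QuotientGroup.induction_on with
    | _ r =>
      show (QuotientGroup.mk ⟨cj ρ (cj ρ (cj ρ (cj ρ (cj ρ (r : G))))), _⟩ : R ⧸ Z) = _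
      refine congrArg _ (Subtype.ext ?_)
      show cj ρ (cj ρ (cj ρ (cj ρ (cj ρ (r : G))))) = r
      simp only [cj_cj]
      rw [show ρ * (ρ * (ρ * (ρ * ρ))) = ρ ^ 5 by simp only [pow_succ, pow_zero, one_mul, mul_assoc], hρ5,
        cj_one']
  let σ : Equiv.Perm (R ⧸ Z) := ⟨f, f^[4], fun q => hf5 q, fun q => hf5 q⟩
  have hσ : σ ^ 5 = 1 := Equiv.ext fun q => by
    have h1 : ((σ ^ 5 : Equiv.Perm (R ⧸ Z)) : R ⧸ Z → R ⧸ Z) = f^[5] := by rw [Equiv.Perm.coe_pow]; rfl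
    rw [h1, hf5]; rfl
  have hmod := IsPGroup.card_modEq_card_fixedPoints (p := 5) (G := zpowers σ) (fun ⟨g, hg⟩ => by
    obtain ⟨i, rfl⟩ := mem_zpowers_iff.1 hg
    refine ⟨1, Subtype.ext ?_⟩
    show (σ ^ i) ^ (5 ^ 1) = 1
    rw [pow_one, ← zpow_natCast, ← zpow_mul, mul_comm, zpow_mul, zpow_natCast, hσ, one_zpow]) (R ⧸ Z)
  have hfix : MulAction.fixedPoints (zpowers σ) (R ⧸ Z) = {((1 : R) : R ⧸ Z)} := by
    ext q
    rw [MulAction.mem_fixedPoints, Set.mem_singleton_iff]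
    refine ⟨fun hq => ?_, ?_⟩
    · induction q using QuotientGroup.induction_on with
      | _ r =>
        have h1 : f (r : R ⧸ Z) = r := hq ⟨σ, mem_zpowers σ⟩
        have h2 : (QuotientGroup.mk ⟨cj ρ (r : G), hcj r⟩ : R ⧸ Z) = (r : R ⧸ Z) := h1
        rw [eq_comm, QuotientGroup.eq, mem_subgroupOf] at h2
        simp only [coe_mul, InvMemClass.coe_inv] at h2
        rw [QuotientGroup.eq, mul_one, mem_subgroupOf, InvMemClass.coe_inv, inv_mem_iff]
        refine hT.fpf5 H hsρ hρR (hρ5 ▸ one_mem R) r.2 ?_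
        obtain ⟨i, hi⟩ := mem_zpowers_iff.1 h2
        refine ⟨i, ?_⟩
        have hir : cj ρ (r : G) = r * s ^ i := by rw [hi, mul_inv_cancel_left]
        rw [hir, ((hT.core.le r r.2).zpow_left i).symm.eq, mul_inv_cancel_right]
    · rintro rfl ⟨g, hg⟩
      obtain ⟨i, rfl⟩ := mem_zpowers_iff.1 hg
      show (σ ^ i) _ = _
      refine Equiv.Perm.zpow_apply_eq_self_of_apply_eq_self ?_ i
      show (QuotientGroup.mk ⟨cj ρ ((1 : R) : G), hcj 1⟩ : R ⧸ Z) = _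
      exact congrArg _ (Subtype.ext (cj_one ρ))
  rw [hfix, Nat.card_coe_set_eq, Set.ncard_singleton] at hmod
  have h2 := card_eq_card_quotient_mul_card_subgroup Z
  rw [Nat.card_congr (subgroupOfEquivOfLe (zpowers_le.2 hT.core.mem)).toEquiv, Nat.card_zpowers,
    orderOf_eq_prime (hp := ⟨Nat.prime_two⟩) (by rw [sq, H.s_sq]) H.s_ne, hR] at h2
  rw [Nat.ModEq] at hmod
  interval_cases k <;> norm_num at h2 hR ⊢ <;> omega

end Cfg

end Cfsg.Agent.M11ThreeLocal
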