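import Cfsg.Agent.M11ThreeLocal.TwoBase

/-!
# The second shape with a radical of order thirty-two
-/

set_option autoImplicit false
set_option linter.unusedSectionVars false

namespace Cfsg.Agent.M11ThreeLocal

open Subgroup

variable {G : Type*} [Group G] [Finite G]

namespace TII

variable {v : G} {R : Subgroup G}

theorem lift3 (h : TII v R) (φ : centralizer ({v} : Set G) →* alternatingGroup (Fin 5))
    (hφs : Function.Surjective φ) (hk : ∀ x, φ x = 1 ↔ (x : G) ∈ R) {c : alternatingGroup (Fin 5)}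
    (hc : c ^ 3 = 1) : ∃ x : centralizer ({v} : Set G), φ x = c ∧ (x : G) ^ 3 = 1 := by
  obtain ⟨g, rfl⟩ := hφs c
  obtain ⟨n, hn⟩ := Two.of_isPGroup h.core.two ((hk (g ^ 3)).1 (by rw [map_pow, hc]))
  refine ⟨g ^ (4 ^ n), ?_, ?_⟩
  · rw [map_pow, pow_eq_pow_mod (4 ^ n) hc, Nat.pow_mod]; simp
  · rw [SubmonoidClass.coe_pow, ← pow_mul, mul_comm, pow_mul, show (4 : ℕ) ^ n = 2 ^ n * 2 ^ n by
      rw [← mul_pow]; norm_num, pow_mul, ← SubmonoidClass.coe_pow, hn, one_pow]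

/-- An element of order three normalising a Sylow two-subgroup. -/
theorem mover (h : TII v R) (hR : Nat.card R = 32) {T : Subgroup G} (hTc : ∀ x ∈ T, Commute v x)
    (hRT : R ≤ T) (hT : Nat.card T = 128) :
    ∃ d : G, d ^ 3 = 1 ∧ d ≠ 1 ∧ Commute v d ∧ ∀ x ∈ T, cj d x ∈ T := by
  classical
  obtain ⟨φ, hφs, hk⟩ := h.hom
  have hTL : T ≤ centralizer ({v} : Set G) := fun x hx => mem_L.2 (hTc x hx)
  let ψ : T →* alternatingGroup (Fin 5) := φ.comp (inclusion hTL)
  have hker : ψ.ker = R.subgroupOf T := by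
    ext x
    rw [MonoidHom.mem_ker, mem_subgroupOf]
    exact hk _
  have h1 := card_eq_card_quotient_mul_card_subgroup ψ.ker
  rw [Nat.card_congr (QuotientGroup.quotientKerEquivRange ψ).toEquiv, hker,
    Nat.card_congr (subgroupOfEquivOfLe hRT).toEquiv, hR, hT] at h1
  have hV : Nat.card ψ.range = 4 := by omega
  have hsq : ∀ p ∈ ψ.range, p * p = 1 := fun p hp => by
    haveI : Fact (Nat.Prime 2) := ⟨Nat.prime_two⟩
    exact (Two.of_isPGroup (IsPGroup.of_card (n := 2) (by rw [hV]; norm_num)) hp).a5_sq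
  obtain ⟨⟨p, hp⟩, hp1⟩ : ∃ p : ψ.range, p ≠ 1 := by
    have : Nontrivial ψ.range := Finite.one_lt_card_iff_nontrivial.1 (by rw [hV]; norm_num)
    exact exists_ne 1
  have hp1' : p ≠ 1 := fun h0 => hp1 (Subtype.ext h0)
  obtain ⟨q, hq, hq1, hqp⟩ : ∃ q ∈ ψ.range, q ≠ 1 ∧ q ≠ p := by
    by_contra hcon
    push Not at hcon
    have h2 : Nat.card ψ.range ≤ Nat.card Bool :=
      Nat.card_le_card_of_injective (fun x : ψ.range => decide ((x : alternatingGroup (Fin 5)) = 1)) (by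
        rintro ⟨x, hx⟩ ⟨y, hy⟩ hxy
        simp only [decide_eq_decide] at hxy
        refine Subtype.ext ?_
        by_cases hx1 : x = 1
        · exact hx1.trans (hxy.1 hx1).symm
        · exact (hcon x hx hx1).trans (hcon y hy fun h0 => hx1 (hxy.2 h0)).symm)
    rw [hV, Nat.card_eq_fintype_card, Fintype.card_bool] at h2
    omega
  have hcomm : p * q = q * p := by
    have h2 := inv_eq_of_mul_eq_one_right (hsq _ (mul_mem hp hq))
    rw [mul_inv_rev, inv_eq_of_mul_eq_one_right (hsq p hp), inv_eq_of_mul_eq_one_right (hsq q hq)] at h2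
    exact h2.symm
  obtain ⟨d, hd3, hd1, hdp, hdq⟩ := a5_mover p (hsq p hp) hp1' q (hsq q hq) hq1 hqp hcomm
  have hmem : ∀ x ∈ ψ.range, d * x * d⁻¹ ∈ ψ.range := by
    have hall : ∀ x ∈ ψ.range, x = 1 ∨ x = p ∨ x = q ∨ x = p * q := by
      intro x hx
      let F : Fin 4 → ψ.range := ![1, ⟨p, hp⟩, ⟨q, hq⟩, ⟨p * q, mul_mem hp hq⟩]
      have hF : Function.Injective F := by
        have n1 : p * q ≠ 1 := fun h0 => hqp (by
          rw [eq_inv_of_mul_eq_one_right h0, inv_eq_of_mul_eq_one_right (hsq p hp)])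
        intro i j hij
        fin_cases i <;> fin_cases j <;>
          simp [F, Subtype.ext_iff, hp1', hq1, hqp, hqp.symm, n1, n1.symm, hp1'.symm, hq1.symm] at hij ⊢
      obtain ⟨i, hi⟩ := (hF.bijective_of_nat_card_le (by rw [hV, Nat.card_fin])).2 ⟨x, hx⟩
      have h2 := congrArg Subtype.val hi
      fin_cases i <;> simp [F] at h2 <;> simp [← h2]
    intro x hx
    rcases hall x hx with rfl | rfl | rfl | rfl
    · rw [mul_one, mul_inv_cancel]; exact one_mem _
    · rw [hdp]; exact hq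
    · rw [hdq]; exact mul_mem hp hq
    · rw [show d * (p * q) * d⁻¹ = d * p * d⁻¹ * (d * q * d⁻¹) by group, hdp, hdq]
      exact mul_mem hq (mul_mem hp hq)
  obtain ⟨X, hX, hX3⟩ := h.lift3 φ hφs hk hd3
  refine ⟨X, hX3, fun h0 => hd1 (by rw [← hX, show X = 1 from Subtype.ext h0, map_one]), mem_L.1 X.2,
    fun x hx => ?_⟩
  obtain ⟨y, hy⟩ := hmem _ ⟨⟨x, hx⟩, rfl⟩
  have h2 : φ ((inclusion hTL y)⁻¹ * (X * inclusion hTL ⟨x, hx⟩ * X⁻¹)) = 1 := by
    rw [map_mul, map_inv, map_mul, map_mul, map_inv, hX]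
    change (ψ y)⁻¹ * (d * ψ ⟨x, hx⟩ * d⁻¹) = 1
    rw [hy, inv_mul_cancel]
  have h3 : (y : G)⁻¹ * cj (X : G) x ∈ T := hRT (by
    have h4 := (hk _).1 h2
    simpa [cj] using h4)
  have h5 := mul_mem y.2 h3
  rwa [mul_inv_cancel_left] at h5

variable {M : Subgroup G} {e h₀ s t z a : G}

/-- The centraliser is transitive on the non-trivial cosets in the radical. -/
theorem trans (H : Cfg M e h₀ s t z a) (h : TII v R) (hR : Nat.card R = 32) {r₁ r₂ : G} (h1 : r₁ ∈ R)
    (h1' : r₁ ∉ zpowers v) (h2 : r₂ ∈ R) (h2' : r₂ ∉ zpowers v) :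
    ∃ g : G, Commute v g ∧ (cj g r₁ = r₂ ∨ cj g r₁ = r₂ * v) := by
  classical
  haveI : Fact (Nat.Prime 2) := ⟨Nat.prime_two⟩
  have hRL : R ≤ centralizer ({v} : Set G) := fun r hr => mem_L.2 (h.core.le r hr)
  obtain ⟨π, hπ⟩ : ∃ π, π = QuotientGroup.mk' (Zc v) := ⟨_, rfl⟩
  have hπs : Function.Surjective π := hπ ▸ QuotientGroup.mk'_surjective _
  have hπ1 : ∀ x : centralizer ({v} : Set G), π x = 1 ↔ (x : G) ∈ zpowers v := fun x => by
    rw [hπ, QuotientGroup.mk'_apply, QuotientGroup.eq_one_iff, mem_subgroupOf]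
  have hker : π.ker = Zc v := hπ ▸ QuotientGroup.ker_mk' _
  have hkc : Nat.card π.ker = 2 := by
    rw [hker, Nat.card_congr (subgroupOfEquivOfLe (zpowers_le.2 (mem_L.2 (Commute.refl v)))).toEquiv,
      Nat.card_zpowers, orderOf_eq_prime (by rw [sq, h.core.sq]) h.core.ne]
  obtain ⟨K, hK⟩ : ∃ K, K = (R.subgroupOf (centralizer ({v} : Set G))).map π := ⟨_, rfl⟩
  have hK16 : Nat.card K = 16 := by
    have e1 := Cfg.card_map_mul_ker π (R.subgroupOf (centralizer ({v} : Set G))) (by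
      rw [hker]; exact fun x hx => mem_subgroupOf.2 (zpowers_le.2 h.core.mem (mem_subgroupOf.1 hx)))
    rw [hkc, ← hK, Nat.card_congr (subgroupOfEquivOfLe hRL).toEquiv, hR] at e1
    omega
  have hX : Nat.card (centralizer ({v} : Set G) ⧸ Zc v) = 960 := by
    have e1 := card_eq_card_quotient_mul_card_subgroup (Zc v)
    rw [h.card, hR, show Nat.card (Zc v) = 2 by rw [← hker]; exact hkc] at e1
    omega
  obtain ⟨V, hV⟩ : ∃ V : centralizer ({v} : Set G), (V : G) = r₁ := ⟨⟨r₁, hRL h1⟩, rfl⟩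
  obtain ⟨W, hW⟩ : ∃ W : centralizer ({v} : Set G), (W : G) = r₂ := ⟨⟨r₂, hRL h2⟩, rfl⟩
  obtain ⟨C, hC⟩ : ∃ C, C = (⊤ : Subgroup (centralizer ({v} : Set G) ⧸ Zc v)) ⊓ centralizer ({π V} : Set _) :=
    ⟨_, rfl⟩
  have hCp : ∀ p : ℕ, p.Prime → p = 3 ∨ p = 5 → ¬ p ∣ Nat.card C := by
    intro p hp hp35 hd
    haveI : Fact p.Prime := ⟨hp⟩
    obtain ⟨⟨c, hc⟩, hco⟩ := exists_prime_orderOf_dvd_card' p hd
    rw [orderOf_mk] at hco
    have hc' : c * π V = π V * c := by
      rw [hC] at hc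
      exact mem_centralizer_singleton_iff.1 hc.2
    obtain ⟨g, rfl⟩ := hπs c
    obtain ⟨n, hn⟩ : ∃ n : ℕ, (g : G) ^ (p * 2 ^ n) = 1 := by
      refine ⟨1, ?_⟩
      have hgp := (hπ1 (g ^ p)).1 (by rw [map_pow, ← hco, pow_orderOf_eq_one])
      rcases (mem_zpowers_invol h.core.sq).1 hgp with e' | e' <;> rw [SubmonoidClass.coe_pow] at e' <;>
        rw [pow_one, pow_mul, e']
      · exact one_pow 2
      · rw [sq, h.core.sq]
    obtain ⟨d, hd⟩ : ∃ d : centralizer ({v} : Set G), d = g ^ (2 ^ n) := ⟨_, rfl⟩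
    have hdp : (d : G) ^ p = 1 := by rw [hd, SubmonoidClass.coe_pow, ← pow_mul, mul_comm, hn]
    have hdfix : cj (d : G) r₁ * r₁⁻¹ ∈ zpowers v := by
      have h3 : π (d * V * d⁻¹ * V⁻¹) = 1 := by
        rw [map_mul, map_mul, map_mul, map_inv, map_inv, hd, map_pow,
          ((show Commute (π g) (π V) from hc').pow_left _).eq]
        group
      have h4 := (hπ1 _).1 h3
      simpa [cj, hV] using h4
    have hd1 : (d : G) ∉ zpowers v := fun h0 => by
      have h3 : π g ^ (2 ^ n) = 1 := by rw [← map_pow, ← hd]; exact (hπ1 d).2 h0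
      have h4 := (Nat.dvd_gcd (orderOf_dvd_of_pow_eq_one h3) (dvd_refl (orderOf (π g))))
      rw [hco] at h4
      have h5 : Nat.gcd (2 ^ n) p = 1 := Nat.Coprime.pow_left n
        ((Nat.coprime_primes Nat.prime_two hp).2 (by omega))
      rw [h5, Nat.dvd_one] at h4
      omega
    have hdne : (d : G) ≠ 1 := fun h0 => hd1 (h0 ▸ one_mem _)
    have hr1 : r₁ = 1 ∨ r₁ = v → False := fun h0 => h1' ((mem_zpowers_invol h.core.sq).2 h0)
    rcases hp35 with rfl | rfl
    · refine hr1 (H.fixR h.core hdp hdne (mem_L.1 d.2) h1 ?_)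
      rcases (mem_zpowers_invol h.core.sq).1 hdfix with e' | e'
      · exact Or.inl (mul_inv_eq_one.1 e')
      · right
        rw [mul_inv_eq_iff_eq_mul] at e'
        rw [e', (h.core.le r₁ h1).eq]
    · refine h1' (h.fpf5 H (mem_L.1 d.2) (fun hdR => hdne
        ((Two.of_isPGroup h.core.two hdR).eq_one_of_odd (n := 5) (by norm_num) hdp))
        (hdp ▸ one_mem R) h1 hdfix)
  have hC64 : Nat.card C ≤ 64 := by
    have hd : Nat.card C ∣ 15 * 64 := by
      have := card_subgroup_dvd_card C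
      rwa [hX] at this
    refine Nat.le_of_dvd (by norm_num) (Nat.Coprime.dvd_of_dvd_mul_left ?_ hd)
    show (Nat.card C).Coprime (3 * 5)
    exact Nat.Coprime.mul_right
      ((Nat.prime_three.coprime_iff_not_dvd.2 (hCp 3 Nat.prime_three (Or.inl rfl))).symm)
      (((by norm_num : Nat.Prime 5).coprime_iff_not_dvd.2 (hCp 5 (by norm_num) (Or.inr rfl))).symm)
  have horb := card_orbit_mul (⊤ : Subgroup (centralizer ({v} : Set G) ⧸ Zc v)) (π V)
  rw [← hC, card_top, hX] at horb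
  let S : Set (centralizer ({v} : Set G) ⧸ Zc v) := {x | ∃ k ∈ (⊤ : Subgroup _), cj k (π V) = x}
  let S' : Set (centralizer ({v} : Set G) ⧸ Zc v) := (K : Set _) \ {1}
  have hVK : π V ∈ K := hK ▸ ⟨V, mem_subgroupOf.2 (hV.symm ▸ h1), rfl⟩
  have hsub : S ⊆ S' := by
    rintro x ⟨k, -, rfl⟩
    obtain ⟨g, rfl⟩ := hπs k
    refine ⟨hK ▸ ⟨g * V * g⁻¹, mem_subgroupOf.2 ?_, by simp [cj]⟩, fun h0 => ?_⟩
    · have := h.core.norm (g : G) (mem_L.1 g.2) r₁ h1
      simpa [cj, hV] using this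
    · refine h1' (hV ▸ (hπ1 V).1 ?_)
      exact cj_eq_one.1 (Set.mem_singleton_iff.1 h0)
  have hS'c : S'.ncard = 15 := by
    rw [Set.ncard_diff_singleton_of_mem (one_mem K), ← Nat.card_coe_set_eq]
    show Nat.card K - 1 = 15
    omega
  have hSc : 15 ≤ S.ncard := by
    rw [← Nat.card_coe_set_eq]
    by_contra hlt
    have h5 := Nat.mul_le_mul (show Nat.card S ≤ 14 by omega) hC64
    have h6 : Nat.card S * Nat.card C = 960 := horb
    omega
  have heq : S = S' := Set.eq_of_subset_of_ncard_le hsub (by omega)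
  have hWS : π W ∈ S := by
    rw [heq]
    exact ⟨hK ▸ ⟨W, mem_subgroupOf.2 (hW.symm ▸ h2), rfl⟩, fun h0 => h2' (hW ▸ (hπ1 W).1 h0)⟩
  obtain ⟨k, -, hk'⟩ := hWS
  obtain ⟨g, rfl⟩ := hπs k
  refine ⟨g, mem_L.1 g.2, ?_⟩
  have h3 : π ((g * V * g⁻¹) * W⁻¹) = 1 := by
    rw [map_mul, map_mul, map_mul, map_inv, map_inv, mul_inv_eq_one]; exact hk'
  have h4 := (mem_zpowers_invol h.core.sq).1 ((hπ1 _).1 h3)
  simp only [coe_mul, InvMemClass.coe_inv, hV, hW, mul_inv_eq_iff_eq_mul] at h4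
  rcases h4 with e' | e'
  · left; rw [cj, mul_inv_eq_iff_eq_mul]; simpa using e'
  · right; rw [cj, mul_inv_eq_iff_eq_mul, ← (h.core.le r₂ h2).eq]; simpa using e'

end TII

variable {M : Subgroup G} {e h s t z a : G} {R : Subgroup G}

namespace Cfg

variable (H : Cfg M e h s t z a)

include H

/-- The case of a radical of order thirty-two does not occur. -/
theorem not_II_four (hT : TII s R) (hR32 : Nat.card R = 32) : False := by
  classical
  have hrad := hT.rad
  have hts := H.ts_comm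
  -- an involution outside the centre
  obtain ⟨k, hRk, hWk, hDk⟩ := H.sizes hrad
  have hk2 : k = 2 := by
    rw [hR32] at hRk
    have h16 : (4 : ℕ) ^ k = 4 ^ 2 := by omega
    exact Nat.pow_right_injective (le_refl 2 |>.trans (by norm_num)) h16
  subst hk2
  have hDt8 := H.II_card_Dt hT
  obtain ⟨r0, hr0, hr0t, hr0s, hr0sq⟩ : ∃ r ∈ R, Commute t r ∧ r ∉ zpowers s ∧ r * r = 1 := by
    obtain ⟨r, hr, hrn⟩ : ∃ r ∈ Dt t R, r ∉ zpowers s := by
      by_contra hcon
      push Not at hcon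
      have h1 := card_le_of_le (show Dt t R ≤ zpowers s from hcon)
      rw [Nat.card_zpowers, orderOf_eq_prime (hp := ⟨Nat.prime_two⟩) (by rw [sq, H.s_sq]) H.s_ne] at h1
      have h4 : (2 : ℕ) ^ 2 = 4 := by norm_num
      omega
    obtain ⟨hrR, hrt⟩ := mem_Dt.1 hr
    refine ⟨r, hrR, hrt, hrn, ?_⟩
    rcases (mem_zpowers_invol H.s_sq).1 (hT.sqR r hrR) with e' | e'
    · exact e'
    · refine absurd ?_ (H.s_notMemT hrad)
      rw [← e']
      exact (H.radT hrad).sq2 r hrt (Two.of_isPGroup hT.core.two hrR)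
  have hsqR : ∀ r ∈ R, r * r = 1 := by
    intro r hr
    by_cases hrs : r ∈ zpowers s
    · rcases (mem_zpowers_invol H.s_sq).1 hrs with rfl | rfl
      exacts [one_mul 1, H.s_sq]
    obtain ⟨g, hg, hgr⟩ := hT.trans H hR32 hr0 hr0s hr hrs
    rcases hgr with e' | e'
    · rw [← e', ← cj_mul, hr0sq, cj_one]
    · have h1 : cj g r0 * cj g r0 = 1 := by rw [← cj_mul, hr0sq, cj_one]
      rwa [e', (hT.core.le r hr).mul_mul_mul_comm, H.s_sq, mul_one] at h1
  have hab : ∀ x ∈ R, ∀ y ∈ R, Commute x y := fun x hx y hy => by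
    have h1 := inv_of_sq (hsqR _ (mul_mem hx hy))
    rw [mul_inv_rev, inv_of_sq (hsqR x hx), inv_of_sq (hsqR y hy)] at h1
    exact h1.symm
  have hzs : ¬ IsConj s z := fun hsz => by
    obtain ⟨r, hr, hrr⟩ := H.root_sq hrad hsz
    exact H.s_ne (hrr.symm.trans (hsqR r hr))
  -- the order of the fixed subgroup
  have hDt : Nat.card (Dt t R) = 8 := by
    let lam : R →* Dt t R := MonoidHom.mk' (fun r => ⟨(r : G) * cj t r, by
      have h1 : cj t (r : G) ∈ R := hT.core.norm t hts.symm r r.2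
      refine mem_Dt.2 ⟨mul_mem r.2 h1, commute_of_cj ?_⟩
      rw [cj_mul, cj_cj, H.tt, cj_one']
      exact (hab _ h1 _ r.2).eq⟩) fun x y => Subtype.ext (by
        show (x : G) * y * cj t ((x : G) * y) = (x : G) * cj t x * ((y : G) * cj t y)
        rw [cj_mul, (hab _ y.2 _ (hT.core.norm t hts.symm x x.2)).mul_mul_mul_comm])
    have hker : lam.ker = (Dt t R).subgroupOf R := by
      ext ⟨r, hr⟩
      rw [MonoidHom.mem_ker, mem_subgroupOf, mem_Dt]
      refine ⟨fun h0 => ⟨hr, commute_of_cj ?_⟩, fun h0 => Subtype.ext ?_⟩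
      · have h1 : r * cj t r = 1 := congrArg Subtype.val h0
        rw [eq_inv_of_mul_eq_one_right h1, inv_of_sq (hsqR r hr)]
      · show r * cj t r = 1
        rw [cj_of_commute h0.2, hsqR r hr]
    have h1 := card_eq_card_quotient_mul_card_subgroup lam.ker
    rw [Nat.card_congr (QuotientGroup.quotientKerEquivRange lam).toEquiv, hker, hR32,
      Nat.card_congr (subgroupOfEquivOfLe (inf_le_left : Dt t R ≤ R)).toEquiv] at h1
    have h2 : Nat.card lam.range ≤ Nat.card (Dt t R) := Nat.le_of_dvd Nat.card_pos (card_subgroup_dvd_card _)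
    haveI : Fact (Nat.Prime 2) := ⟨Nat.prime_two⟩
    obtain ⟨i, hi⟩ := (hT.core.two.to_le (inf_le_left : Dt t R ≤ R)).exists_card_eq
    rw [hi] at h1 h2 hDt8 ⊢
    have hsq : 32 ≤ 2 ^ i * 2 ^ i := h1 ▸ Nat.mul_le_mul_right _ h2
    have hi3 : i = 3 := by
      by_contra hne
      rcases Nat.lt_or_ge i 3 with h4 | h4
      · interval_cases i <;> norm_num at hsq
      · have : 2 ^ 4 ≤ 2 ^ i := Nat.pow_le_pow_right two_pos (by omega)
        omega
    rw [hi3]; norm_num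
  -- the fixed involution
  obtain ⟨f, hfD, hf1⟩ : ∃ f ∈ Dg a R, f ≠ 1 := by
    by_contra hcon
    push Not at hcon
    have h1 : Dg a R = ⊥ := (eq_bot_iff_forall _).2 hcon
    have hT' : TII t (R.map (MulAut.conj (a ^ 2)).toMonoidHom) := by
      have h2 := hT.map (a ^ 2)
      rwa [H.a2_s] at h2
    obtain ⟨φ, -, hk⟩ := hT'.hom
    let ψ : Dt t R →* alternatingGroup (Fin 5) := φ.comp (inclusion inf_le_right)
    have hinj : Function.Injective ψ := by
      rw [injective_iff_map_eq_one]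
      intro x hx
      have h3 : (x : G) ∈ Dg a R := ⟨(mem_Dt.1 x.2).1, (hk _).1 hx⟩
      rw [h1] at h3
      exact Subtype.ext h3
    have h3 := card_subgroup_dvd_card ψ.range
    rw [← Nat.card_congr (MonoidHom.ofInjective hinj).toEquiv, hDt, nat_card_alternatingGroup, Nat.card_fin]
      at h3
    exact absurd h3 (by norm_num [Nat.factorial])
  have hfiv := H.II_D_fixed hT hfD hf1
  have hfc : ∀ x ∈ Dg a R, Commute f x := fun x hx => H.II_D_comm hT hfD hx
  have hsf : IsConj s f := H.conj_s_f hrad hfiv hfc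
  obtain ⟨hfs', hft, hff⟩ := H.iv_comm hfiv
  have hfR : f ∈ R := hfD.1
  have hfns : f ∉ zpowers s := fun h0 => by
    rcases (mem_zpowers_invol H.s_sq).1 h0 with e' | e'
    exacts [hf1 e', H.s_notMemD hrad (e' ▸ hfD)]
  have hfsn : ¬ IsConj s (f * s) := fun h0 => hzs (h0.trans (by rw [← hfs'.eq]; exact H.sf_conj_z hfiv))
  -- the two radicals
  obtain ⟨c, hc⟩ := isConj_iff.1 hsf
  have hc' : cj c s = f := hc
  obtain ⟨Rf, hRf⟩ : ∃ Rf, Rf = R.map (MulAut.conj c).toMonoidHom := ⟨_, rfl⟩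
  have hTf : TII f Rf := by have h1 := hT.map c; rwa [hc', ← hRf] at h1
  have hRfm : ∀ {x : G}, x ∈ Rf ↔ cj c⁻¹ x ∈ R := fun {x} => by rw [hRf, mem_map_cj]
  have hRf32 : Nat.card Rf = 32 := by rw [hRf, card_map_of_injective (MulAut.conj c).injective, hR32]
  have hsqf : ∀ x ∈ Rf, x * x = 1 := fun x hx => cj_injective c⁻¹ (by
    rw [cj_mul, cj_one, hsqR _ (hRfm.1 hx)])
  have habf : ∀ x ∈ Rf, ∀ y ∈ Rf, Commute x y := fun x hx y hy => by
    have h1 := cj_commute c (hab _ (hRfm.1 hx) _ (hRfm.1 hy))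
    rwa [cj_cj_inv, cj_cj_inv] at h1
  obtain ⟨hsRf, htRf⟩ := H.st_mem hfiv hTf.rad
  obtain ⟨T, hTdef⟩ : ∃ T : Subgroup G, T = centralizer ({s} : Set G) ⊓ centralizer ({f} : Set G) := ⟨_, rfl⟩
  have hTmem : ∀ {x : G}, x ∈ T ↔ Commute s x ∧ Commute f x := fun {x} => by
    rw [hTdef, mem_inf, mem_L, mem_L]
  have hRT : R ≤ T := fun x hx => hTmem.2 ⟨hT.core.le x hx, hab f hfR x hx⟩
  have hRfT : Rf ≤ T := fun x hx => hTmem.2 ⟨habf s hsRf x hx, hTf.core.le x hx⟩
  have hT128 : Nat.card T = 128 := by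
    have horb := card_orbit_mul (centralizer ({s} : Set G)) f
    rw [← hTdef, hT.card, hR32] at horb
    have h15 : Nat.card {y : G // ∃ k ∈ centralizer ({s} : Set G), cj k f = y} = 15 := by
      have hKs : ∀ y : G, (∃ k ∈ centralizer ({s} : Set G), cj k f = y) → y ∈ R ∧ IsConj s y ∧ y ∉ zpowers s := by
        rintro y ⟨k, hk, rfl⟩
        refine ⟨hT.core.norm k (mem_L.1 hk) f hfR, hsf.trans (isConj_iff.2 ⟨k, rfl⟩), fun h0 => ?_⟩
        refine hfns ?_
        rcases (mem_zpowers_invol H.s_sq).1 h0 with e' | e'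
        · rw [cj_eq_one.1 e']; exact one_mem _
        · rw [cj_injective k (e'.trans (cj_of_commute (mem_L.1 hk).symm).symm)]; exact mem_zpowers s
      haveI hZn : ((zpowers s).subgroupOf R).Normal := ⟨fun n hn g => by
        have h1 : g * n = n * g := Subtype.ext (hab g g.2 n n.2).eq
        rwa [h1, mul_inv_cancel_right]⟩
      let S : Set G := {y | ∃ k ∈ centralizer ({s} : Set G), cj k f = y}
      let Q := R ⧸ (zpowers s).subgroupOf R
      let F : S → {q : Q // q ≠ 1} := fun y =>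
        ⟨QuotientGroup.mk ⟨y.1, (hKs y.1 y.2).1⟩, fun h0 => (hKs y.1 y.2).2.2 (by
          rw [QuotientGroup.eq_one_iff, mem_subgroupOf] at h0; exact h0)⟩
      have hinj : Function.Injective F := by
        rintro ⟨x, hx⟩ ⟨y, hy⟩ hxy
        have h1 : (QuotientGroup.mk ⟨x, (hKs x hx).1⟩ : Q) = QuotientGroup.mk ⟨y, (hKs y hy).1⟩ :=
          congrArg Subtype.val hxy
        rw [QuotientGroup.eq, mem_subgroupOf] at h1
        simp only [coe_mul, InvMemClass.coe_inv] at h1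
        refine Subtype.ext ?_
        show x = y
        rcases (mem_zpowers_invol H.s_sq).1 h1 with e' | e'
        · exact inv_mul_eq_one.1 e'
        · exfalso
          rw [inv_mul_eq_iff_eq_mul] at e'
          obtain ⟨k, hk, hkx⟩ := hx
          apply hfsn
          have h2 : cj k (f * s) = y := by
            rw [cj_mul, hkx, cj_of_commute (mem_L.1 hk).symm, e']
          exact (hKs y hy).2.1.trans (isConj_iff.2 ⟨k, h2⟩).symm
      have hsurj : Function.Surjective F := by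
        rintro ⟨q, hq⟩
        induction q using QuotientGroup.induction_on with
        | _ r =>
          have hrn : (r : G) ∉ zpowers s := fun h0 => hq (by
            rw [QuotientGroup.eq_one_iff, mem_subgroupOf]; exact h0)
          obtain ⟨g, hg, hgf⟩ := hT.trans H hR32 hfR hfns r.2 hrn
          refine ⟨⟨cj g f, g, mem_L.2 hg, rfl⟩, Subtype.ext ?_⟩
          show (QuotientGroup.mk ⟨cj g f, _⟩ : Q) = (r : Q)
          rw [QuotientGroup.eq, mem_subgroupOf]
          simp only [coe_mul, InvMemClass.coe_inv]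
          rcases hgf with e' | e' <;> rw [e']
          · rw [inv_mul_cancel]; exact one_mem _
          · rw [mul_inv_rev, inv_of_sq H.s_sq, mul_assoc, inv_mul_cancel, mul_one]; exact mem_zpowers s
      rw [show Nat.card {y : G // ∃ k ∈ centralizer ({s} : Set G), cj k f = y} = Nat.card {q : Q // q ≠ 1} from
        Nat.card_congr (Equiv.ofBijective F ⟨hinj, hsurj⟩)]
      have hQ : Nat.card Q = 16 := by
        have e1 := card_eq_card_quotient_mul_card_subgroup ((zpowers s).subgroupOf R)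
        rw [hR32, Nat.card_congr (subgroupOfEquivOfLe (zpowers_le.2 hT.core.mem)).toEquiv, Nat.card_zpowers,
          orderOf_eq_prime (hp := ⟨Nat.prime_two⟩) (by rw [sq, H.s_sq]) H.s_ne] at e1
        show Nat.card (R ⧸ (zpowers s).subgroupOf R) = 16
        omega
      letI := Fintype.ofFinite Q
      rw [Nat.card_eq_fintype_card] at hQ
      rw [Nat.card_eq_fintype_card, Fintype.card_subtype_compl, Fintype.card_subtype_eq, hQ]
    rw [h15] at horb
    omega
  -- the intersection of the radicals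
  obtain ⟨φ, hφs, hk⟩ := hT.hom
  have hTL : T ≤ centralizer ({s} : Set G) := fun x hx => mem_L.2 (hTmem.1 hx).1
  let ψ : T →* alternatingGroup (Fin 5) := φ.comp (inclusion hTL)
  let χ : Rf →* alternatingGroup (Fin 5) := ψ.comp (inclusion hRfT)
  have hψker : ψ.ker = R.subgroupOf T := by
    ext x
    rw [MonoidHom.mem_ker, mem_subgroupOf]
    exact hk _
  have hχker : χ.ker = (R ⊓ Rf).subgroupOf Rf := by
    ext x
    rw [MonoidHom.mem_ker, mem_subgroupOf, mem_inf]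
    exact ⟨fun h0 => ⟨(hk _).1 h0, x.2⟩, fun h0 => (hk _).2 h0.1⟩
  have hψr : Nat.card ψ.range = 4 := by
    have h1 := card_eq_card_quotient_mul_card_subgroup ψ.ker
    rw [Nat.card_congr (QuotientGroup.quotientKerEquivRange ψ).toEquiv, hψker, hT128,
      Nat.card_congr (subgroupOfEquivOfLe hRT).toEquiv, hR32] at h1
    omega
  have hχle : χ.range ≤ ψ.range := by
    rintro _ ⟨x, rfl⟩
    exact ⟨inclusion hRfT x, rfl⟩
  have hI : R ⊓ Rf ≤ Dt t R := fun x hx => mem_Dt.2 ⟨hx.1, habf t htRf x hx.2⟩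
  have hIc : Nat.card χ.range = 4 ∧ R ⊓ Rf = Dt t R := by
    have h1 := card_eq_card_quotient_mul_card_subgroup χ.ker
    rw [Nat.card_congr (QuotientGroup.quotientKerEquivRange χ).toEquiv, hχker, hRf32,
      Nat.card_congr (subgroupOfEquivOfLe (inf_le_right : R ⊓ Rf ≤ Rf)).toEquiv] at h1
    have h2 := card_le_of_le hI
    have h3 := card_le_of_le hχle
    rw [hDt] at h2
    rw [hψr] at h3
    have h4 := Nat.mul_le_mul h3 h2
    refine ⟨?_, eq_of_le_of_card_ge hI ?_⟩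
    · by_contra h5
      have := Nat.mul_le_mul (show Nat.card χ.range ≤ 3 by omega) h2
      omega
    · rw [hDt]
      by_contra h5
      have := Nat.mul_le_mul h3 (show Nat.card (R ⊓ Rf : Subgroup G) ≤ 7 by omega)
      omega
  obtain ⟨hχ4, hI8⟩ := hIc
  have hχeq : χ.range = ψ.range := eq_of_le_of_card_ge hχle (by omega)
  -- the involutions of T
  have hcover : ∀ x ∈ T, x * x = 1 → x ∈ R ∨ x ∈ Rf := by
    intro x hx hxx
    have h0 : ψ ⟨x, hx⟩ ∈ χ.range := hχeq.symm ▸ ⟨⟨x, hx⟩, rfl⟩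
    obtain ⟨q, hq⟩ := h0
    have hr : x * (q : G)⁻¹ ∈ R := by
      have h1 : ψ (⟨x, hx⟩ * (inclusion hRfT q)⁻¹) = 1 := by
        rw [map_mul, map_inv, show ψ (inclusion hRfT q) = χ q from rfl, hq, mul_inv_cancel]
      exact (hk _).1 h1
    by_cases hqR : (q : G) ∈ R
    · left
      have h1 := mul_mem hr hqR
      rwa [inv_mul_cancel_right] at h1
    obtain ⟨r, hrdef⟩ : ∃ r, r = x * (q : G)⁻¹ := ⟨_, rfl⟩
    have hxr : x = r * q := by rw [hrdef, inv_mul_cancel_right]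
    rw [← hrdef] at hr
    have hqq := hsqf q q.2
    have hcomm : Commute r (q : G) := by
      have h1 := inv_of_sq hxx
      rw [hxr, mul_inv_rev, inv_of_sq (hsqR r hr), inv_of_sq hqq] at h1
      exact h1.symm
    have hqs : Commute s (q : G) := (hTmem.1 (hRfT q.2)).1
    obtain ⟨Q, hQ⟩ : ∃ Q : centralizer ({s} : Set G), (Q : G) = q := ⟨⟨q, mem_L.2 hqs⟩, rfl⟩
    obtain ⟨T', hT'⟩ : ∃ T' : centralizer ({s} : Set G), (T' : G) = t := ⟨⟨t, mem_L.2 hts.symm⟩, rfl⟩
    obtain ⟨gb, hgb⟩ := a5_conj (φ T')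
      (by rw [← map_mul, hk, coe_mul, hT', H.tt]; exact one_mem R)
      (fun h0 => H.t_notMem hrad (hT' ▸ (hk T').1 h0)) (φ Q)
      (by rw [← map_mul, hk, coe_mul, hQ, hqq]; exact one_mem R) (fun h0 => hqR (hQ ▸ (hk Q).1 h0))
    obtain ⟨g, rfl⟩ := hφs gb
    have hr0' : cj (g : G) t⁻¹ * (q : G) ∈ R := by
      have h1 : φ ((g * T' * g⁻¹)⁻¹ * Q) = 1 := by
        rw [map_mul, map_inv, map_mul, map_mul, map_inv, hgb, inv_mul_cancel]
      have h2 := (hk _).1 h1
      rw [cj_inv]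
      simpa [cj, hQ, hT'] using h2
    have hmemB : ∀ y ∈ R ⊓ centralizer ({(q : G)} : Set G), cj (g : G)⁻¹ y ∈ Dt t R := by
      intro y hy
      refine mem_Dt.2 ⟨hT.core.norm _ (mem_L.1 g.2).inv_right y hy.1, ?_⟩
      have h1 : Commute y (cj (g : G) t⁻¹ * q * (q : G)⁻¹) :=
        (hab y hy.1 _ hr0').mul_right (mem_L.1 hy.2).symm.inv_right
      rw [mul_inv_cancel_right, cj_inv] at h1
      have h2 := cj_commute (g : G)⁻¹ h1.inv_right
      rw [inv_inv, cj_inv_cj] at h2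
      exact h2.symm
    have hB : Nat.card (R ⊓ centralizer ({(q : G)} : Set G) : Subgroup G) ≤ 8 := by
      rw [← hDt]
      exact Nat.card_le_card_of_injective (fun y => (⟨_, hmemB y.1 y.2⟩ : Dt t R))
        fun u w huw => Subtype.ext (cj_injective _ (congrArg Subtype.val huw))
    have hBeq : R ⊓ Rf = R ⊓ centralizer ({(q : G)} : Set G) :=
      eq_of_le_of_card_ge (fun y hy => ⟨hy.1, mem_L.2 (habf q q.2 y hy.2)⟩) (by rw [hI8, hDt]; exact hB)
    right
    have h3 : r ∈ R ⊓ Rf := hBeq ▸ ⟨hr, mem_L.2 hcomm.symm⟩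
    rw [hxr]
    exact mul_mem h3.2 q.2
  have hneR : Rf ≠ R := fun h0 => H.t_notMem hrad (h0 ▸ htRf)
  -- an elementary subgroup of T of order thirty-two is one of the radicals
  have helem : ∀ S : Subgroup G, S ≤ T → (∀ x ∈ S, x * x = 1) → Nat.card S = 32 → S = R ∨ S = Rf := by
    intro S hS hS2 hSc
    by_cases h1 : S ≤ R
    · exact Or.inl (eq_of_le_of_card_ge h1 (by omega))
    by_cases h2 : S ≤ Rf
    · exact Or.inr (eq_of_le_of_card_ge h2 (by omega))
    exfalso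
    obtain ⟨x, hx, hxR⟩ := SetLike.not_le_iff_exists.1 h1
    obtain ⟨y, hy, hyR⟩ := SetLike.not_le_iff_exists.1 h2
    have hxf := (hcover x (hS hx) (hS2 x hx)).resolve_left hxR
    have hyr := (hcover y (hS hy) (hS2 y hy)).resolve_right hyR
    rcases hcover _ (hS (mul_mem hx hy)) (hS2 _ (mul_mem hx hy)) with h3 | h3
    · have := mul_mem h3 (inv_mem hyr)
      rw [mul_inv_cancel_right] at this
      exact hxR this
    · have := mul_mem (inv_mem hxf) h3
      rw [inv_mul_cancel_left] at this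
      exact hyR this
  obtain ⟨e0, he0, he01, hse0, he0T⟩ := hT.mover hR32 (fun x hx => (hTmem.1 hx).1) hRT hT128
  obtain ⟨e1, he1, he11, hfe1, he1T⟩ := hTf.mover hRf32 (fun x hx => (hTmem.1 hx).2) hRfT hT128
  -- the images of the radicals
  have hmap : ∀ (g : G) (S : Subgroup G), (∀ x ∈ S, x * x = 1) → S ≤ T → Nat.card S = 32 →
      (∀ x ∈ T, cj g x ∈ T) → S.map (MulAut.conj g).toMonoidHom = R ∨ S.map (MulAut.conj g).toMonoidHom = Rf := by
    intro g S hS2 hST hSc hgT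
    refine helem _ ?_ ?_ ?_
    · rintro _ ⟨x, hx, rfl⟩; exact hgT x (hST hx)
    · rintro _ ⟨x, hx, rfl⟩
      show cj g x * cj g x = 1
      rw [← cj_mul, hS2 x hx, cj_one]
    · rw [card_map_of_injective (MulAut.conj g).injective, hSc]
  have he0Rf : ∀ x ∈ Rf, cj e0 x ∈ Rf := by
    intro x hx
    rcases hmap e0 Rf hsqf hRfT hRf32 he0T with h1 | h1
    · exfalso
      refine hneR (eq_of_le_of_card_ge (fun y hy => ?_) (by omega))
      have h2 : cj e0 y ∈ R := h1 ▸ ⟨y, hy, rfl⟩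
      have h3 := hT.core.norm e0⁻¹ hse0.inv_right _ h2
      rwa [cj_inv_cj] at h3
    · exact h1 ▸ ⟨x, hx, rfl⟩
  have he1R : ∀ x ∈ R, cj e1 x ∈ R := by
    intro x hx
    rcases hmap e1 R hsqR hRT hR32 he1T with h1 | h1
    · exact h1 ▸ ⟨x, hx, rfl⟩
    · exfalso
      refine hneR (eq_of_le_of_card_ge (fun y hy => ?_) (by omega)).symm
      have h2 : cj e1 y ∈ Rf := h1 ▸ ⟨y, hy, rfl⟩
      have h3 := hTf.core.norm e1⁻¹ hfe1.inv_right _ h2
      rwa [cj_inv_cj] at h3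
  -- the eight elements of the intersection
  obtain ⟨f', hf'⟩ : ∃ f', f' = cj e0 f := ⟨_, rfl⟩
  obtain ⟨f'', hf''⟩ : ∃ f'', f'' = cj e0 f' := ⟨_, rfl⟩
  have hfI : f ∈ R ⊓ Rf := ⟨hfR, hTf.core.mem⟩
  have hI0 : ∀ x ∈ R ⊓ Rf, cj e0 x ∈ R ⊓ Rf := fun x hx => ⟨hT.core.norm e0 hse0 x hx.1, he0Rf x hx.2⟩
  have hf'I : f' ∈ R ⊓ Rf := hf' ▸ hI0 f hfI
  have hf''I : f'' ∈ R ⊓ Rf := hf'' ▸ hI0 f' hf'I
  have hsI : s ∈ R ⊓ Rf := ⟨hT.core.mem, hsRf⟩
  have he0s : cj e0 s = s := cj_of_commute hse0.symm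
  have conjf : IsConj s f' ∧ IsConj s f'' := by
    have h1 : IsConj s f' := hsf.trans (isConj_iff.2 ⟨e0, hf'.symm⟩)
    exact ⟨h1, h1.trans (isConj_iff.2 ⟨e0, hf''.symm⟩)⟩
  have hne01 : f' ≠ f ∧ f' ≠ f * s := by
    constructor <;> intro h0 <;> rw [hf'] at h0
    · exact hfns ((mem_zpowers_invol H.s_sq).2 (H.fixR hT.core he0 he01 hse0 hfR (Or.inl h0)))
    · exact hfns ((mem_zpowers_invol H.s_sq).2 (H.fixR hT.core he0 he01 hse0 hfR (Or.inr h0)))
  have hcube : cj e0 f'' = f := by rw [hf'', hf', cj_e_cube he0]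
  have hne12 : f'' ≠ f' ∧ f'' ≠ f' * s := by
    constructor <;> intro h0
    · exact hne01.1 (cj_injective e0 (by rw [← hf'', h0, ← hf']))
    · refine hne01.2 (cj_injective e0 ?_)
      rw [cj_mul, he0s, ← hf'', ← hf', h0]
  have hne02 : f'' ≠ f ∧ f'' ≠ f * s := by
    constructor <;> intro h0
    · apply hne01.1
      rw [hf']
      conv_rhs => rw [← hcube, h0]
    · apply hne01.2
      have h1 : cj e0 f'' = f' * s := by rw [h0, cj_mul, he0s, hf']
      rw [hcube] at h1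
      rw [h1, mul_assoc, H.s_sq, mul_one]
  let L8 : Fin 8 → G := ![1, s, f, f * s, f', f' * s, f'', f'' * s]
  have hL8 : ∀ x ∈ R ⊓ Rf, ∃ i, L8 i = x := by
    have hm : ∀ i, L8 i ∈ R ⊓ Rf := fun i => by
      fin_cases i
      exacts [one_mem _, hsI, hfI, mul_mem hfI hsI, hf'I, mul_mem hf'I hsI, hf''I, mul_mem hf''I hsI]
    let F : Fin 8 → (R ⊓ Rf : Subgroup G) := fun i => ⟨L8 i, hm i⟩
    have hinj : Function.Injective F := by
      intro i j hij
      have h0 : L8 i = L8 j := congrArg Subtype.val hij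
      have key : ∀ {x y : G}, x * s = y → x = y * s := fun h => by rw [← h, mul_assoc, H.s_sq, mul_one]
      have n1 : ∀ {x : G}, IsConj s x → x ≠ 1 ∧ x * s ≠ 1 → True := fun _ _ => trivial
      have a1 : f ≠ 1 := hf1
      have a2 : f ≠ s := fun h => hfns (h ▸ mem_zpowers s)
      have b1 : f' ≠ 1 := H.not_s_one conjf.1
      have c1 : f'' ≠ 1 := H.not_s_one conjf.2
      have b2 : f' ≠ s := fun h => a2 (cj_injective e0 (by rw [← hf', h, he0s]))
      have c2 : f'' ≠ s := fun h => b2 (cj_injective e0 (by rw [← hf'', h, he0s]))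
      have ms : ∀ {x : G}, x ≠ s → x * s ≠ 1 := fun hx h => hx (by
        rw [eq_inv_of_mul_eq_one_left h, inv_of_sq H.s_sq])
      have mt : ∀ {x : G}, x ≠ 1 → x * s ≠ s := fun hx h => hx (mul_eq_right.1 h)
      have mm : ∀ {x y : G}, x ≠ y * s → x * s ≠ y := fun hx h => hx (key h)
      obtain ⟨d1, d1'⟩ := hne01
      obtain ⟨d2, d2'⟩ := hne12
      obtain ⟨d3, d3'⟩ := hne02
      have ee : ∀ {x : G}, x ≠ x * s := fun h => H.s_ne (left_eq_mul.1 h)
      have g1 : f ≠ f' * s := fun h => d1' (key h.symm)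
      have g2 : f' ≠ f'' * s := fun h => d2' (key h.symm)
      have g3 : f ≠ f'' * s := fun h => d3' (key h.symm)
      fin_cases i <;> fin_cases j <;> simp [L8] at h0 ⊢ <;>
        first
        | exact H.s_ne h0 | exact H.s_ne h0.symm
        | exact a1 h0 | exact a1 h0.symm | exact b1 h0 | exact b1 h0.symm | exact c1 h0 | exact c1 h0.symm
        | exact a2 h0 | exact a2 h0.symm | exact b2 h0 | exact b2 h0.symm | exact c2 h0 | exact c2 h0.symm
        | exact ms a2 h0 | exact ms a2 h0.symm | exact ms b2 h0 | exact ms b2 h0.symm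
        | exact ms c2 h0 | exact ms c2 h0.symm | exact mt a1 h0 | exact mt a1 h0.symm
        | exact mt b1 h0 | exact mt b1 h0.symm | exact mt c1 h0 | exact mt c1 h0.symm
        | exact d1 h0 | exact d1 h0.symm | exact d2 h0 | exact d2 h0.symm | exact d3 h0 | exact d3 h0.symm
        | exact d1' h0 | exact d1' h0.symm | exact d2' h0 | exact d2' h0.symm
        | exact d3' h0 | exact d3' h0.symm
        | exact g1 h0 | exact g1 h0.symm | exact g2 h0 | exact g2 h0.symm | exact g3 h0 | exact g3 h0.symm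
        | exact ee h0 | exact ee h0.symm
    intro x hx
    obtain ⟨i, hi⟩ := (hinj.bijective_of_nat_card_le (by rw [hI8, hDt, Nat.card_fin])).2 ⟨x, hx⟩
    exact ⟨i, congrArg Subtype.val hi⟩
  -- the contradiction
  obtain ⟨x, hx⟩ : ∃ x, x = cj e1 s := ⟨_, rfl⟩
  have hxI : x ∈ R ⊓ Rf := hx ▸ ⟨he1R s hT.core.mem, hTf.core.norm e1 hfe1 s hsRf⟩
  have hxc : IsConj s x := isConj_iff.2 ⟨e1, hx.symm⟩
  have hxs : x ≠ s := fun h0 => by
    rcases H.fixR hTf.core he1 he11 hfe1 hsRf (Or.inl (hx.symm.trans h0)) with e' | e'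
    · exact H.s_ne e'
    · exact hfns (e' ▸ mem_zpowers s)
  have hxf : x ≠ f := fun h0 => hfns (by
    rw [show f = s from cj_injective e1 (by rw [cj_of_commute hfe1.symm, ← hx, h0])]
    exact mem_zpowers s)
  obtain ⟨g, hg0, hgx⟩ : ∃ g : G, (Commute s g ∧ ∀ y ∈ Rf, cj g y ∈ Rf) ∧ cj g f = x := by
    have e00 : Commute s (e0 * e0) ∧ ∀ y ∈ Rf, cj (e0 * e0) y ∈ Rf :=
      ⟨hse0.mul_right hse0, fun y hy => by rw [← cj_cj]; exact he0Rf _ (he0Rf y hy)⟩
    obtain ⟨i, hi⟩ := hL8 x hxI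
    have nconj : ∀ {w : G}, IsConj s w → w ∈ R → (∃ g, Commute s g ∧ cj g f = w) → x ≠ w * s := by
      rintro w - - ⟨g, hg, rfl⟩ h0
      refine hfsn (hxc.trans (isConj_iff.2 ⟨g, ?_⟩).symm)
      show cj g (f * s) = x
      rw [cj_mul, cj_of_commute hg.symm, h0]
    fin_cases i <;> simp [L8] at hi
    · exact absurd hi.symm (H.not_s_one hxc)
    · exact absurd hi.symm hxs
    · exact absurd hi.symm hxf
    · exact absurd hi.symm (nconj hsf hfR ⟨1, Commute.one_right s, cj_one' f⟩)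
    · exact ⟨e0, ⟨hse0, he0Rf⟩, hf'.symm.trans hi⟩
    · exact absurd hi.symm (nconj conjf.1 hf'I.1 ⟨e0, hse0, hf'.symm⟩)
    · exact ⟨e0 * e0, e00, by rw [← cj_cj, ← hf', ← hf'', hi]⟩
    · exact absurd hi.symm (nconj conjf.2 hf''I.1 ⟨e0 * e0, hse0.mul_right hse0, by rw [← cj_cj, ← hf', ← hf'']⟩)
  -- the element fixing s
  obtain ⟨l, hl⟩ : ∃ l, l = e1⁻¹ * (g * c) := ⟨_, rfl⟩
  have hls : Commute s l := (commute_of_cj (by
    rw [hl, ← cj_cj, ← cj_cj, hc', hgx, hx, cj_inv_cj])).symm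
  refine hneR (eq_of_le_of_card_ge (fun y hy => ?_) (by omega)).symm
  -- every element of R lies in Rf
  have h1 : cj (l)⁻¹ (cj e1⁻¹ y) ∈ R := by
    refine hT.core.norm _ hls.inv_right _ ?_
    have hback : ∀ y ∈ R, cj e1⁻¹ y ∈ R := fun y hy => by
      rw [show e1⁻¹ = e1 * e1 from inv_eq_of_mul_eq_one_right (by rw [← pow_three]; exact he1), ← cj_cj]
      exact he1R _ (he1R y hy)
    exact hback y hy
  have h2 : cj g (cj c (cj l⁻¹ (cj e1⁻¹ y))) = y := by
    simp only [cj_cj]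
    rw [hl, show g * (c * ((e1⁻¹ * (g * c))⁻¹ * e1⁻¹)) = 1 by group, cj_one']
  rw [← h2]
  exact hg0.2 _ (hRfm.2 (by rw [cj_inv_cj]; exact h1))

end Cfg

end Cfsg.Agent.M11ThreeLocal
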