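import Cfsg.Agent.M11ThreeLocal.TwoBase

/-!
# The second shape with the smallest radical
-/

set_option autoImplicit false
set_option linter.unusedSectionVars false

namespace Cfsg.Agent.M11ThreeLocal

open Subgroup

variable {G : Type*} [Group G] [Finite G] {M : Subgroup G} {e h s t z a : G} {R : Subgroup G}

namespace Cfg

variable (H : Cfg M e h s t z a)

include H

theorem pow_mul_s (i j : ℕ) : a ^ i * s * a ^ j = a ^ (i + 3 * j) * s := by
  rw [mul_assoc, H.s_pow, ← mul_assoc, ← pow_add]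

/-- The semidihedral group generated by `a` and `s`. -/
def Qgrp : Subgroup G where
  carrier := {x | ∃ i : Fin 8, x = a ^ (i : ℕ) ∨ x = a ^ (i : ℕ) * s}
  one_mem' := ⟨0, Or.inl (by simp)⟩
  mul_mem' := by
    have red : ∀ k : ℕ, ∃ i : Fin 8, a ^ k = a ^ (i : ℕ) := fun k =>
      ⟨⟨k % 8, Nat.mod_lt _ (by norm_num)⟩, pow_eq_pow_mod k H.a8⟩
    rintro x y ⟨i, rfl | rfl⟩ ⟨j, rfl | rfl⟩
    · obtain ⟨k, hk⟩ := red (i + j); exact ⟨k, Or.inl (by rw [← pow_add, hk])⟩
    · obtain ⟨k, hk⟩ := red (i + j); exact ⟨k, Or.inr (by rw [← mul_assoc, ← pow_add, hk])⟩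
    · obtain ⟨k, hk⟩ := red (i + 3 * j); exact ⟨k, Or.inr (by rw [H.pow_mul_s, hk])⟩
    · obtain ⟨k, hk⟩ := red (i + 3 * j)
      exact ⟨k, Or.inl (by rw [← mul_assoc, H.pow_mul_s, mul_assoc, H.s_sq, mul_one, hk])⟩
  inv_mem' := by
    rintro x ⟨i, rfl | rfl⟩
    · refine ⟨⟨(8 - (i : ℕ)) % 8, Nat.mod_lt _ (by norm_num)⟩, Or.inl (inv_eq_of_mul_eq_one_right ?_)⟩
      rw [← pow_eq_pow_mod _ H.a8, ← pow_add, show (i : ℕ) + (8 - i) = 8 by omega, H.a8]
    · refine ⟨⟨(5 * (i : ℕ)) % 8, Nat.mod_lt _ (by norm_num)⟩, Or.inr (inv_eq_of_mul_eq_one_right ?_)⟩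
      rw [← pow_eq_pow_mod _ H.a8, ← mul_assoc, H.pow_mul_s, mul_assoc, H.s_sq, mul_one,
        show (i : ℕ) + 3 * (5 * i) = 8 * (2 * i) by omega, pow_mul, H.a8, one_pow]

theorem mem_Qgrp {x : G} : x ∈ H.Qgrp ↔ ∃ i : Fin 8, x = a ^ (i : ℕ) ∨ x = a ^ (i : ℕ) * s := Iff.rfl

theorem pow_inj {i j : Fin 8} (hij : a ^ (i : ℕ) = a ^ (j : ℕ)) : i = j :=
  Fin.ext (pow_injOn_Iio_orderOf (Set.mem_Iio.2 (by rw [H.a_ord]; exact i.2))
    (Set.mem_Iio.2 (by rw [H.a_ord]; exact j.2)) hij)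

theorem s_ne_pow (i : ℕ) : s ≠ a ^ i := fun h0 => by
  have h2 : 8 ∣ 2 * i := H.pow_eq_one_iff'.1 (by rw [mul_comm, pow_mul, ← h0, sq, H.s_sq])
  rcases (show i % 8 = 0 ∨ i % 8 = 4 by omega) with e' | e' <;> rw [pow_eq_pow_mod i H.a8, e'] at h0
  · rw [pow_zero] at h0; exact H.s_ne h0
  · rw [← H.z_eq] at h0; exact H.s_ne_z h0

theorem card_Qgrp : Nat.card H.Qgrp = 16 := by
  let F : Fin 8 × Bool → H.Qgrp := fun p =>
    ⟨a ^ (p.1 : ℕ) * if p.2 then s else 1, ⟨p.1, by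
      rcases p.2 <;> simp⟩⟩
  have hF : Function.Bijective F := by
    constructor
    · rintro ⟨i, b⟩ ⟨j, c⟩ hij
      have h1 := congrArg Subtype.val hij
      simp only [F] at h1
      have key : ∀ i j : Fin 8, a ^ (i : ℕ) ≠ a ^ (j : ℕ) * s := fun i j h2 =>
        H.s_ne_pow ((8 - (j : ℕ)) + i) (by
          rw [pow_add, h2, ← mul_assoc, ← pow_add, show 8 - (j : ℕ) + j = 8 by omega, H.a8, one_mul])
      rcases b <;> rcases c <;> simp only [Bool.false_eq_true, if_false, if_true, mul_one] at h1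
      · rw [H.pow_inj h1]
      · exact absurd h1 (key i j)
      · exact absurd h1.symm (key j i)
      · rw [H.pow_inj (mul_right_cancel h1)]
    · rintro ⟨x, i, rfl | rfl⟩
      · exact ⟨(i, false), Subtype.ext (by simp [F])⟩
      · exact ⟨(i, true), Subtype.ext (by simp [F])⟩
  rw [← Nat.card_congr (Equiv.ofBijective F hF)]
  simp

/-- The case of a radical of order two does not occur. -/
theorem not_II_zero [IsSimpleGroup G] (hG : ¬ IsMulCommutative G) (hT : TII s R) (hR2 : Nat.card R = 2) :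
    False := by
  classical
  haveI : Fact (Nat.Prime 2) := ⟨Nat.prime_two⟩
  have hRs : ∀ r ∈ R, r = 1 ∨ r = s := by
    have h1 : zpowers s = R := eq_of_le_of_card_ge (zpowers_le.2 hT.core.mem) (by
      rw [hR2, Nat.card_zpowers, orderOf_eq_prime (by rw [sq, H.s_sq]) H.s_ne])
    intro r hr
    rw [← h1] at hr
    exact (mem_zpowers_invol H.s_sq).1 hr
  have hzs : ¬ IsConj s z := fun hsz => by
    obtain ⟨r, hr, hrr⟩ := H.root_sq hT.rad hsz
    rcases hRs r hr with rfl | rfl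
    · exact H.s_ne ((one_mul 1).symm.trans hrr).symm
    · exact H.s_ne (hrr.symm.trans H.s_sq)
  have hL : Nat.card (centralizer ({s} : Set G)) = 120 := by rw [hT.card, hR2]
  obtain ⟨φ, hφs, hk⟩ := hT.hom
  have hinv : ∀ x : G, Commute s x → Two x → x * x = 1 := by
    intro x hx h2
    rcases hRs _ (hT.sq2 hx h2) with e' | e'
    · exact e'
    exfalso
    obtain ⟨X, hX⟩ : ∃ X : centralizer ({s} : Set G), (X : G) = x := ⟨⟨x, mem_L.2 hx⟩, rfl⟩
    obtain ⟨T, hTe⟩ : ∃ T : centralizer ({s} : Set G), (T : G) = t := ⟨⟨t, mem_L.2 H.ts_comm.symm⟩, rfl⟩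
    have hX1 : φ X ≠ 1 := fun h0 => by
      rcases hRs x (hX ▸ (hk X).1 h0) with rfl | rfl
      · exact H.s_ne ((one_mul 1).symm.trans e').symm
      · exact H.s_ne (e'.symm.trans H.s_sq)
    have hX2 : φ X * φ X = 1 := by
      rw [← map_mul, hk, coe_mul, hX, e']; exact hT.core.mem
    have hT1 : φ T ≠ 1 := fun h0 => H.t_notMem hT.rad (hTe ▸ (hk T).1 h0)
    have hT2 : φ T * φ T = 1 := by rw [← map_mul, hk, coe_mul, hTe, H.tt]; exact one_mem R
    obtain ⟨c, hc⟩ := a5_conj (φ T) hT2 hT1 (φ X) hX2 hX1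
    obtain ⟨g, rfl⟩ := hφs c
    have h1 : φ ((g * T * g⁻¹)⁻¹ * X) = 1 := by
      rw [map_mul, map_inv, map_mul, map_mul, map_inv, hc, inv_mul_cancel]
    have hgs : Commute (g : G) s := (mem_L.1 g.2).symm
    rcases hRs _ ((hk _).1 h1) with e2 | e2 <;>
      simp only [coe_mul, InvMemClass.coe_inv, hX, hTe] at e2
    · rw [inv_mul_eq_one] at e2
      rw [← e2, ← cj, ← cj_mul, H.tt, cj_one] at e'
      exact H.s_ne e'.symm
    · rw [inv_mul_eq_iff_eq_mul, ← cj] at e2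
      have h3 : cj (g : G) t * s = cj (g : G) z := by rw [← H.ts, cj_mul, cj_of_commute hgs]
      rw [e2, h3, ← cj_mul, H.zz, cj_one] at e'
      exact H.s_ne e'.symm
  -- the index of the normalizer
  obtain ⟨f, hf, hfm⟩ := H.fixed_N hG hzs
  rw [hL] at hf
  have hn : (normalizer (M : Set G)).index % 4 = 2 := by omega
  have hGc := H.index_N
  -- a Sylow subgroup
  have hQ2 : IsPGroup 2 H.Qgrp := IsPGroup.of_card (n := 4) (by rw [H.card_Qgrp]; norm_num)
  obtain ⟨T, hQT⟩ := hQ2.exists_le_sylow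
  have hT32 : Nat.card (T : Subgroup G) = 32 := by
    obtain ⟨i, hi⟩ := T.2.exists_card_eq
    have h1 := (T : Subgroup G).card_mul_index
    have hodd := T.not_dvd_index
    obtain ⟨m, hm⟩ : ∃ m, (normalizer (M : Set G)).index = 2 * (2 * m + 1) :=
      ⟨(normalizer (M : Set G)).index / 4, by omega⟩
    have h3 : 32 ∣ Nat.card (T : Subgroup G) := by
      refine Nat.Coprime.dvd_of_dvd_mul_right ?_ (k := 32) (n := (T : Subgroup G).index) ⟨9 * (2 * m + 1), by
        rw [h1, ← hGc, hm]; ring⟩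
      exact Nat.Coprime.pow_left 5 (Nat.prime_two.coprime_iff_not_dvd.2 hodd)
    have h4 : Nat.card (T : Subgroup G) ∣ 32 := by
      refine Nat.Coprime.dvd_of_dvd_mul_right (n := 9 * (2 * m + 1)) ?_
        ⟨(T : Subgroup G).index, by rw [h1, ← hGc, hm]; ring⟩
      rw [hi]
      refine Nat.Coprime.pow_left i ?_
      rw [Nat.prime_two.coprime_iff_not_dvd]
      omega
    exact Nat.dvd_antisymm h4 h3
  have hnorm : ∀ x ∈ (T : Subgroup G), ∀ q ∈ H.Qgrp, cj x q ∈ H.Qgrp := by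
    have hidx : (H.Qgrp.subgroupOf (T : Subgroup G)).index = 2 := by
      have h1 := (H.Qgrp.subgroupOf (T : Subgroup G)).card_mul_index
      rw [Nat.card_congr (subgroupOfEquivOfLe hQT).toEquiv, H.card_Qgrp, hT32] at h1
      omega
    have hN := normal_of_index_eq_two hidx
    intro x hx q hq
    exact mem_subgroupOf.1 (hN.conj_mem ⟨q, hQT hq⟩ (mem_subgroupOf.2 hq) ⟨x, hx⟩)
  -- the orbit of s
  have hsQ : s ∈ H.Qgrp := ⟨0, Or.inr (by simp)⟩
  have horb : Nat.card {y : G // ∃ k ∈ (T : Subgroup G), cj k s = y} ≤ 4 := by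
    have hmem : ∀ y : {y : G // ∃ k ∈ (T : Subgroup G), cj k s = y}, ∃ j : Fin 4, y.1 = a ^ (2 * (j : ℕ)) * s := by
      rintro ⟨y, k, hk', rfl⟩
      have hconj : IsConj s (cj k s) := isConj_iff.2 ⟨k, rfl⟩
      obtain ⟨i, hi | hi⟩ := hnorm k hk' s hsQ
      · exfalso
        have h1 := H.sq_of_conj hconj
        rw [hi, ← pow_add] at h1
        have h2 := H.pow_eq_one_iff'.1 h1
        rcases (show (i : ℕ) = 0 ∨ (i : ℕ) = 4 by omega) with h3 | h3 <;> rw [h3] at hi
        · exact H.not_s_one hconj (hi.trans (pow_zero a))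
        · rw [← H.z_eq] at hi; exact hzs (hi ▸ hconj)
      · have h1 := H.sq_of_conj hconj
        rw [hi, ← mul_assoc, H.pow_mul_s, mul_assoc, H.s_sq, mul_one] at h1
        have h2 := H.pow_eq_one_iff'.1 h1
        refine ⟨⟨(i : ℕ) / 2, by omega⟩, ?_⟩
        show cj k s = _
        rw [hi]
        congr 2
        show (i : ℕ) = 2 * ((i : ℕ) / 2)
        omega
    choose j hj using hmem
    calc _ ≤ Nat.card (Fin 4) := Nat.card_le_card_of_injective j fun x y hxy => Subtype.ext (by rw [hj, hj, hxy])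
      _ = 4 := Nat.card_fin 4
  obtain ⟨x, hxT, hxs, hxQ⟩ : ∃ x ∈ (T : Subgroup G), Commute s x ∧ x ∉ H.Qgrp := by
    by_contra hcon
    push Not at hcon
    have h1 := card_orbit_mul (T : Subgroup G) s
    rw [hT32] at h1
    have h8 : 8 ≤ Nat.card ((T : Subgroup G) ⊓ centralizer ({s} : Set G) : Subgroup G) := by
      by_contra h8
      have := Nat.mul_le_mul horb (show Nat.card ((T : Subgroup G) ⊓ centralizer ({s} : Set G) : Subgroup G) ≤ 7 by omega)
      omega
    have hrep : ∀ y : ((T : Subgroup G) ⊓ centralizer ({s} : Set G) : Subgroup G),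
        ∃ p : Bool × Bool, (y : G) = a ^ (if p.1 then 4 else 0) * (if p.2 then s else 1) := by
      rintro ⟨y, hy⟩
      have hys : Commute s y := mem_L.1 hy.2
      have key : ∀ i : Fin 8, Commute s (a ^ (i : ℕ)) → (i : ℕ) = 0 ∨ (i : ℕ) = 4 := fun i hc => by
        have h2 : a ^ (3 * (i : ℕ)) = a ^ (i : ℕ) := mul_right_cancel ((H.s_pow i).symm.trans hc.eq)
        have h3 : a ^ (2 * (i : ℕ)) = 1 := by
          have h4 : a ^ (2 * (i : ℕ)) * a ^ (i : ℕ) = 1 * a ^ (i : ℕ) := by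
            rw [← pow_add, one_mul, show 2 * (i : ℕ) + i = 3 * i by omega, h2]
          exact mul_right_cancel h4
        have := H.pow_eq_one_iff'.1 h3
        omega
      obtain ⟨i, rfl | rfl⟩ := hcon y hy.1 hys
      · rcases key i hys with e' | e'
        · exact ⟨(false, false), by simp [e']⟩
        · exact ⟨(true, false), by simp [e']⟩
      · have hys' : Commute s (a ^ (i : ℕ)) := by
          have h5 := hys.mul_right (Commute.refl s)
          rwa [mul_assoc, H.s_sq, mul_one] at h5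
        rcases key i hys' with e' | e'
        · exact ⟨(false, true), by simp [e']⟩
        · exact ⟨(true, true), by simp [e']⟩
    choose p hp using hrep
    have h9 := Nat.card_le_card_of_injective p fun x y hxy => Subtype.ext (by rw [hp, hp, hxy])
    rw [Nat.card_prod, Nat.card_eq_fintype_card (α := Bool), Fintype.card_bool] at h9
    omega
  -- normalise x
  obtain ⟨x, hxT, hxs, hxQ, c, hxa, hc⟩ : ∃ x ∈ (T : Subgroup G), Commute s x ∧ x ∉ H.Qgrp ∧
      ∃ c : ℕ, cj x a = a ^ c ∧ (c = 1 ∨ c = 5) := by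
    have haQ : a ∈ H.Qgrp := ⟨1, Or.inl (by simp)⟩
    have h8 : orderOf (cj x a) = 8 :=
      ((orderOf_injective (MulAut.conj x).toMonoidHom (MulAut.conj x).injective a)).trans H.a_ord
    obtain ⟨i, hi | hi⟩ := hnorm x hxT a haQ
    · have hodd : (i : ℕ) % 2 = 1 := by
        by_contra h0
        have h4 : cj x a ^ 4 = 1 := by
          rw [hi, ← pow_mul, show (i : ℕ) * 4 = 8 * ((i : ℕ) / 2) by omega, pow_mul, H.a8, one_pow]
        have := orderOf_dvd_of_pow_eq_one h4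
        rw [h8] at this
        omega
      rcases (show (i : ℕ) = 1 ∨ (i : ℕ) = 5 ∨ (i : ℕ) = 3 ∨ (i : ℕ) = 7 by omega) with e' | e' | e'
      · exact ⟨x, hxT, hxs, hxQ, i, hi, Or.inl e'⟩
      · exact ⟨x, hxT, hxs, hxQ, i, hi, Or.inr e'⟩
      · refine ⟨x * s, mul_mem hxT (hQT hsQ), hxs.mul_right (Commute.refl s), fun h0 => hxQ ?_,
          (3 * (i : ℕ)) % 8, ?_, ?_⟩
        · have := mul_mem h0 hsQ
          rwa [mul_assoc, H.s_sq, mul_one] at this
        · rw [← cj_cj, H.sa, ← cj_pow, hi, ← pow_mul, mul_comm, ← pow_eq_pow_mod _ H.a8]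
        · rcases e' with e' | e' <;> rw [e'] <;> simp
    · exfalso
      have h5 : cj x a ^ 2 = a ^ (4 * (i : ℕ)) := by
        rw [sq, hi, ← mul_assoc, H.pow_mul_s, mul_assoc, H.s_sq, mul_one]
        congr 1; omega
      have h4 : cj x a ^ 4 = 1 := by
        rw [show (4 : ℕ) = 2 * 2 from rfl, pow_mul, h5, ← pow_mul,
          show 4 * (i : ℕ) * 2 = 8 * i by ring, pow_mul, H.a8, one_pow]
      have := orderOf_dvd_of_pow_eq_one h4
      rw [h8] at this
      omega
  have hxx : x * x = 1 := hinv x hxs (Two.of_isPGroup T.2 hxT)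
  have hx_pow : ∀ j : ℕ, x * a ^ j = a ^ (c * j) * x := fun j => by
    have h1 : cj x (a ^ j) = a ^ (c * j) := by rw [← cj_pow, hxa, pow_mul]
    rw [← h1, cj, inv_mul_cancel_right]
  -- the subgroup generated by a and x
  have red : ∀ k : ℕ, ∃ i : Fin 8, a ^ k = a ^ (i : ℕ) := fun k =>
    ⟨⟨k % 8, Nat.mod_lt _ (by norm_num)⟩, pow_eq_pow_mod k H.a8⟩
  let M' : Subgroup G :=
    { carrier := {y | ∃ i : Fin 8, y = a ^ (i : ℕ) ∨ y = a ^ (i : ℕ) * x}
      one_mem' := ⟨0, Or.inl (by simp)⟩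
      mul_mem' := by
        rintro u w ⟨i, rfl | rfl⟩ ⟨j, rfl | rfl⟩
        · obtain ⟨k, hk⟩ := red (i + j); exact ⟨k, Or.inl (by rw [← pow_add, hk])⟩
        · obtain ⟨k, hk⟩ := red (i + j); exact ⟨k, Or.inr (by rw [← mul_assoc, ← pow_add, hk])⟩
        · obtain ⟨k, hk⟩ := red (i + c * j)
          exact ⟨k, Or.inr (by rw [mul_assoc, hx_pow, ← mul_assoc, ← pow_add, hk])⟩
        · obtain ⟨k, hk⟩ := red (i + c * j)
          exact ⟨k, Or.inl (by
            rw [mul_assoc (a ^ (i : ℕ)), ← mul_assoc x, hx_pow, mul_assoc _ x, hxx, mul_one, ← pow_add, hk])⟩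
      inv_mem' := by
        rintro u ⟨i, rfl | rfl⟩
        · refine ⟨⟨(8 - (i : ℕ)) % 8, Nat.mod_lt _ (by norm_num)⟩, Or.inl (inv_eq_of_mul_eq_one_right ?_)⟩
          rw [← pow_eq_pow_mod _ H.a8, ← pow_add, show (i : ℕ) + (8 - i) = 8 by omega, H.a8]
        · obtain ⟨k, hk⟩ := red (c * (8 - (i : ℕ)))
          refine ⟨k, Or.inr (inv_eq_of_mul_eq_one_right ?_)⟩
          rw [← hk, mul_assoc (a ^ (i : ℕ)), ← mul_assoc x, hx_pow, mul_assoc _ x, hxx, mul_one, ← pow_add]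
          rcases hc with rfl | rfl
          · rw [show (i : ℕ) + 1 * (1 * (8 - i)) = 8 by omega, H.a8]
          · rw [show (i : ℕ) + 5 * (5 * (8 - i)) = 8 * (25 - 3 * i) by omega, pow_mul, H.a8, one_pow] }
  have hM'16 : Nat.card M' = 16 := by
    let F : Fin 8 × Bool → M' := fun p =>
      ⟨a ^ (p.1 : ℕ) * if p.2 then x else 1, ⟨p.1, by rcases p.2 <;> simp⟩⟩
    have hF : Function.Bijective F := by
      constructor
      · rintro ⟨i, b⟩ ⟨j, d⟩ hij
        have h1 := congrArg Subtype.val hij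
        simp only [F] at h1
        have key : ∀ i j : Fin 8, a ^ (i : ℕ) ≠ a ^ (j : ℕ) * x := fun i j h2 => hxQ (by
          rw [show x = (a ^ (j : ℕ))⁻¹ * a ^ (i : ℕ) by rw [h2, inv_mul_cancel_left]]
          exact mul_mem (inv_mem ⟨j, Or.inl rfl⟩) ⟨i, Or.inl rfl⟩)
        rcases b <;> rcases d <;> simp only [Bool.false_eq_true, if_false, if_true, mul_one] at h1
        · rw [H.pow_inj h1]
        · exact absurd h1 (key i j)
        · exact absurd h1.symm (key j i)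
        · rw [H.pow_inj (mul_right_cancel h1)]
      · rintro ⟨y, i, rfl | rfl⟩
        · exact ⟨(i, false), Subtype.ext (by simp [F])⟩
        · exact ⟨(i, true), Subtype.ext (by simp [F])⟩
    rw [← Nat.card_congr (Equiv.ofBijective F hF)]
    simp
  have ha2 : ∀ {v : G}, IsConj s v → Commute v (a ^ 2) → False := fun {v} hv hva => by
    obtain ⟨g, rfl⟩ := isConj_iff.1 hv
    have h1 := cj_commute g⁻¹ (show Commute (cj g s) (a ^ 2) from hva)
    rw [cj_inv_cj] at h1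
    have h2 := hinv _ h1 (Two.conj g⁻¹ ⟨2, by rw [← pow_mul, show 2 * 2 ^ 2 = 8 by norm_num, H.a8]⟩)
    rw [← cj_mul, ← pow_add] at h2
    exact H.z_ne (H.z_eq.trans (cj_eq_one.1 h2))
  have hxa2 : Commute x (a ^ 2) := by
    show x * a ^ 2 = a ^ 2 * x
    rw [hx_pow]
    rcases hc with rfl | rfl
    · rw [one_mul]
    · rw [show 5 * 2 = 2 + 8 by norm_num, pow_add, H.a8, mul_one]
  have hnone : IsEmpty {y : M' // IsConj s (y : G)} := by
    refine ⟨?_⟩
    rintro ⟨⟨y, i, rfl | rfl⟩, hy⟩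
    · have hy' : IsConj s (a ^ (i : ℕ)) := hy
      have h1 := H.sq_of_conj hy'
      rw [← pow_add] at h1
      have h2 := H.pow_eq_one_iff'.1 h1
      rcases (show (i : ℕ) = 0 ∨ (i : ℕ) = 4 by omega) with e' | e' <;> rw [e'] at hy'
      · exact H.not_s_one hy' (pow_zero a)
      · rw [← H.z_eq] at hy'; exact hzs hy'
    · have hy' : IsConj s (a ^ (i : ℕ) * x) := hy
      have h1 := H.sq_of_conj hy'
      rw [mul_assoc, ← mul_assoc x, hx_pow, mul_assoc _ x, hxx, mul_one, ← pow_add] at h1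
      have h2 := H.pow_eq_one_iff'.1 h1
      have hi : (i : ℕ) = 0 ∨ (i : ℕ) = 4 := by rcases hc with rfl | rfl <;> omega
      refine ha2 hy' (Commute.mul_left ((Commute.refl a).pow_pow _ _) hxa2)
  obtain ⟨f', hf', hfm'⟩ := exists_fixed hG H.s_sq M'
  rw [hM'16, Nat.card_eq_zero.2 (Or.inl hnone), mul_zero] at hf'
  have h1 := M'.card_mul_index
  rw [hM'16, ← hGc] at h1
  omega

end Cfg

end Cfsg.Agent.M11ThreeLocal
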