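import Cfsg.Agent.M11ThreeLocal.Counts
import Cfsg.Agent.M11ThreeLocal.SevenInvol
import Cfsg.Agent.SelfCentThree.Small

/-!
# The third shape does not occur
-/

set_option autoImplicit false
set_option linter.unusedSectionVars false

namespace Cfsg.Agent.M11ThreeLocal

open Subgroup

variable {G : Type*} [Group G] [Finite G] {M : Subgroup G} {e h s t z a : G}

namespace Cfg

variable (H : Cfg M e h s t z a)

include H

/-- If `z` is conjugate to `s`, then `s` is a fourth power in its centraliser. -/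
theorem exists_root (hsz : IsConj s z) : ∃ y, Commute s y ∧ Two y ∧ y ^ 4 = s := by
  obtain ⟨c, hc⟩ := isConj_iff.1 hsz
  have hc' : cj c⁻¹ z = s := by rw [← hc]; exact cj_inv_cj c s
  refine ⟨cj c⁻¹ a, ?_, ?_, ?_⟩
  · have h1 := cj_commute c⁻¹ H.za
    rwa [hc'] at h1
  · exact ⟨3, by rw [cj_pow, show (2 : ℕ) ^ 3 = 8 by norm_num, H.a8, cj_one]⟩
  · rw [cj_pow, ← H.z_eq, hc']

theorem not_TIII [IsSimpleGroup G] (hG : ¬ IsMulCommutative G) (hT : TIII s) : False := by
  classical
  obtain ⟨φ, hs, hk⟩ := hT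
  have hk' : ∀ x, φ x = 1 ↔ ((x : G) = 1 ∨ (x : G) = s) := fun x => (hk x).trans (mem_zpowers_invol H.s_sq)
  obtain ⟨T, hT⟩ : ∃ T : (centralizer ({s} : Set G)), (T : G) = t := ⟨⟨t, mem_L.2 H.ts_comm.symm⟩, rfl⟩
  obtain ⟨S, hS⟩ : ∃ S : (centralizer ({s} : Set G)), (S : G) = s := ⟨⟨s, mem_L.2 (Commute.refl s)⟩, rfl⟩
  have hφS : φ S = 1 := (hk' S).2 (Or.inr hS)
  have hT2 : φ T * φ T = 1 := by rw [← map_mul, show T * T = 1 from Subtype.ext (by simp [hT, H.tt]), map_one]
  have hT1 : φ T ≠ 1 := fun h0 => by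
    rcases (hk' T).1 h0 with e' | e' <;> rw [hT] at e'
    exacts [H.t_ne e', H.t_ne_s e']
  have hcardL : Nat.card (centralizer ({s} : Set G)) = 336 := by
    have h1 := card_eq_card_quotient_mul_card_subgroup φ.ker
    have hker : φ.ker = (zpowers s).subgroupOf (centralizer ({s} : Set G)) := by
      ext x
      rw [MonoidHom.mem_ker, mem_subgroupOf]
      exact hk x
    rw [Nat.card_congr (QuotientGroup.quotientKerEquivOfSurjective φ hs).toEquiv,
      (SelfCentThree.psl_seven).2, hker,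
      Nat.card_congr (subgroupOfEquivOfLe (zpowers_le.2 (mem_L.2 (Commute.refl s)))).toEquiv,
      Nat.card_zpowers, orderOf_eq_prime (hp := ⟨Nat.prime_two⟩) (by rw [sq, H.s_sq]) H.s_ne] at h1
    rw [h1]
  -- the lifts of an involution
  have hlift : ∀ y : (centralizer ({s} : Set G)), φ y * φ y = 1 → φ y ≠ 1 → ∃ g : (centralizer ({s} : Set G)), (y : G) = cj (g : G) t ∨ (y : G) = cj (g : G) z := by
    intro y hy hy1
    obtain ⟨c, hc⟩ := isConj_iff.1 (invol_isConj hT2 hT1 hy hy1)
    obtain ⟨g, rfl⟩ := hs c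
    refine ⟨g, ?_⟩
    rw [← map_inv, ← map_mul, ← map_mul] at hc
    have h1 : φ ((g * T * g⁻¹)⁻¹ * y) = 1 := by rw [map_mul, map_inv, hc, inv_mul_cancel]
    have hval : ((g * T * g⁻¹ : (centralizer ({s} : Set G))) : G) = cj (g : G) t := by simp [cj, hT]
    rcases (hk' _).1 h1 with e' | e'
    · left
      rw [coe_mul, InvMemClass.coe_inv, hval, inv_mul_eq_one] at e'
      exact e'.symm
    · right
      rw [coe_mul, InvMemClass.coe_inv, hval, inv_mul_eq_iff_eq_mul] at e'
      rw [e', ← H.ts, cj_mul, cj_of_commute (mem_L.1 g.2).symm]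
  have hroot : ∀ y : (centralizer ({s} : Set G)), (y : G) ^ 4 ≠ s := fun y hy => by
    have h44 : ((y * y : (centralizer ({s} : Set G))) : G) * (y * y : (centralizer ({s} : Set G))) = s := by
      refine Eq.trans ?_ hy; simp only [coe_mul, pow_succ, pow_zero, one_mul, mul_assoc]
    by_cases h2 : φ y * φ y = 1
    · rw [← map_mul, hk'] at h2
      rcases h2 with e' | e' <;> rw [e'] at h44
      · exact H.s_ne (h44.symm.trans (one_mul 1))
      · exact H.s_ne (h44.symm.trans H.s_sq)
    · have h4 : φ (y * y) * φ (y * y) = 1 := by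
        rw [← map_mul]
        exact (hk' _).2 (Or.inr h44)
      obtain ⟨g, hg | hg⟩ := hlift (y * y) h4 (by rw [map_mul]; exact h2) <;> rw [hg, ← cj_mul] at h44
      · rw [H.tt, cj_one] at h44; exact H.s_ne h44.symm
      · rw [H.zz, cj_one] at h44; exact H.s_ne h44.symm
  have hzs : ¬ IsConj s z := fun hsz => by
    obtain ⟨y, hy, -, hy4⟩ := H.exists_root hsz
    exact hroot ⟨y, mem_L.2 hy⟩ hy4
  -- counting in the centraliser
  have hcount : Nat.card {x : (centralizer ({s} : Set G)) // IsConj s (x : G)} = 22 := by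
    have hinv : ∀ x : {x : (centralizer ({s} : Set G)) // IsConj s (x : G)}, φ x.1 * φ x.1 = 1 := fun x => by
      rw [← map_mul, show x.1 * x.1 = 1 from Subtype.ext (H.sq_of_conj x.2), map_one]
    have hone : ∀ x : {x : (centralizer ({s} : Set G)) // IsConj s (x : G)}, φ x.1 = 1 → (x.1 : G) = s := fun x hx =>
      ((hk' _).1 hx).resolve_left (H.not_s_one x.2)
    have hconjt : ∀ x : {x : (centralizer ({s} : Set G)) // IsConj s (x : G)}, φ x.1 ≠ 1 → ∃ g : (centralizer ({s} : Set G)), (x.1 : G) = cj (g : G) t :=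
        fun x hx => by
      obtain ⟨g, hg | hg⟩ := hlift x.1 (hinv x) hx
      · exact ⟨g, hg⟩
      · exact absurd (x.2.trans (isConj_iff.2 ⟨(g : G), hg.symm⟩).symm) hzs
    let F : {x : (centralizer ({s} : Set G)) // IsConj s (x : G)} → Option {q : P7 // q * q = 1 ∧ q ≠ 1} := fun x =>
      if hx : φ x.1 = 1 then none else some ⟨φ x.1, hinv x, hx⟩
    have hinj : Function.Injective F := by
      intro x y hxy
      by_cases hx : φ x.1 = 1 <;> by_cases hy : φ y.1 = 1
      · exact Subtype.ext (Subtype.ext ((hone x hx).trans (hone y hy).symm))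
      · simp [F, hx, hy] at hxy
      · simp [F, hx, hy] at hxy
      · simp only [F, dif_neg hx, dif_neg hy, Option.some.injEq, Subtype.mk.injEq] at hxy
        have h1 : φ (x.1⁻¹ * y.1) = 1 := by rw [map_mul, map_inv, hxy, inv_mul_cancel]
        rcases (hk' _).1 h1 with e' | e' <;> rw [coe_mul, InvMemClass.coe_inv] at e'
        · exact Subtype.ext (Subtype.ext (inv_mul_eq_one.1 e'))
        · exfalso
          obtain ⟨g, hg⟩ := hconjt x hx
          rw [inv_mul_eq_iff_eq_mul, hg] at e'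
          refine hzs (y.2.trans (isConj_iff.2 ⟨(g : G), ?_⟩).symm)
          show cj (g : G) z = (y.1 : G)
          rw [e', ← H.ts, cj_mul, cj_of_commute (mem_L.1 g.2).symm]
    have hsurj : Function.Surjective F := by
      intro o
      rcases o with _ | ⟨q, hq, hq1⟩
      · exact ⟨⟨S, by rw [hS]⟩, dif_pos hφS⟩
      · obtain ⟨c, hc⟩ := isConj_iff.1 (invol_isConj hT2 hT1 hq hq1)
        obtain ⟨g, rfl⟩ := hs c
        rw [← map_inv, ← map_mul, ← map_mul] at hc
        refine ⟨⟨g * T * g⁻¹, H.conj_s_t.trans (isConj_iff.2 ⟨(g : G), by simp [hT]⟩)⟩, ?_⟩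
        show (if hx : φ (g * T * g⁻¹) = 1 then none else some _) = some _
        rw [dif_neg (hc ▸ hq1)]
        exact congrArg some (Subtype.ext hc)
    rw [Nat.card_congr (Equiv.ofBijective F ⟨hinj, hsurj⟩), Finite.card_option, card_invol]
  obtain ⟨f, hf, hfm⟩ := exists_fixed hG H.s_sq (centralizer ({s} : Set G))
  obtain ⟨f', hf', hfm'⟩ := H.fixed_N hG hzs
  rw [hcount, hcardL] at hf
  rw [hcardL] at hf'
  have h1 := H.index_N
  have h2 := (centralizer ({s} : Set G)).card_mul_index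
  rw [hcardL] at h2
  omega

end Cfg

end Cfsg.Agent.M11ThreeLocal
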